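import Cfsg.Agent.H1.Frat

set_option autoImplicit false

/-! Counting subgroups of order p in groups of exponent p. -/

open Cfsg Subgroup
open scoped Pointwise commutatorElement

namespace CfsgH1

universe u v

theorem card_subgroups_order_p {Q : Type u} [Group Q] [Finite Q] {p : ℕ} [hp : Fact p.Prime] (hQ : ∀ x : Q, x ^ p = 1) : 
    Nat.card {H : Subgroup Q // Nat.card H = p} * (p - 1) = Nat.card Q - 1 := by
  have hz : ∀ x : Q, x ≠ 1 → Nat.card (Subgroup.zpowers x) = p := by
    intro x hx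
    rw [Nat.card_zpowers]
    exact orderOf_eq_prime (hQ x) hx
  have huniq : ∀ (H : Subgroup Q) (_ : Nat.card H = p) (x : Q) (_ : x ∈ H) (_ : x ≠ 1), Subgroup.zpowers x = H := by
    intro H hH x hx hx1
    exact Subgroup.eq_of_le_of_card_ge (Subgroup.zpowers_le.2 hx) (by rw [hz x hx1, hH])
  let e : {x : Q // x ≠ 1} ≃ Σ H : {H : Subgroup Q // Nat.card H = p}, {x : (H : Subgroup Q) // x ≠ 1} := 
    { toFun := fun x => ⟨⟨Subgroup.zpowers x.1, hz x.1 x.2⟩, ⟨⟨x.1, Subgroup.mem_zpowers _⟩, fun h => x.2 (congrArg Subtype.val h)⟩⟩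
      invFun := fun y => ⟨y.2.1.1, fun h => y.2.2 (Subtype.ext h)⟩
      left_inv := fun x => rfl
      right_inv := by
        rintro ⟨⟨H, hH⟩, ⟨⟨x, hx⟩, hx1⟩⟩
        have hx1' : x ≠ 1 := fun h => hx1 (Subtype.ext h)
        have := huniq H hH x hx hx1'
        subst this
        rfl }
  have h1 : Nat.card {x : Q // x ≠ 1} = Nat.card Q - 1 := by
    classical
    haveI := Fintype.ofFinite Q
    rw [Nat.card_eq_fintype_card, Nat.card_eq_fintype_card, Fintype.card_subtype_compl, Fintype.card_subtype_eq]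
  haveI := Fintype.ofFinite {H : Subgroup Q // Nat.card H = p}
  rw [← h1, Nat.card_congr e, Nat.card_sigma]
  have h2 : ∀ H : {H : Subgroup Q // Nat.card H = p}, Nat.card {x : (H : Subgroup Q) // x ≠ 1} = p - 1 := by
    rintro ⟨H, hH⟩
    classical
    haveI := Fintype.ofFinite H
    rw [Nat.card_eq_fintype_card, Fintype.card_subtype_compl, Fintype.card_subtype_eq, ← Nat.card_eq_fintype_card, hH]
  rw [Finset.sum_congr rfl (fun H _ => h2 H), Finset.sum_const, Nat.card_eq_fintype_card, smul_eq_mul, Finset.card_univ]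

end CfsgH1
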