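import Mathlib
import Cfsg.Agent.H1.PGrp2
import Cfsg.Agent.H1.CountP
import Cfsg.Agent.S3866
import Cfsg.Prelude.Def_Transfer

set_option autoImplicit false

open Cfsg Subgroup
open scoped Pointwise commutatorElement

namespace CfsgH1

universe u v
variable {S : Type u} [Group S]

theorem coatom_of_index_prime [Finite S] {p : ℕ} [hp : Fact p.Prime] {A : Subgroup S} (hAi : A.index = p) {K : Subgroup S} (hAK : A < K) : K = ⊤ := by
  have h1 := Subgroup.index_dvd_of_le hAK.le
  rw [hAi] at h1
  rcases (Nat.dvd_prime hp.out).1 h1 with h | h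
  · exact Subgroup.index_eq_one.1 h
  · exfalso
    have h2 := Subgroup.index_mul_card K
    have h3 := Subgroup.index_mul_card A
    rw [h, ← h3, hAi] at h2
    have h4 := Nat.eq_of_mul_eq_mul_left hp.out.pos h2
    exact hAK.ne (Subgroup.eq_of_le_of_card_ge hAK.le h4.le)

theorem center_le_of_abelian_index [Finite S] {p : ℕ} [hp : Fact p.Prime] (hna : ¬ IsMulCommutative S)
    {A : Subgroup S} (hA : ∀ a ∈ A, ∀ b ∈ A, a * b = b * a) (hAi : A.index = p) : Subgroup.center S ≤ A := by
  intro z hz
  by_contra hzA
  apply hna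
  have h1 : A ⊔ Subgroup.center S = ⊤ := coatom_of_index_prime hAi (lt_of_le_of_ne le_sup_left (fun h => hzA (by rw [h]; exact (le_sup_right : Subgroup.center S ≤ _) hz)))
  refine ⟨⟨fun x y => ?_⟩⟩
  have hx : x ∈ A ⊔ Subgroup.center S := by rw [h1]; exact mem_top x
  have hy : y ∈ A ⊔ Subgroup.center S := by rw [h1]; exact mem_top y
  obtain ⟨a, ha, c, hc, rfl⟩ := mem_sup_of_normal_right.1 hx
  obtain ⟨b, hb, d, hd, rfl⟩ := mem_sup_of_normal_right.1 hy
  have hc' := Subgroup.mem_center_iff.1 hc
  have hd' := Subgroup.mem_center_iff.1 hd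
  calc a * c * (b * d) = a * (c * b) * d := by group
    _ = a * (b * c) * d := by rw [hc' b]
    _ = (a * b) * (c * d) := by group
    _ = (b * a) * (d * c) := by rw [hA a ha b hb, hd' c]
    _ = b * (a * d) * c := by group
    _ = b * (d * a) * c := by rw [hd' a]
    _ = b * d * (a * c) := by group

theorem abidx_key [Finite S] {p : ℕ} [hp : Fact p.Prime] (hS : IsPGroup p S) (hna : ¬ IsMulCommutative S)
    {A : Subgroup S} (hA : ∀ a ∈ A, ∀ b ∈ A, a * b = b * a) (hAi : A.index = p) : 
    (Subgroup.center S).index = p * Nat.card (commutator S) := by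
  haveI hAn : A.Normal := normal_of_index_prime_pgroup hS hAi
  obtain ⟨x, hx⟩ : ∃ x : S, x ∉ A := by
    by_contra hcon
    push Not at hcon
    have : A = ⊤ := eq_top_iff.2 fun g _ => hcon g
    rw [this, Subgroup.index_top] at hAi
    exact hp.out.one_lt.ne hAi
  have hgen : A ⊔ zpowers x = ⊤ := coatom_of_index_prime hAi (lt_of_le_of_ne le_sup_left 
    (fun h => hx (by rw [h]; exact (le_sup_right : zpowers x ≤ _) (mem_zpowers x))))
  have h1 := (Cfsg.Agent.S3866.result A ⟨⟨fun a b => Subtype.ext (hA a a.2 b b.2)⟩⟩ x hgen).2.2.2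
  have h2 : A ⊓ centralizer ({x} : Set S) = Subgroup.center S := by
    apply le_antisymm
    · rintro z ⟨hz, hzx⟩
      rw [Subgroup.mem_center_iff]
      intro g
      have h3 : (⊤ : Subgroup S) ≤ centralizer {z} := by
        rw [← hgen]
        apply sup_le
        · intro a ha
          rw [mem_centralizer_iff]
          intro y hy
          rw [Set.mem_singleton_iff.1 hy]
          exact hA z hz a ha
        · rw [zpowers_le, mem_centralizer_iff]
          intro y hy
          rw [Set.mem_singleton_iff.1 hy]
          exact ((mem_centralizer_iff.1 hzx) x rfl).symm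
      exact ((mem_centralizer_iff.1 (h3 (mem_top g))) z rfl).symm
    · apply le_inf (center_le_of_abelian_index hna hA hAi)
      exact Subgroup.center_le_centralizer _
  rw [h2] at h1
  have h3 := Subgroup.index_mul_card (Subgroup.center S)
  have h4 := Subgroup.index_mul_card A
  rw [hAi, ← h1, ← h3] at h4
  have h5 : 0 < Nat.card (Subgroup.center S) := Nat.card_pos
  apply Nat.eq_of_mul_eq_mul_right h5
  rw [← h4]; ring

/-- extraspecial with an abelian subgroup of index `p` has order `p³`: the centre has index `p²` -/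
theorem center_index_of_extraspecial [Finite S] {p : ℕ} [hp : Fact p.Prime] (hE : IsExtraspecial p S) 
    {A : Subgroup S} (hA : ∀ a ∈ A, ∀ b ∈ A, a * b = b * a) (hAi : A.index = p) : Nat.card S = p ^ 3 := by
  have hna : ¬ IsMulCommutative S := by
    intro h
    have h1 : commutator S = ⊥ := by
      rw [commutator_def, Subgroup.commutator_eq_bot_iff_le_centralizer]
      intro x _
      rw [mem_centralizer_iff]
      intro y _
      exact h.is_comm.comm y x
    have h2 := hE.2
    rw [← hE.1.2.2, h1, Subgroup.card_bot] at h2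
    exact hp.out.one_lt.ne h2
  have h1 := abidx_key hE.1.1 hna hA hAi
  rw [hE.1.2.2, hE.2] at h1
  have h2 := Subgroup.index_mul_card (Subgroup.center S)
  rw [h1, hE.2] at h2
  rw [← h2]; ring

end CfsgH1
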