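import Cfsg.Agent.H1.SylSys
import Cfsg.Agent.H1.MinNormal
import Cfsg.Agent.H1.Basic

set_option autoImplicit false

/-! Kegel's lemma on permutable subgroups. -/

open scoped Pointwise commutatorElement

namespace CfsgH1

open Subgroup Cfsg

universe u v w
variable {G : Type u} [Group G]

theorem permute_of_coe {A B S : Subgroup G} (h : (S : Set G) = (A : Set G) * (B : Set G)) : 
    (A : Set G) * (B : Set G) = (B : Set G) * (A : Set G) := by
  have h1 : ((S : Set G))⁻¹ = (S : Set G) := by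
    ext x; rw [Set.mem_inv]; exact S.inv_mem_iff
  have h2 : ((A : Set G) * (B : Set G))⁻¹ = (B : Set G) * (A : Set G) := by
    rw [mul_inv_rev]
    congr 1
    · ext x; rw [Set.mem_inv]; exact B.inv_mem_iff
    · ext x; rw [Set.mem_inv]; exact A.inv_mem_iff
  rw [← h2, ← h, h1]

theorem permute_conj {A B : Subgroup G} (h : (A : Set G) * (B : Set G) = (B : Set G) * (A : Set G)) (g : G) :
    ((MulAut.conj g • A : Subgroup G) : Set G) * ((MulAut.conj g • B : Subgroup G) : Set G) = 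
    ((MulAut.conj g • B : Subgroup G) : Set G) * ((MulAut.conj g • A : Subgroup G) : Set G) := by
  have key : ∀ X Y : Subgroup G, ((MulAut.conj g • X : Subgroup G) : Set G) * ((MulAut.conj g • Y : Subgroup G) : Set G) = 
      (MulAut.conj g) '' ((X : Set G) * (Y : Set G)) := by
    intro X Y
    rw [Set.image_mul]
    rfl
  rw [key, key, h]

/-- the join of two subgroups permuting with `B` permutes with `B` -/
theorem permute_join {X Y B : Subgroup G} (hX : (X : Set G) * (B : Set G) = (B : Set G) * (X : Set G)) 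
    (hY : (Y : Set G) * (B : Set G) = (B : Set G) * (Y : Set G)) : 
    ((X ⊔ Y : Subgroup G) : Set G) * (B : Set G) = (B : Set G) * ((X ⊔ Y : Subgroup G) : Set G) := by
  have key : ∀ w ∈ X ⊔ Y, ∀ b ∈ B, b * w ∈ ((X ⊔ Y : Subgroup G) : Set G) * (B : Set G) := by
    intro w hw
    rw [Subgroup.sup_eq_closure] at hw
    have hgen : ∀ x, x ∈ X ∨ x ∈ Y → ∀ b ∈ B, b * x ∈ ((X ⊔ Y : Subgroup G) : Set G) * (B : Set G) := by
      rintro x (hx | hx) b hb
      · have h1 : b * x ∈ (B : Set G) * (X : Set G) := Set.mul_mem_mul hb hx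
        rw [← hX] at h1
        obtain ⟨x', hx', b', hb', h2⟩ := Set.mem_mul.1 h1
        rw [← h2]
        exact Set.mul_mem_mul (le_sup_left (a := X) hx') hb'
      · have h1 : b * x ∈ (B : Set G) * (Y : Set G) := Set.mul_mem_mul hb hx
        rw [← hY] at h1
        obtain ⟨x', hx', b', hb', h2⟩ := Set.mem_mul.1 h1
        rw [← h2]
        exact Set.mul_mem_mul (le_sup_right (a := X) hx') hb'
    refine Subgroup.closure_induction'' (p := fun w _ => ∀ b ∈ B, b * w ∈ ((X ⊔ Y : Subgroup G) : Set G) * (B : Set G)) ?_ ?_ ?_ ?_ hw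
    · intro x hx
      exact hgen x hx
    · intro x hx
      exact hgen x⁻¹ (hx.imp (fun h => X.inv_mem h) (fun h => Y.inv_mem h))
    · intro b hb
      rw [mul_one]
      exact ⟨1, one_mem _, b, hb, one_mul b⟩
    · intro x y _ _ hx hy b hb
      obtain ⟨w1, hw1, b1, hb1, h1⟩ := Set.mem_mul.1 (hx b hb)
      obtain ⟨w2, hw2, b2, hb2, h2⟩ := Set.mem_mul.1 (hy b1 hb1)
      refine ⟨w1 * w2, (X ⊔ Y).mul_mem hw1 hw2, b2, hb2, ?_⟩
      change w1 * w2 * b2 = b * (x * y)
      calc w1 * w2 * b2 = w1 * (w2 * b2) := by group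
        _ = w1 * (b1 * y) := by rw [h2]
        _ = (w1 * b1) * y := by group
        _ = b * (x * y) := by rw [h1]; group
  have hsub : (B : Set G) * ((X ⊔ Y : Subgroup G) : Set G) ⊆ ((X ⊔ Y : Subgroup G) : Set G) * (B : Set G) := by
    rintro _ ⟨b, hb, w, hw, rfl⟩
    exact key w hw b hb
  apply Set.Subset.antisymm ?_ hsub
  intro z hz
  have h1 : z⁻¹ ∈ (B : Set G) * ((X ⊔ Y : Subgroup G) : Set G) := by
    obtain ⟨w, hw, b, hb, rfl⟩ := Set.mem_mul.1 hz
    rw [mul_inv_rev]
    exact Set.mul_mem_mul (B.inv_mem hb) ((X ⊔ Y).inv_mem hw)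
  obtain ⟨w, hw, b, hb, h2⟩ := Set.mem_mul.1 (hsub h1)
  refine ⟨b⁻¹, B.inv_mem hb, w⁻¹, (X ⊔ Y).inv_mem hw, ?_⟩
  change b⁻¹ * w⁻¹ = z
  rw [← mul_inv_rev, h2, inv_inv]

/-- **Kegel's lemma** -/
theorem kegel_lemma [Finite G] {A B : Subgroup G} 
    (h : ∀ x : G, ∃ S : Subgroup G, S ≠ ⊤ ∧ (S : Set G) = (A : Set G) * ((MulAut.conj x • B : Subgroup G) : Set G)) : 
    ∃ N : Subgroup G, N.Normal ∧ N ≠ ⊤ ∧ (A ≤ N ∨ B ≤ N) := by
  obtain ⟨A', ⟨hAA', hA'⟩, hmax⟩ := exists_maximal_of_set {A' : Subgroup G | A ≤ A' ∧ 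
    ∀ x : G, ∃ S : Subgroup G, S ≠ ⊤ ∧ (S : Set G) = (A' : Set G) * ((MulAut.conj x • B : Subgroup G) : Set G)} ⟨A, le_rfl, h⟩
  have hA't : A' ≠ ⊤ := by
    intro ht
    obtain ⟨S, hS, hSe⟩ := hA' 1
    apply hS
    rw [eq_top_iff]
    intro z _
    change z ∈ (S : Set G)
    rw [hSe]
    exact ⟨z, by rw [ht]; trivial, 1, one_mem _, mul_one z⟩
  have key : ∀ g : G, MulAut.conj g • B ≤ normalizer (A' : Set G) := by
    intro g b hb
    by_contra hbn
    set A1 : Subgroup G := A' ⊔ (MulAut.conj b • A') with hA1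
    have hlt : A' ≤ A1 := le_sup_left
    have hne : A1 ≠ A' := by
      intro he
      apply hbn
      rw [← conj_smul_eq_self_iff]
      have h1 : MulAut.conj b • A' ≤ A' := by
        calc MulAut.conj b • A' ≤ A1 := le_sup_right
          _ = A' := he
      exact eq_of_le_of_card_le h1 (by rw [card_conj_smul])
    have hnot : ¬ ∀ x : G, ∃ S : Subgroup G, S ≠ ⊤ ∧ (S : Set G) = (A1 : Set G) * ((MulAut.conj x • B : Subgroup G) : Set G) := by
      intro hall
      exact hne (hmax A1 ⟨hAA'.trans hlt, hall⟩ hlt)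
    push Not at hnot
    obtain ⟨x, hx⟩ := hnot
    have hperm : (A1 : Set G) * ((MulAut.conj x • B : Subgroup G) : Set G) = ((MulAut.conj x • B : Subgroup G) : Set G) * (A1 : Set G) := by
      apply permute_join
      · obtain ⟨S, -, hS⟩ := hA' x
        exact permute_of_coe hS
      · obtain ⟨S, -, hS⟩ := hA' (b⁻¹ * x)
        have h1 := permute_conj (permute_of_coe hS) b
        rw [← mul_smul, ← map_mul, mul_inv_cancel_left] at h1
        exact h1
    have htop : A1 ⊔ (MulAut.conj x • B) = ⊤ := by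
      by_contra hne
      exact hx _ hne (coe_sup_of_permute hperm)
    -- L = A' B^g
    obtain ⟨L, hLt, hL⟩ := hA' g
    have hAL : A' ≤ L := by
      intro z hz
      change z ∈ (L : Set G)
      rw [hL]; exact ⟨z, hz, 1, one_mem _, mul_one z⟩
    have hBL : MulAut.conj g • B ≤ L := by
      intro z hz
      change z ∈ (L : Set G)
      rw [hL]; exact ⟨1, one_mem _, z, hz, one_mul z⟩
    have hA1L : A1 ≤ L := by
      apply sup_le hAL
      have h1 := conj_smul_mono b hAL
      rwa [conj_smul_of_mem (hBL hb)] at h1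
    have hfact : ∀ z : G, ∃ l ∈ L, ∃ c ∈ MulAut.conj x • B, z = l * c := by
      intro z
      have hz : z ∈ ((A1 ⊔ (MulAut.conj x • B) : Subgroup G) : Set G) := by rw [htop]; trivial
      rw [coe_sup_of_permute hperm] at hz
      obtain ⟨l, hl, c, hc, rfl⟩ := Set.mem_mul.1 hz
      exact ⟨l, hA1L hl, c, hc, rfl⟩
    obtain ⟨l, hl, c, hc, hlc⟩ := hfact (g * x⁻¹)
    have h1 : MulAut.conj g • B = MulAut.conj l • (MulAut.conj x • B : Subgroup G) := by
      have h2 : g = l * c * x := by rw [← hlc]; group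
      rw [h2, map_mul, map_mul, mul_smul, mul_smul, conj_smul_of_mem hc]
    have h2 : MulAut.conj x • B ≤ L := by
      have h3 : MulAut.conj x • B = MulAut.conj l⁻¹ • (MulAut.conj g • B : Subgroup G) := by
        rw [h1, ← mul_smul, ← map_mul, inv_mul_cancel, map_one, one_smul]
      rw [h3]
      have h4 := conj_smul_mono l⁻¹ hBL
      rwa [conj_smul_of_mem (L.inv_mem hl)] at h4
    apply hLt
    rw [eq_top_iff, ← htop]
    exact sup_le hA1L h2
  by_cases hK : Subgroup.normalClosure (B : Set G) = ⊤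
  · refine ⟨A', ?_, hA't, Or.inl hAA'⟩
    rw [← normalizer_eq_top_iff, eq_top_iff, ← hK, Subgroup.normalClosure, Subgroup.closure_le]
    intro z hz
    rw [Group.mem_conjugatesOfSet_iff] at hz
    obtain ⟨b, hb, hbz⟩ := hz
    obtain ⟨c, rfl⟩ := isConj_iff.1 hbz
    apply key c
    rw [mem_conj_smul]
    have : c⁻¹ * (c * b * c⁻¹) * c = b := by group
    rw [this]; exact hb
  · exact ⟨_, Subgroup.normalClosure_normal, hK, Or.inr Subgroup.subset_normalClosure⟩

end CfsgH1
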