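import Cfsg.Agent.H1.Hall
import Cfsg.Agent.H1.MinNon
import Cfsg.Agent.H3.NPC2
import Cfsg.Agent.H3.NilNPC

set_option autoImplicit false

/-! normal pi-complements. -/

open scoped Pointwise commutatorElement

namespace CfsgH1

open Subgroup Cfsg

theorem exists_pi_complement {G : Type*} [Group G] [Finite G] (H : Subgroup G) 
    (hHall : CfsgH1.PiNum {p | p ∣ Nat.card H}ᶜ H.index)
    (hnpc : ∀ p : ℕ, p.Prime → p ∣ Nat.card H → CfsgH3.HasNPC p G) : ∃ N : Subgroup G, N.Normal ∧ Subgroup.IsComplement' N H := by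
  obtain ⟨N, ⟨hNn, hNi⟩, hNmin⟩ := CfsgH1.exists_minimal_of_set {N : Subgroup G | N.Normal ∧ CfsgH1.PiNum {p | p ∣ Nat.card H} N.index}
    ⟨⊤, inferInstance, by rw [Subgroup.index_top]; exact CfsgH1.PiNum.one⟩
  have hNc : CfsgH1.PiNum {p | p ∣ Nat.card H}ᶜ (Nat.card N) := by
    intro p hp hpN hpH
    obtain ⟨M, hM, hMc, k, hk⟩ := hnpc p hp hpH
    have h1 : N ⊓ M = N := by
      refine hNmin _ ⟨inferInstance, ?_⟩ inf_le_left
      have h2 : (N ⊓ M).index ∣ N.index * M.index := by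
        rw [← Subgroup.relIndex_mul_index (inf_le_left : N ⊓ M ≤ N), mul_comm, Subgroup.inf_relIndex_left]
        exact Nat.mul_dvd_mul_left _ (Subgroup.relIndex_dvd_index_of_normal M N)
      refine CfsgH1.PiNum.of_dvd (CfsgH1.PiNum.mul hNi ?_) h2
      rw [hk]
      exact CfsgH1.PiNum.pow hp hpH
    have h2 : N ≤ M := inf_eq_left.1 h1
    exact (hp.coprime_iff_not_dvd.1 hMc.symm) (hpN.trans (Subgroup.card_dvd_of_le h2))
  refine ⟨N, hNn, ?_⟩
  have hHc : CfsgH1.PiNum {p | p ∣ Nat.card H} (Nat.card H) := CfsgH1.piNum_primes_of_dvd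
  have h1 : N.index * Nat.card N = Nat.card H * H.index := by
    rw [mul_comm, Subgroup.card_mul_index, Subgroup.card_mul_index]
  obtain ⟨h2, h3⟩ := CfsgH1.eq_of_mul_eq_mul_coprime h1 (hNi.coprime hHall) (hHc.coprime hNc)
  apply Subgroup.isComplement'_of_coprime
  · rw [← h2, Subgroup.card_mul_index]
  · rw [← h2]
    exact (hNi.coprime hNc).symm

universe u v w
variable {G : Type u} [Group G]

/-- a nilpotent subgroup is the product of its Sylow `p`-subgroup with its centralizer -/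
theorem nilpotent_eq_sylow_mul_centralizer [Finite G] {p : ℕ} [hp : Fact p.Prime] {H P : Subgroup G} (hH : Group.IsNilpotent H)
    (hP : IsSylowOf p P H) {h : G} (hh : h ∈ H) : ∃ u ∈ P, ∃ v ∈ H ⊓ centralizer (P : Set G), h = u * v := by
  obtain ⟨P', rfl⟩ := hP
  have h1 : (P' : Subgroup H) ⊔ centralizer ((P' : Subgroup H) : Set H) = ⊤ := by
    apply eq_top_of_sylow_le
    intro q hq
    by_cases hqp : q = p
    · subst hqp; exact ⟨P', le_sup_left⟩
    · haveI : Fact q.Prime := ⟨hq⟩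
      obtain ⟨Q⟩ := (inferInstance : Nonempty (Sylow q H))
      refine ⟨Q, le_trans ?_ le_sup_right⟩
      intro x hx
      rw [mem_centralizer_iff]
      intro y hy
      obtain ⟨a, ha⟩ := IsPGroup.iff_orderOf.1 Q.2 ⟨x, hx⟩
      obtain ⟨b, hb⟩ := IsPGroup.iff_orderOf.1 P'.2 ⟨y, hy⟩
      rw [Subgroup.orderOf_mk] at ha hb
      exact CfsgH3.commute_of_nilpotent H y x (p ^ b) (q ^ a) (by rw [← hb, pow_orderOf_eq_one]) 
          (by rw [← ha, pow_orderOf_eq_one]) (Nat.Coprime.pow _ _ ((Nat.coprime_primes hp.out hq).2 (Ne.symm hqp)))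
  have h2 : (⟨h, hh⟩ : H) ∈ (P' : Subgroup H) ⊔ centralizer ((P' : Subgroup H) : Set H) := by rw [h1]; trivial
  haveI : (P' : Subgroup H).Normal := by
    rw [← normalizer_eq_top_iff, eq_top_iff, ← h1]
    exact sup_le le_normalizer (centralizer_le_normalizer _)
  obtain ⟨u, hu, v, hv, huv⟩ := Subgroup.mem_sup_of_normal_left.1 h2
  refine ⟨u, ⟨u, hu, rfl⟩, v, ⟨v.2, ?_⟩, (congrArg Subtype.val huv).symm⟩
  change (v : G) ∈ centralizer _
  rw [mem_centralizer_iff]
  rintro _ ⟨y, hy, rfl⟩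
  exact congrArg Subtype.val (mem_centralizer_iff.1 hv y hy)

end CfsgH1
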