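import Cfsg.Agent.H1.FactHall
import Cfsg.Agent.H1.PGrp2
import Cfsg.Agent.H1.Kegel
import Cfsg.Agent.H1.MinNon
import Cfsg.Agent.H1.Fit
import Cfsg.Agent.H1.CoprimeSylow
import Cfsg.Agent.S0581
import Cfsg.Agent.S0558
import Cfsg.Agent.S0143

set_option autoImplicit false

/-! The Wielandt–Kegel theorem on products of nilpotent groups. -/

open Cfsg Subgroup
open scoped Pointwise commutatorElement

namespace CfsgH1

universe u v
variable {G : Type u} [Group G]

theorem le_of_sylowOf_normal [Finite G] {p : ℕ} [hp : Fact p.Prime] {Q K X : Subgroup G} (h : IsSylowOf p Q K)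
    (hn : K ≤ normalizer (Q : Set G)) (hX : IsPGroup p X) (hXK : X ≤ K) : X ≤ Q := by
  have h1 : IsPGroup p (Q ⊔ X : Subgroup G) := isPGroup_sup (isSylowOf_isPGroup h) hX (hXK.trans hn)
  obtain ⟨P, hP⟩ := h
  have hQK : Q ≤ K := by rw [← hP]; exact map_subtype_le _
  have h2 : ((Q ⊔ X).subgroupOf K) = (P : Subgroup K) := by
    refine P.3 h1.comap_subtype ?_
    exact Subgroup.map_le_iff_le_comap.1 (hP.le.trans le_sup_left)
  have h3 : ((Q ⊔ X).subgroupOf K).map K.subtype = Q := by rw [h2, hP]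
  rw [Subgroup.map_subgroupOf_eq_of_le (sup_le hQK hXK)] at h3
  rw [← h3]; exact le_sup_right

noncomputable def sy (p : ℕ) (H : Subgroup G) : Subgroup G := (exists_isSylowOf p H).choose

theorem sy_spec (p : ℕ) (H : Subgroup G) : IsSylowOf p (sy p H) H := (exists_isSylowOf p H).choose_spec

theorem sy_le (p : ℕ) (H : Subgroup G) : sy p H ≤ H := isSylowOf_le (sy_spec p H)

theorem sy_pgroup (p : ℕ) (H : Subgroup G) : IsPGroup p (sy p H) := isSylowOf_isPGroup (sy_spec p H)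

theorem normalizer_le_sy [Finite G] {p : ℕ} [hp : Fact p.Prime] {H : Subgroup G} (hH : Group.IsNilpotent H) : 
    normalizer (H : Set G) ≤ normalizer (sy p H : Set G) := normalizer_le_of_nilpotent hH (sy_spec p H)

theorem le_sy [Finite G] {p : ℕ} [hp : Fact p.Prime] {H X : Subgroup G} (hH : Group.IsNilpotent H) (hX : IsPGroup p X) (hXH : X ≤ H) : 
    X ≤ sy p H := 
  le_of_sylowOf_normal (sy_spec p H) (le_normalizer.trans (normalizer_le_sy hH)) hX hXH

theorem sylowOf_unique [Finite G] {p : ℕ} [hp : Fact p.Prime] {H X : Subgroup G} (hH : Group.IsNilpotent H) (hX : IsSylowOf p X H) :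
    X = sy p H := by
  apply le_antisymm (le_sy hH (isSylowOf_isPGroup hX) (isSylowOf_le hX))
  exact le_of_sylowOf_normal hX (le_normalizer.trans (normalizer_le_of_nilpotent hH hX)) (sy_pgroup p H) (sy_le p H)

theorem isSylowOf_ne_bot [Finite G] {p : ℕ} [hp : Fact p.Prime] {H Q : Subgroup G} (hQ : IsSylowOf p Q H) (h : p ∣ Nat.card H) : Q ≠ ⊥ := by
  rintro rfl
  have h1 := (isSylowOf_iff.1 hQ).2.2
  rw [Subgroup.relIndex_bot_left] at h1
  exact h1 h

theorem sy_ne_bot [Finite G] {p : ℕ} [hp : Fact p.Prime] {H : Subgroup G} (h : p ∣ Nat.card H) : sy p H ≠ ⊥ := 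
  isSylowOf_ne_bot (sy_spec p H) h

theorem coprime_card_of_pgroups [Finite G] {p q : ℕ} [hp : Fact p.Prime] [hq : Fact q.Prime] {X Y : Subgroup G} (hX : IsPGroup p X) 
    (hY : IsPGroup q Y) (hpq : p ≠ q) : (Nat.card X).Coprime (Nat.card Y) := by
  obtain ⟨k, hk⟩ := IsPGroup.iff_card.1 hX
  obtain ⟨l, hl⟩ := IsPGroup.iff_card.1 hY
  rw [hk, hl]
  exact Nat.Coprime.pow _ _ ((Nat.coprime_primes hp.out hq.out).2 hpq)

theorem sy_le_centralizer [Finite G] {p q : ℕ} [hp : Fact p.Prime] [hq : Fact q.Prime] {H X : Subgroup G} (hH : Group.IsNilpotent H) 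
    (hX : IsPGroup p X) (hXH : X ≤ H) (hpq : p ≠ q) : sy q H ≤ centralizer (X : Set G) := by
  apply le_centralizer_of_nilpotent_sup (coprime_card_of_pgroups (sy_pgroup q H) hX hpq.symm)
  exact isNilpotent_of_le hH (sup_le (sy_le q H) hXH)

theorem le_of_sy_le [Finite G] {H K : Subgroup G} (h : ∀ p : ℕ, p.Prime → sy p H ≤ K) : H ≤ K := by
  rw [← Subgroup.subgroupOf_eq_top]
  apply eq_top_of_sylow_le
  intro p hp
  obtain ⟨P, hP⟩ := sy_spec p H
  refine ⟨P, ?_⟩
  have h1 := h p hp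
  rw [← hP] at h1
  exact Subgroup.map_le_iff_le_comap.1 h1

theorem card_of_fact_le' {G : Type u} [Group G] [Finite G] {H K T : Subgroup G} (hH : H ≤ T) (hK : K ≤ T) (h : ∀ t ∈ T, ∃ x ∈ H, ∃ y ∈ K, t = x * y) : 
    Nat.card T * Nat.card (H ⊓ K : Subgroup G) = Nat.card H * Nat.card K := by
  have h1 : IsFact (H.subgroupOf T) (K.subgroupOf T) := by
    rintro ⟨t, ht⟩
    obtain ⟨x, hx, y, hy, he⟩ := h t ht
    exact ⟨⟨x, hH hx⟩, hx, ⟨y, hK hy⟩, hy, Subtype.ext he⟩
  have h2 := isFact_iff_card.1 h1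
  have h3 : H.subgroupOf T ⊓ K.subgroupOf T = (H ⊓ K).subgroupOf T := rfl
  rw [h3, Nat.card_congr (Subgroup.subgroupOfEquivOfLe (inf_le_left.trans hH : H ⊓ K ≤ T)).toEquiv, 
    Nat.card_congr (Subgroup.subgroupOfEquivOfLe hH).toEquiv, Nat.card_congr (Subgroup.subgroupOfEquivOfLe hK).toEquiv] at h2
  exact h2

theorem card_mul_relIndex'' {H K : Subgroup G} (h : H ≤ K) : Nat.card K = Nat.card H * H.relIndex K := by
  rw [← Subgroup.relIndex_bot_left, ← Subgroup.relIndex_bot_left, mul_comm, mul_comm]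
  exact (Subgroup.relIndex_mul_relIndex ⊥ H K bot_le h).symm

/-- prefactorized -/
def Pre (A B S : Subgroup G) : Prop := ∀ g ∈ S, ∃ a ∈ A ⊓ S, ∃ b ∈ B ⊓ S, g = a * b

theorem Pre.symm {A B S : Subgroup G} (h : Pre A B S) : Pre B A S := by
  intro g hg
  obtain ⟨a, ha, b, hb, hab⟩ := h g⁻¹ (S.inv_mem hg)
  refine ⟨b⁻¹, (B ⊓ S).inv_mem hb, a⁻¹, (A ⊓ S).inv_mem ha, ?_⟩
  rw [← mul_inv_rev, ← hab, inv_inv]

theorem pre_of_left_le {A B S : Subgroup G} (hf : IsFact A B) (h : A ≤ S) : Pre A B S := by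
  intro g hg
  obtain ⟨a, ha, b, hb, rfl⟩ := hf g
  refine ⟨a, ⟨ha, h ha⟩, b, ⟨hb, ?_⟩, rfl⟩
  have := S.mul_mem (S.inv_mem (h ha)) hg
  rwa [inv_mul_cancel_left] at this

theorem pre_of_right_le {A B S : Subgroup G} (hf : IsFact A B) (h : B ≤ S) : Pre A B S := 
  (pre_of_left_le hf.symm h).symm

theorem Pre.card [Finite G] {A B S : Subgroup G} (h : Pre A B S) (hAB : A ⊓ B = ⊥) : 
    Nat.card S = Nat.card (A ⊓ S : Subgroup G) * Nat.card (B ⊓ S : Subgroup G) := by
  have h1 := card_of_fact_le' (H := A ⊓ S) (K := B ⊓ S) (T := S) inf_le_right inf_le_right h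
  have h2 : (A ⊓ S) ⊓ (B ⊓ S) = ⊥ := by
    rw [eq_bot_iff, ← hAB]
    exact inf_le_inf inf_le_left inf_le_left
  rw [h2, Subgroup.card_bot, mul_one] at h1
  exact h1

structure KW [Finite G] (A B : Subgroup G) : Prop where
  nA : Group.IsNilpotent A
  nB : Group.IsNilpotent B
  cop : (Nat.card A).Coprime (Nat.card B)
  fact : IsFact A B
  simple : ∀ N : Subgroup G, N.Normal → N = ⊥ ∨ N = ⊤
  ns : ¬ Group.IsSolvable G
  pre : ∀ S : Subgroup G, S ≠ ⊤ → Pre A B S → Group.IsSolvable S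
  twoA : ∀ p : ℕ, ∃ r : ℕ, r.Prime ∧ r ≠ p ∧ r ∣ Nat.card A
  twoB : ∀ p : ℕ, ∃ r : ℕ, r.Prime ∧ r ≠ p ∧ r ∣ Nat.card B

theorem KW.symm [Finite G] {A B : Subgroup G} (h : KW A B) : KW B A where
  nA := h.nB
  nB := h.nA
  cop := h.cop.symm
  fact := h.fact.symm
  simple := h.simple
  ns := h.ns
  pre := fun S hS hp => h.pre S hS hp.symm
  twoA := h.twoB
  twoB := h.twoA


section KWsec

variable [Finite G] {A B : Subgroup G}

theorem KW.inf (h : KW A B) : A ⊓ B = ⊥ := inf_eq_bot_of_coprime h.cop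

theorem KW.ntG (h : KW A B) : (⊥ : Subgroup G) ≠ ⊤ := by
  intro hb
  apply h.ns
  have : Subsingleton G := by
    rw [← Subgroup.subsingleton_iff]
    exact ⟨fun x y => by
      have hx : x = ⊥ := le_antisymm (le_top.trans hb.ge) bot_le
      have hy : y = ⊥ := le_antisymm (le_top.trans hb.ge) bot_le
      rw [hx, hy]⟩
  exact Group.isSolvable_of_comm fun a b => Subsingleton.elim _ _

theorem KW.not_normal (h : KW A B) {N : Subgroup G} (h1 : N ≠ ⊥) (h2 : N ≠ ⊤) : normalizer (N : Set G) ≠ ⊤ := by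
  intro h3
  rcases h.simple N (normalizer_eq_top_iff.1 h3) with h4 | h4
  · exact h1 h4
  · exact h2 h4

theorem KW.A_ne_top (h : KW A B) : A ≠ ⊤ := by
  rintro rfl
  apply h.ns
  haveI := h.nA
  exact Group.isSolvable_of_surjective (G := (⊤ : Subgroup G)) (f := Subgroup.subtype ⊤) (fun x => ⟨⟨x, mem_top x⟩, rfl⟩)

theorem KW.sol (h : KW A B) {S : Subgroup G} (hS : A ≤ S) (hne : S ≠ ⊤) : Group.IsSolvable S := 
  h.pre S hne (pre_of_left_le h.fact hS)

/-- a Sylow `p`-subgroup of `A ⊓ S` is Sylow in `S` -/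
theorem KW.sylow_pre (h : KW A B) {S P : Subgroup G} (hS : Pre A B S) {p : ℕ} [hp : Fact p.Prime] (hpA : p ∣ Nat.card A) 
    (hP : IsSylowOf p P (A ⊓ S)) : IsSylowOf p P S := by
  rw [isSylowOf_iff] at hP ⊢
  refine ⟨hP.1.trans inf_le_right, hP.2.1, ?_⟩
  rw [← Subgroup.relIndex_mul_relIndex P (A ⊓ S) S hP.1 inf_le_right]
  intro h1
  rcases (Nat.Prime.dvd_mul hp.out).1 h1 with h2 | h2
  · exact hP.2.2 h2
  · have h3 := hS.card h.inf
    have h4 := card_mul_relIndex'' (inf_le_right : A ⊓ S ≤ S)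
    rw [h3] at h4
    have h5 := Nat.eq_of_mul_eq_mul_left Nat.card_pos h4
    rw [← h5] at h2
    have h6 := h2.trans (Subgroup.card_dvd_of_le (inf_le_left : B ⊓ S ≤ B))
    exact hp.out.one_lt.ne' (Nat.eq_one_of_dvd_coprimes h.cop hpA h6)

theorem KW.sy_sylow (h : KW A B) {S : Subgroup G} {p : ℕ} [hp : Fact p.Prime] (hpA : p ∣ Nat.card A) 
    (hS : sy p A ≤ S) : IsSylowOf p (sy p A) S := by
  have h1 : IsSylowOf p (sy p A) ⊤ := by
    apply h.sylow_pre (pre_of_left_le h.fact le_top) hpA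
    rw [inf_top_eq]; exact sy_spec p A
  exact isSylowOf_of_le h1 hS le_top

theorem KW.perm (h : KW A B) {S P Q : Subgroup G} (hSt : S ≠ ⊤) (hS : Pre A B S) {p q : ℕ} [hp : Fact p.Prime] [hq : Fact q.Prime] 
    (hpA : p ∣ Nat.card A) (hqB : q ∣ Nat.card B)
    (hP : IsSylowOf p P (A ⊓ S)) (hQ : IsSylowOf q Q (B ⊓ S)) : ∀ g ∈ P ⊔ Q, ∃ a ∈ P, ∃ b ∈ Q, a * b = g := by
  have hPS := h.sylow_pre hS hpA hP
  have hQS := h.symm.sylow_pre hS.symm hqB hQ
  have hPle := isSylowOf_le hPS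
  have hQle := isSylowOf_le hQS
  haveI := h.pre S hSt hS
  have hcop : ∀ (r : ℕ) [Fact r.Prime] (R : Subgroup G), IsSylowOf r R S → (Nat.card (R.subgroupOf S)).Coprime (R.subgroupOf S).index := by
    intro r hr R hR
    rw [isSylowOf_iff] at hR
    rw [Nat.card_congr (Subgroup.subgroupOfEquivOfLe hR.1).toEquiv]
    obtain ⟨k, hk⟩ := IsPGroup.iff_card.1 hR.2.1
    rw [hk]
    exact Nat.Coprime.pow_left _ ((Nat.Prime.coprime_iff_not_dvd hr.out).2 hR.2.2)
  intro g hg
  have hgS : g ∈ S := sup_le hPle hQle hg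
  obtain ⟨a, ha, b, hb, hab⟩ := fact_hall_perm (Nat.card S) S rfl (A.subgroupOf S) (B.subgroupOf S) (P.subgroupOf S) (Q.subgroupOf S)
    (by
      rintro ⟨x, hx⟩
      obtain ⟨a, ha, b, hb, hab⟩ := hS x hx
      exact ⟨⟨a, ha.2⟩, ha.1, ⟨b, hb.2⟩, hb.1, Subtype.ext hab⟩)
    (by intro x hx; exact (isSylowOf_le hP hx).1)
    (by
      have h1 : A ⊓ S ≤ normalizer (P : Set G) := le_normalizer.trans (normalizer_le_of_nilpotent (isNilpotent_of_le h.nA inf_le_left) hP)
      rw [le_normalizer_iff_conj]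
      intro x hx y hy
      exact le_normalizer_iff_conj.1 h1 _ ⟨hx, x.2⟩ _ hy)
    (by intro x hx; exact (isSylowOf_le hQ hx).1)
    (by
      have h1 : B ⊓ S ≤ normalizer (Q : Set G) := le_normalizer.trans (normalizer_le_of_nilpotent (isNilpotent_of_le h.nB inf_le_left) hQ)
      rw [le_normalizer_iff_conj]
      intro x hx y hy
      exact le_normalizer_iff_conj.1 h1 _ ⟨hx, x.2⟩ _ hy)
    (hcop p P hPS) (hcop q Q hQS) ⟨g, hgS⟩ (by
      rw [← Subgroup.subgroupOf_sup hPle hQle]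
      exact hg)
  exact ⟨a, ha, b, hb, congrArg Subtype.val hab⟩

/-- application of Kegel's lemma -/
theorem KW.kegel (h : KW A B) {P Q : Subgroup G} (hPn : A ≤ normalizer (P : Set G)) (hQn : B ≤ normalizer (Q : Set G)) 
    (hP : P ≠ ⊥) (hQ : Q ≠ ⊥) (hPQ : P ⊔ Q ≠ ⊤) (hperm : ∀ g ∈ P ⊔ Q, ∃ a ∈ P, ∃ b ∈ Q, a * b = g) : False := by
  obtain ⟨N, hN, hNt, hN2⟩ := kegel_lemma (A := P) (B := Q) (by
    intro x
    obtain ⟨z, hz1, hz2⟩ := fact_sim_conj h.fact hPn hQn 1 x
    rw [map_one, one_smul] at hz1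
    refine ⟨MulAut.conj z • (P ⊔ Q), ?_, ?_⟩
    · intro h1
      apply hPQ
      apply Subgroup.eq_top_of_card_eq
      rw [← card_conj_smul z, h1, Subgroup.card_top]
    · have hz3 : (P : Set G) = ((MulAut.conj z • P : Subgroup G) : Set G) := by rw [hz1]
      rw [hz3, ← hz2]
      apply Set.Subset.antisymm
      · intro g hg
        have hg' : z⁻¹ * g * z ∈ P ⊔ Q := mem_conj_smul.1 hg
        obtain ⟨a, ha, b, hb, hab⟩ := hperm _ hg'
        refine Set.mem_mul.2 ⟨z * a * z⁻¹, ?_, z * b * z⁻¹, ?_, ?_⟩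
        · change z * a * z⁻¹ ∈ MulAut.conj z • P
          rw [mem_conj_smul]
          have : z⁻¹ * (z * a * z⁻¹) * z = a := by group
          rwa [this]
        · change z * b * z⁻¹ ∈ MulAut.conj z • Q
          rw [mem_conj_smul]
          have : z⁻¹ * (z * b * z⁻¹) * z = b := by group
          rwa [this]
        · have : z * a * z⁻¹ * (z * b * z⁻¹) = z * (a * b) * z⁻¹ := by group
          rw [this, hab]; group
      · rintro _ ⟨a, ha, b, hb, rfl⟩
        have h1 : a ∈ MulAut.conj z • (P ⊔ Q) := conj_smul_mono z le_sup_left ha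
        have h2 : b ∈ MulAut.conj z • (P ⊔ Q) := conj_smul_mono z le_sup_right hb
        exact Subgroup.mul_mem _ h1 h2)
  rcases h.simple N hN with h1 | h1
  · rw [h1] at hN2
    rcases hN2 with h2 | h2
    · exact hP (le_bot_iff.1 h2)
    · exact hQ (le_bot_iff.1 h2)
  · exact hNt h1

/-- (P1) -/
theorem KW.P1 (h : KW A B) {r t : ℕ} [hr : Fact r.Prime] [ht : Fact t.Prime] (hrA : r ∣ Nat.card A) (htB : t ∣ Nat.card B) : 
    sy r A ⊔ sy t B = ⊤ := by
  by_contra hcon
  have hb : sy r A ⊔ sy t B ≠ ⊥ := by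
    intro h1
    exact sy_ne_bot hrA (le_bot_iff.1 (h1 ▸ le_sup_left))
  have hA : A ≤ normalizer (sy r A : Set G) := le_normalizer.trans (normalizer_le_sy h.nA)
  have hB : B ≤ normalizer (sy t B : Set G) := le_normalizer.trans (normalizer_le_sy h.nB)
  have hL := h.not_normal hb hcon
  have hpre : Pre A B (normalizer ((sy r A ⊔ sy t B : Subgroup G) : Set G)) := by
    intro g hg
    obtain ⟨a, ha, b, hb, hab⟩ := Cfsg.Agent.S0562.result A B (sy r A) (sy t B) h.fact (sy_le _ _) (normal_subgroupOf_of_le_normalizer hA) 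
      (sy_le _ _) (normal_subgroupOf_of_le_normalizer hB) g hg
    exact ⟨a, ⟨ha.2, ha.1⟩, b, ⟨hb.2, hb.1⟩, hab⟩
  have hAL : sy r A ≤ normalizer ((sy r A ⊔ sy t B : Subgroup G) : Set G) := le_sup_left.trans le_normalizer
  have hBL : sy t B ≤ normalizer ((sy r A ⊔ sy t B : Subgroup G) : Set G) := le_sup_right.trans le_normalizer
  exact h.kegel hA hB (sy_ne_bot hrA) (sy_ne_bot htB) hcon (h.perm hL hpre hrA htB 
    (isSylowOf_of_le (sy_spec r A) (le_inf (sy_le _ _) hAL) inf_le_left) 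
    (isSylowOf_of_le (sy_spec t B) (le_inf (sy_le _ _) hBL) inf_le_left))


/-- (P2) -/
theorem KW.P2 (h : KW A B) {r q : ℕ} [hr : Fact r.Prime] [hq : Fact q.Prime] (hrA : r ∣ Nat.card A) (hqB : q ∣ Nat.card B) 
    {S : Subgroup G} (hS : IsPGroup q S) (hn : sy r A ≤ normalizer (S : Set G)) : S = ⊥ := by
  -- S lies in a conjugate of `sy q B`
  have h1 : IsSylowOf q (sy q B) ⊤ := h.symm.sy_sylow hqB le_top
  obtain ⟨Q, hQ⟩ := isSylowOf_top_iff.1 h1
  obtain ⟨g, hg⟩ : ∃ g : G, MulAut.conj g • S ≤ sy q B := by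
    obtain ⟨R, hR⟩ := hS.exists_le_sylow
    obtain ⟨g, hg⟩ := MulAction.exists_smul_eq G R Q
    refine ⟨g, ?_⟩
    rw [← hQ, ← hg]
    exact conj_smul_mono g hR
  obtain ⟨b, hb, a, ha, rfl⟩ := h.fact.symm g
  have hBn : B ≤ normalizer (sy q B : Set G) := le_normalizer.trans (normalizer_le_sy h.nB)
  have hAn : A ≤ normalizer (sy r A : Set G) := le_normalizer.trans (normalizer_le_sy h.nA)
  have h2 : MulAut.conj a • S ≤ sy q B := by
    rw [map_mul, mul_smul] at hg
    have h3 := conj_smul_mono b⁻¹ hg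
    rw [← mul_smul, ← map_mul, inv_mul_cancel, map_one, one_smul] at h3
    rwa [conj_smul_eq_self_iff.2 (hBn (B.inv_mem hb))] at h3
  have h3 : sy r A ≤ normalizer ((MulAut.conj a • S : Subgroup G) : Set G) := by
    have h4 : MulAut.conj a • sy r A = sy r A := conj_smul_eq_self_iff.2 (hAn ha)
    rw [← h4, le_normalizer_iff_conj]
    intro x hx y hy
    rw [mem_conj_smul] at hx hy ⊢
    have h5 := le_normalizer_iff_conj.1 hn _ hx _ hy
    have e : a⁻¹ * x * a * (a⁻¹ * y * a) * (a⁻¹ * x * a)⁻¹ = a⁻¹ * (x * y * x⁻¹) * a := by group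
    rwa [e] at h5
  have h4 : MulAut.conj a • S = ⊥ := by
    by_contra hne
    have hSpg : IsPGroup q (MulAut.conj a • S : Subgroup G) := hS.map _
    obtain ⟨t, ht, htq, htB⟩ := h.twoB q
    haveI : Fact t.Prime := ⟨ht⟩
    have h5 : sy t B ≤ normalizer ((MulAut.conj a • S : Subgroup G) : Set G) := 
      le_normalizer_of_le_centralizer (sy_le_centralizer h.nB hSpg (h2.trans (sy_le _ _)) htq.symm)
    apply h.not_normal hne
    · intro h6
      rw [h6] at h2
      exact h.symm.A_ne_top (top_le_iff.1 (h2.trans (sy_le _ _)))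
    · rw [eq_top_iff, ← h.P1 hrA htB]
      exact sup_le h3 h5
  rw [← Subgroup.card_eq_one, ← card_conj_smul a, h4, Subgroup.card_bot]

/-- (P3) -/
theorem KW.P3 (h : KW A B) {r : ℕ} [hr : Fact r.Prime] (hrA : r ∣ Nat.card A) 
    {R : Subgroup G} (hR : (Nat.card R).Coprime (Nat.card A)) (hn : sy r A ≤ normalizer (R : Set G)) : R = ⊥ := by
  by_contra hne
  have h1 : Nat.card R ≠ 1 := fun h1 => hne (Subgroup.card_eq_one.1 h1)
  obtain ⟨q, hq, hqR⟩ := Nat.exists_prime_and_dvd h1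
  haveI : Fact q.Prime := ⟨hq⟩
  have hqA : ¬ q ∣ Nat.card A := fun h2 => hq.one_lt.ne' (Nat.eq_one_of_dvd_coprimes hR hqR h2)
  have hqB : q ∣ Nat.card B := by
    have h2 : q ∣ Nat.card A * Nat.card B := by
      rw [← isFact_iff_card.1 h.fact]
      exact Dvd.dvd.mul_right (hqR.trans (Subgroup.card_subgroup_dvd_card R)) _
    exact ((Nat.Prime.dvd_mul hq).1 h2).resolve_left hqA
  have hcop : (Nat.card (sy r A)).Coprime (Nat.card R) := 
    (Nat.Coprime.coprime_dvd_right (Subgroup.card_dvd_of_le (sy_le r A)) hR).symm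
  obtain ⟨⟨Q, hQ, hQn⟩, -⟩ := coprime_sylow hn hcop (Or.inl (isSolvable_of_isPGroup (sy_pgroup r A))) q
  exact isSylowOf_ne_bot hQ hqR (h.P2 hrA hqB (isSylowOf_isPGroup hQ) hQn)

theorem KW.sy_ne_top (h : KW A B) {r : ℕ} : sy r A ≠ ⊤ := by
  intro h1
  exact h.A_ne_top (top_le_iff.1 (h1 ▸ sy_le r A))

theorem KW.not_dvd (h : KW A B) {q : ℕ} (hq : q.Prime) (hqB : q ∣ Nat.card B) : ¬ q ∣ Nat.card A := 
  fun h2 => hq.one_lt.ne' (Nat.eq_one_of_dvd_coprimes h.cop h2 hqB)

theorem KW.dvd_or (h : KW A B) {q : ℕ} (hq : q.Prime) (hqG : q ∣ Nat.card G) : q ∣ Nat.card A ∨ q ∣ Nat.card B := by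
  have h2 : q ∣ Nat.card A * Nat.card B := by
    rw [← isFact_iff_card.1 h.fact]
    exact Dvd.dvd.mul_right hqG _
  exact (Nat.Prime.dvd_mul hq).1 h2

/-- a subgroup all of whose prime divisors divide `|A|`, containing `A`, is `A` -/
theorem KW.le_A (h : KW A B) {S : Subgroup G} (hAS : A ≤ S) (hS : ∀ q : ℕ, q.Prime → q ∣ Nat.card S → q ∣ Nat.card A) : S ≤ A := by
  have h1 := (pre_of_left_le h.fact hAS)
  have h2 : B ⊓ S = ⊥ := by
    rw [← Subgroup.card_eq_one]
    by_contra h3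
    obtain ⟨q, hq, hqR⟩ := Nat.exists_prime_and_dvd h3
    exact h.not_dvd hq (hqR.trans (Subgroup.card_dvd_of_le inf_le_left)) (hS q hq (hqR.trans (Subgroup.card_dvd_of_le inf_le_right)))
  intro x hx
  obtain ⟨a, ha, b, hb, rfl⟩ := h1 x hx
  rw [h2, Subgroup.mem_bot] at hb
  rw [hb, mul_one]; exact ha.1

/-- Step 4a: `C_G(A_r) ≤ A` -/
theorem KW.centralizer_sy_le (h : KW A B) {r : ℕ} [hr : Fact r.Prime] (hrA : r ∣ Nat.card A) : 
    centralizer (sy r A : Set G) ≤ A := by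
  -- (C ⊔ A) ∩ B = 1
  have hAn : A ≤ normalizer (sy r A : Set G) := le_normalizer.trans (normalizer_le_sy h.nA)
  have hAC : A ≤ normalizer (centralizer (sy r A : Set G) : Set G) := 
    hAn.trans (by
      rw [le_normalizer_iff_conj]
      intro x hx y hy
      rw [Subgroup.mem_centralizer_iff] at hy ⊢
      intro z hz
      have hz' : x⁻¹ * z * x ∈ sy r A := by
        have := le_normalizer_iff_conj.1 (le_refl (normalizer (sy r A : Set G))) x⁻¹ (inv_mem hx) z hz
        rwa [inv_inv] at this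
      have h1 := hy _ hz'
      calc z * (x * y * x⁻¹) = x * ((x⁻¹ * z * x) * y) * x⁻¹ := by group
        _ = x * (y * (x⁻¹ * z * x)) * x⁻¹ := by rw [h1]
        _ = _ := by group)
  have hCB : ∀ q : ℕ, q.Prime → q ∣ Nat.card (centralizer (sy r A : Set G)) → q ∣ Nat.card A := by
    intro q hq hqC
    haveI : Fact q.Prime := ⟨hq⟩
    rcases h.dvd_or hq (hqC.trans (Subgroup.card_subgroup_dvd_card _)) with h1 | h1
    · exact h1
    · exfalso
      obtain ⟨S, hS⟩ := exists_isSylowOf q (centralizer (sy r A : Set G))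
      apply isSylowOf_ne_bot hS hqC
      apply h.P2 hrA h1 (isSylowOf_isPGroup hS)
      apply le_normalizer_of_le_centralizer
      rw [Subgroup.le_centralizer_iff]
      exact isSylowOf_le hS
  have h1 : centralizer (sy r A : Set G) ⊔ A ≤ A := by
    apply h.le_A le_sup_right
    intro q hq hqS
    have h2 := card_sup_mul_card_inf hAC
    have h3 : q ∣ Nat.card A * Nat.card (centralizer (sy r A : Set G)) := by
      rw [← h2, sup_comm]
      exact Dvd.dvd.mul_right hqS _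
    rcases (Nat.Prime.dvd_mul hq).1 h3 with h4 | h4
    · exact h4
    · exact hCB q hq h4
  exact le_sup_left.trans h1

/-- Step 4 -/
theorem KW.normalizer_sy (h : KW A B) {r : ℕ} [hr : Fact r.Prime] (hrA : r ∣ Nat.card A) : 
    normalizer (sy r A : Set G) = normalizer (A : Set G) := by
  apply le_antisymm _ (normalizer_le_sy h.nA)
  have hC := h.centralizer_sy_le hrA
  have hCn : Group.IsNilpotent (centralizer (sy r A : Set G)) := isNilpotent_of_le h.nA hC
  intro g hg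
  have hgC : g ∈ normalizer (centralizer (sy r A : Set G) : Set G) := by
    have key : normalizer (sy r A : Set G) ≤ normalizer (centralizer (sy r A : Set G) : Set G) := by
      rw [le_normalizer_iff_conj]
      intro x hx y hy
      rw [Subgroup.mem_centralizer_iff] at hy ⊢
      intro z hz
      have hz' : x⁻¹ * z * x ∈ sy r A := by
        have := le_normalizer_iff_conj.1 (le_refl (normalizer (sy r A : Set G))) x⁻¹ (inv_mem hx) z hz
        rwa [inv_inv] at this
      have h1 := hy _ hz'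
      calc z * (x * y * x⁻¹) = x * ((x⁻¹ * z * x) * y) * x⁻¹ := by group
        _ = x * (y * (x⁻¹ * z * x)) * x⁻¹ := by rw [h1]
        _ = _ := by group
    exact key hg
  rw [← conj_smul_eq_self_iff]
  refine eq_of_le_of_card_le ?_ (by rw [card_conj_smul])
  have h1 : A ≤ MulAut.conj g⁻¹ • A := by
    apply le_of_sy_le
    intro p hp
    haveI : Fact p.Prime := ⟨hp⟩
    by_cases hpr : p = r
    · subst hpr
      have h2 : MulAut.conj g⁻¹ • sy p A = sy p A := conj_smul_eq_self_iff.2 (inv_mem hg)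
      rw [← h2]
      exact conj_smul_mono _ (sy_le _ _)
    · have h3 : sy p A ≤ centralizer (sy r A : Set G) := sy_le_centralizer h.nA (sy_pgroup r A) (sy_le _ _) (Ne.symm hpr)
      have h4 : IsSylowOf p (sy p A) (centralizer (sy r A : Set G)) := isSylowOf_of_le (sy_spec p A) h3 hC
      have h5 := normalizer_le_of_nilpotent hCn h4 hgC
      have h2 : MulAut.conj g⁻¹ • sy p A = sy p A := conj_smul_eq_self_iff.2 (inv_mem h5)
      rw [← h2]
      exact conj_smul_mono _ (sy_le _ _)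
  have h2 := conj_smul_mono g h1
  rwa [← mul_smul, ← map_mul, mul_inv_cancel, map_one, one_smul] at h2


theorem le_sylow_of_normalized {p : ℕ} [hp : Fact p.Prime] {Q K X : Subgroup G} (h : IsSylowOf p Q K)
    (hn : Q ≤ normalizer (X : Set G)) (hX : IsPGroup p X) (hXK : X ≤ K) : X ≤ Q := by
  have h1 : IsPGroup p (X ⊔ Q : Subgroup G) := isPGroup_sup hX (isSylowOf_isPGroup h) hn
  obtain ⟨P, hP⟩ := h
  have hQK : Q ≤ K := by rw [← hP]; exact map_subtype_le _
  have h2 : ((X ⊔ Q).subgroupOf K) = (P : Subgroup K) := by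
    refine P.3 h1.comap_subtype ?_
    exact Subgroup.map_le_iff_le_comap.1 (hP.le.trans le_sup_right)
  have h3 : ((X ⊔ Q).subgroupOf K).map K.subtype = Q := by rw [h2, hP]
  rw [Subgroup.map_subgroupOf_eq_of_le (sup_le hXK hQK)] at h3
  rw [← h3]; exact le_sup_left

theorem prime_pgroup_dvd {s : ℕ} (hs : s.Prime) {R : Subgroup G} (hR : IsPGroup s R) (hne : R ≠ ⊥) : s ∣ Nat.card R := by
  haveI : Fact s.Prime := ⟨hs⟩
  obtain ⟨k, hk⟩ := IsPGroup.iff_card.1 hR
  rcases Nat.eq_zero_or_pos k with h0 | h0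
  · rw [h0, pow_zero] at hk
    exact absurd (Subgroup.card_eq_one.1 hk) hne
  · rw [hk]; exact dvd_pow_self s h0.ne'

/-- an invariant minimal subgroup of `J` -/
theorem KW.exists_min (h : KW A B) {J : Subgroup G} (hJ : J ≠ ⊥) (hL : normalizer (J : Set G) ≠ ⊤) (hpre : Pre A B (normalizer (J : Set G))) : 
    ∃ (R : Subgroup G) (s : ℕ), s.Prime ∧ R ≠ ⊥ ∧ R ≤ J ∧ IsPGroup s R ∧ normalizer (J : Set G) ≤ normalizer (R : Set G) := by
  obtain ⟨R, h1, h2, h3, h4⟩ := exists_min_invariant_le (le_refl (normalizer (J : Set G))) hJ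
  have hs : Group.IsSolvable R := isSolvable_of_le (h.pre _ hL hpre) (h2.trans le_normalizer)
  obtain ⟨-, s, hs', h5⟩ := elemAb_of_min_invariant h1 h3 hs h4
  haveI : Fact s.Prime := ⟨hs'⟩
  exact ⟨R, s, hs', h3, h2, isPGroup_of_forall_pow_eq_one h5, h1⟩

theorem prime_of_perm {p q s : ℕ} [hp : Fact p.Prime] [hq : Fact q.Prime] (hs : s.Prime) {P Q R : Subgroup G} (hP : IsPGroup p P) 
    (hQ : IsPGroup q Q) (hperm : ∀ g ∈ P ⊔ Q, ∃ a ∈ P, ∃ b ∈ Q, a * b = g) (hR : IsPGroup s R) (hRne : R ≠ ⊥) (hRJ : R ≤ P ⊔ Q) : 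
    s = p ∨ s = q := by
  have h1 := prime_pgroup_dvd hs hR hRne
  have h2 := card_of_fact_le' (H := P) (K := Q) (T := P ⊔ Q) le_sup_left le_sup_right (by
    intro t ht
    obtain ⟨a, ha, b, hb, hab⟩ := hperm t ht
    exact ⟨a, ha, b, hb, hab.symm⟩)
  have h3 : s ∣ Nat.card P * Nat.card Q := by
    rw [← h2]
    exact Dvd.dvd.mul_right (h1.trans (Subgroup.card_dvd_of_le hRJ)) _
  obtain ⟨k, hk⟩ := IsPGroup.iff_card.1 hP
  obtain ⟨l, hl⟩ := IsPGroup.iff_card.1 hQ
  rw [hk, hl] at h3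
  rcases (Nat.Prime.dvd_mul hs).1 h3 with h4 | h4
  · left; exact (Nat.prime_dvd_prime_iff_eq hs hp.out).1 (hs.dvd_of_dvd_pow h4)
  · right; exact (Nat.prime_dvd_prime_iff_eq hs hq.out).1 (hs.dvd_of_dvd_pow h4)

theorem KW.pre_join (h : KW A B) {A₀ B₀ : Subgroup G} (hA : A₀ ≤ A) (hAn : A ≤ normalizer (A₀ : Set G)) 
    (hB : B₀ ≤ B) (hBn : B ≤ normalizer (B₀ : Set G)) : Pre A B (normalizer ((A₀ ⊔ B₀ : Subgroup G) : Set G)) := by
  intro g hg
  obtain ⟨a, ha, b, hb, hab⟩ := Cfsg.Agent.S0562.result A B A₀ B₀ h.fact hA (normal_subgroupOf_of_le_normalizer hAn) 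
    hB (normal_subgroupOf_of_le_normalizer hBn) g hg
  exact ⟨a, ⟨ha.2, ha.1⟩, b, ⟨hb.2, hb.1⟩, hab⟩

theorem central_normalizer {B : Subgroup G} {z : G} (hz : ∀ b ∈ B, b * z = z * b) : B ≤ normalizer (zpowers z : Set G) := by
  apply le_normalizer_of_le_centralizer
  intro b hb
  rw [Subgroup.mem_centralizer_iff]
  rintro _ ⟨k, rfl⟩
  exact (Commute.zpow_right (show Commute b z from hz b hb) k).eq.symm

theorem isPGroup_zpowers {q : ℕ} [hq : Fact q.Prime] {z : G} (hz : orderOf z = q) : IsPGroup q (zpowers z) := 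
  IsPGroup.of_card (n := 1) (by rw [Nat.card_zpowers, hz, pow_one])

/-- (P4b) -/
theorem KW.P4b (h : KW A B) {r q : ℕ} [hr : Fact r.Prime] [hq : Fact q.Prime] (hrA : r ∣ Nat.card A) 
    {z : G} (hzB : z ∈ B) (hz : ∀ b ∈ B, b * z = z * b) (hzq : orderOf z = q) : sy r A ⊔ zpowers z = ⊤ := by
  by_contra hcon
  have hqB : q ∣ Nat.card B := by rw [← hzq]; exact Subgroup.orderOf_dvd_natCard B hzB
  have hb : sy r A ⊔ zpowers z ≠ ⊥ := by
    intro h1
    exact sy_ne_bot hrA (le_bot_iff.1 (h1 ▸ le_sup_left))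
  have hA : A ≤ normalizer (sy r A : Set G) := le_normalizer.trans (normalizer_le_sy h.nA)
  have hB : B ≤ normalizer (zpowers z : Set G) := central_normalizer hz
  have hzB' : zpowers z ≤ B := by rw [Subgroup.zpowers_le]; exact hzB
  have hL := h.not_normal hb hcon
  have hpre := h.pre_join (sy_le r A) hA hzB' hB
  obtain ⟨R, s, hs, hRne, hRJ, hR, hRn⟩ := h.exists_min hb hL hpre
  haveI : Fact s.Prime := ⟨hs⟩
  set L := normalizer ((sy r A ⊔ zpowers z : Subgroup G) : Set G) with hLdef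
  have hAL : sy r A ≤ L := le_sup_left.trans le_normalizer
  have hzL : zpowers z ≤ L := le_sup_right.trans le_normalizer
  have hP' : IsSylowOf r (sy r A) (A ⊓ L) := isSylowOf_of_le (sy_spec r A) (le_inf (sy_le _ _) hAL) inf_le_left
  have hQ' := sy_spec q (B ⊓ L)
  have hperm := h.perm hL hpre hrA hqB hP' hQ'
  have hzQ : zpowers z ≤ sy q (B ⊓ L) := le_sy (isNilpotent_of_le h.nB inf_le_left) (isPGroup_zpowers hzq) (le_inf hzB' hzL)
  have hRne_top : R ≠ ⊤ := by
    rintro rfl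
    exact hcon (top_le_iff.1 hRJ)
  rcases prime_of_perm hs (sy_pgroup r A) (sy_pgroup q (B ⊓ L)) hperm hR hRne (hRJ.trans (sup_le_sup_left hzQ _)) with rfl | rfl
  · have hRA : R ≤ sy s A := le_sylow_of_normalized (h.sy_sylow hrA hAL) (hAL.trans hRn) hR (hRJ.trans le_normalizer)
    have hAR : A ≤ normalizer (R : Set G) := by
      apply le_of_sy_le
      intro p hp
      haveI : Fact p.Prime := ⟨hp⟩
      by_cases hps : p = s
      · subst hps; exact hAL.trans hRn
      · exact le_normalizer_of_le_centralizer (sy_le_centralizer h.nA hR (hRA.trans (sy_le _ _)) (Ne.symm hps))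
    have hzR : z ∈ normalizer (R : Set G) := hRn (hzL (Subgroup.mem_zpowers z))
    have hnc : normalClosure {z} ≤ normalizer (R : Set G) := by
      rw [Subgroup.normalClosure, Subgroup.closure_le]
      intro y hy
      rw [Group.mem_conjugatesOfSet_iff] at hy
      obtain ⟨x, hx, hxy⟩ := hy
      rw [Set.mem_singleton_iff] at hx
      subst hx
      obtain ⟨g, hg⟩ := isConj_iff.1 hxy
      rw [← hg]
      obtain ⟨a, ha, b, hb, rfl⟩ := h.fact g
      have : a * b * x * (a * b)⁻¹ = a * x * a⁻¹ := by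
        calc a * b * x * (a * b)⁻¹ = a * (b * x) * b⁻¹ * a⁻¹ := by group
          _ = a * (x * b) * b⁻¹ * a⁻¹ := by rw [hz b hb]
          _ = _ := by group
      rw [this]
      exact mul_mem (mul_mem (hAR ha) hzR) (inv_mem (hAR ha))
    rcases h.simple (normalClosure {z}) inferInstance with h1 | h1
    · have h2 : z ∈ normalClosure ({z} : Set G) := subset_normalClosure rfl
      rw [h1, Subgroup.mem_bot] at h2
      rw [h2, orderOf_one] at hzq
      exact hq.out.ne_one hzq.symm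
    · rw [h1, top_le_iff] at hnc
      exact h.not_normal hRne hRne_top hnc
  · exact hRne (h.P2 hrA hqB hR (hAL.trans hRn))

/-- (P4) -/
theorem KW.P4 (h : KW A B) {p q : ℕ} [hp : Fact p.Prime] [hq : Fact q.Prime] 
    {x z : G} (hxA : x ∈ A) (hx : ∀ a ∈ A, a * x = x * a) (hxp : orderOf x = p) 
    (hzB : z ∈ B) (hz : ∀ b ∈ B, b * z = z * b) (hzq : orderOf z = q) : zpowers x ⊔ zpowers z = ⊤ := by
  by_contra hcon
  have hpA : p ∣ Nat.card A := by rw [← hxp]; exact Subgroup.orderOf_dvd_natCard A hxA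
  have hqB : q ∣ Nat.card B := by rw [← hzq]; exact Subgroup.orderOf_dvd_natCard B hzB
  have hb : zpowers x ⊔ zpowers z ≠ ⊥ := by
    intro h1
    have h2 : x ∈ zpowers x ⊔ zpowers z := mem_sup_left (mem_zpowers x)
    rw [h1, Subgroup.mem_bot] at h2
    rw [h2, orderOf_one] at hxp
    exact hp.out.ne_one hxp.symm
  have hA : A ≤ normalizer (zpowers x : Set G) := central_normalizer hx
  have hB : B ≤ normalizer (zpowers z : Set G) := central_normalizer hz
  have hzB' : zpowers z ≤ B := by rw [Subgroup.zpowers_le]; exact hzB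
  have hxA' : zpowers x ≤ A := by rw [Subgroup.zpowers_le]; exact hxA
  have hL := h.not_normal hb hcon
  have hpre := h.pre_join hxA' hA hzB' hB
  obtain ⟨R, s, hs, hRne, hRJ, hR, hRn⟩ := h.exists_min hb hL hpre
  haveI : Fact s.Prime := ⟨hs⟩
  set L := normalizer ((zpowers x ⊔ zpowers z : Subgroup G) : Set G) with hLdef
  have hxL : zpowers x ≤ L := le_sup_left.trans le_normalizer
  have hzL : zpowers z ≤ L := le_sup_right.trans le_normalizer
  have hP' := sy_spec p (A ⊓ L)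
  have hQ' := sy_spec q (B ⊓ L)
  have hperm := h.perm hL hpre hpA hqB hP' hQ'
  have hzQ : zpowers z ≤ sy q (B ⊓ L) := le_sy (isNilpotent_of_le h.nB inf_le_left) (isPGroup_zpowers hzq) (le_inf hzB' hzL)
  have hxQ : zpowers x ≤ sy p (A ⊓ L) := le_sy (isNilpotent_of_le h.nA inf_le_left) (isPGroup_zpowers hxp) (le_inf hxA' hxL)
  have hRne_top : R ≠ ⊤ := by
    rintro rfl
    exact hcon (top_le_iff.1 hRJ)
  rcases prime_of_perm hs (sy_pgroup p (A ⊓ L)) (sy_pgroup q (B ⊓ L)) hperm hR hRne (hRJ.trans (sup_le_sup hxQ hzQ)) with rfl | rfl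
  · have hRA : R ≤ sy s (A ⊓ L) := le_sylow_of_normalized (h.sylow_pre hpre hpA hP') 
      ((sy_le s (A ⊓ L)).trans (inf_le_right.trans hRn)) hR (hRJ.trans le_normalizer)
    have hRA' : R ≤ A := hRA.trans ((sy_le _ _).trans inf_le_left)
    obtain ⟨r, hr, hrs, hrA⟩ := h.twoA s
    haveI : Fact r.Prime := ⟨hr⟩
    have h1 : sy r A ≤ normalizer (R : Set G) := le_normalizer_of_le_centralizer (sy_le_centralizer h.nA hR hRA' hrs.symm)
    apply h.not_normal hRne hRne_top
    rw [eq_top_iff, ← h.P4b hrA hzB hz hzq]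
    exact sup_le h1 (hzL.trans hRn)
  · have hRA : R ≤ sy s (B ⊓ L) := le_sylow_of_normalized (h.symm.sylow_pre hpre.symm hqB hQ') 
      ((sy_le s (B ⊓ L)).trans (inf_le_right.trans hRn)) hR (hRJ.trans le_normalizer)
    have hRA' : R ≤ B := hRA.trans ((sy_le _ _).trans inf_le_left)
    obtain ⟨r, hr, hrs, hrA⟩ := h.twoB s
    haveI : Fact r.Prime := ⟨hr⟩
    have h1 : sy r B ≤ normalizer (R : Set G) := le_normalizer_of_le_centralizer (sy_le_centralizer h.nB hR hRA' hrs.symm)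
    apply h.not_normal hRne hRne_top
    rw [eq_top_iff, ← h.symm.P4b hrA hxA hx hxp]
    exact sup_le h1 (hxL.trans hRn)

theorem KW.center (h : KW A B) : center G = ⊥ := by
  rcases h.simple (Subgroup.center G) inferInstance with h1 | h1
  · exact h1
  · exfalso
    apply h.ns
    refine Group.isSolvable_of_comm fun a b => ?_
    have : b ∈ Subgroup.center G := by rw [h1]; exact mem_top _
    exact Subgroup.mem_center_iff.1 this a

/-- central elements of prime order -/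
theorem exists_central_prime {p : ℕ} [hp : Fact p.Prime] (hA : Group.IsNilpotent A) (hpA : p ∣ Nat.card A) : 
    ∃ x ∈ A, (∀ a ∈ A, a * x = x * a) ∧ orderOf x = p := by
  have h1 := inf_centralizer_ne_bot_of_nilpotent hA (sy_le p A) (le_normalizer.trans (normalizer_le_sy hA)) (sy_ne_bot hpA)
  have h2 : IsPGroup p (sy p A ⊓ centralizer (A : Set G) : Subgroup G) := (sy_pgroup p A).to_le inf_le_left
  have h3 := prime_pgroup_dvd hp.out h2 h1
  obtain ⟨⟨x, hx⟩, hxp⟩ := exists_prime_orderOf_dvd_card' p h3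
  refine ⟨x, sy_le p A hx.1, fun a ha => Subgroup.mem_centralizer_iff.1 hx.2 a ha, ?_⟩
  rw [← hxp]
  exact (Subgroup.orderOf_mk x hx).symm

theorem exists_prime_power_order {x : G} (hx : x ≠ 1) : ∃ p k : ℕ, p.Prime ∧ orderOf (x ^ k) = p := by
  have h1 : orderOf x ≠ 1 := fun h => hx (orderOf_eq_one_iff.1 h)
  obtain ⟨p, hp, hpx⟩ := Nat.exists_prime_and_dvd h1
  refine ⟨p, orderOf x / p, hp, ?_⟩
  exact orderOf_pow_orderOf_div (orderOf_pos x).ne' hpx

theorem KW.P5 (h : KW A B) {x : G} (hx1 : x ≠ 1) (hxA : x ∈ A) (hx : ∀ a ∈ A, a * x = x * a) : centralizer {x} ≤ A := by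
  obtain ⟨p, k, hp, hk⟩ := exists_prime_power_order hx1
  haveI : Fact p.Prime := ⟨hp⟩
  obtain ⟨q, hq, -, hqB⟩ := h.twoB 0
  haveI : Fact q.Prime := ⟨hq⟩
  obtain ⟨z, hzB, hz, hzq⟩ := exists_central_prime h.nB hqB
  have hx' : ∀ a ∈ A, a * x ^ k = x ^ k * a := fun a ha => (Commute.pow_right (show Commute a x from hx a ha) k).eq
  have h4 := h.P4 (A.pow_mem hxA k) hx' hk hzB hz hzq
  intro y hy
  have hyx : y * x ^ k = x ^ k * y := by
    have := Subgroup.mem_centralizer_iff.1 hy x rfl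
    exact (Commute.pow_right (show Commute y x from this.symm) k).eq
  obtain ⟨a, ha, b, hb, rfl⟩ := h.fact y
  have hbx : b * x ^ k = x ^ k * b := by
    have e1 := hx' a ha
    have e2 : a * (b * x ^ k) = a * (x ^ k * b) := by
      rw [← mul_assoc, hyx, ← mul_assoc, ← mul_assoc, e1]
    exact mul_left_cancel e2
  have hbc : b ∈ Subgroup.center G := by
    have h5 : (⊤ : Subgroup G) ≤ centralizer {b} := by
      rw [← h4]
      apply sup_le
      · rw [Subgroup.zpowers_le, Subgroup.mem_centralizer_iff]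
        rintro _ rfl
        exact hbx
      · rw [Subgroup.zpowers_le, Subgroup.mem_centralizer_iff]
        rintro _ rfl
        exact hz _ hb
    rw [Subgroup.mem_center_iff]
    intro g
    exact (Subgroup.mem_centralizer_iff.1 (h5 (mem_top g)) b rfl).symm
  rw [h.center, Subgroup.mem_bot] at hbc
  rw [hbc, mul_one]; exact ha


theorem KW.index_A (h : KW A B) : A.index = Nat.card B := by
  have h1 := isFact_iff_card.1 h.fact
  rw [h.inf, Subgroup.card_bot, mul_one, ← Subgroup.card_mul_index A] at h1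
  exact Nat.eq_of_mul_eq_mul_left Nat.card_pos h1

theorem KW.mem_norm_of_sy (h : KW A B) {r : ℕ} [hr : Fact r.Prime] (hrA : r ∣ Nat.card A) {g : G} (hg : MulAut.conj g • sy r A ≤ A) :
    g ∈ normalizer (A : Set G) := by
  rw [← h.normalizer_sy hrA, ← conj_smul_eq_self_iff]
  have h1 : IsPGroup r (MulAut.conj g • sy r A : Subgroup G) := (sy_pgroup r A).map _
  exact eq_of_le_of_card_le (le_sy h.nA h1 hg) (by rw [card_conj_smul])

/-- (F1) -/
theorem KW.F1 (h : KW A B) {r : ℕ} [hr : Fact r.Prime] (hrA : r ∣ Nat.card A) {K : Subgroup G} (hK : sy r A ≤ K) 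
    (hpi : ∀ q : ℕ, q.Prime → q ∣ Nat.card K → q ∣ Nat.card A) : K ≤ A := by
  obtain ⟨x, hx⟩ := Cfsg.Agent.S0581.main (Nat.card K) A K rfl h.nA (by rw [h.index_A]; exact h.cop) hpi
  have h1 : MulAut.conj x⁻¹ • sy r A ≤ A := by
    have h2 := conj_smul_mono x⁻¹ (hK.trans hx)
    rwa [← mul_smul, ← map_mul, inv_mul_cancel, map_one, one_smul] at h2
  have h2 := h.mem_norm_of_sy hrA h1
  rwa [conj_smul_eq_self_iff.2 (by simpa using inv_mem h2)] at hx

/-- (F3) -/
theorem KW.F3 (h : KW A B) {x g : G} (hx1 : x ≠ 1) (hxA : x ∈ A) (hx : ∀ a ∈ A, a * x = x * a) (hg : x ∈ MulAut.conj g • A) : 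
    g ∈ normalizer (A : Set G) := by
  obtain ⟨p, k, hp, hk⟩ := exists_prime_power_order hx1
  haveI : Fact p.Prime := ⟨hp⟩
  obtain ⟨r, hr, hrp, hrA⟩ := h.twoA p
  haveI : Fact r.Prime := ⟨hr⟩
  have hx' : ∀ a ∈ A, a * x ^ k = x ^ k * a := fun a ha => (Commute.pow_right (show Commute a x from hx a ha) k).eq
  have hxk : x ^ k ≠ 1 := by
    intro h1
    rw [h1, orderOf_one] at hk
    exact hp.ne_one hk.symm
  apply h.mem_norm_of_sy hrA
  refine le_trans ?_ (h.P5 hxk (A.pow_mem hxA k) hx')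
  have h1 : g⁻¹ * x ^ k * g ∈ A := mem_conj_smul.1 ((MulAut.conj g • A).pow_mem hg k)
  have h2 : IsPGroup p (zpowers (g⁻¹ * x ^ k * g)) := by
    apply isPGroup_zpowers
    rw [← hk]
    have : g⁻¹ * x ^ k * g = MulAut.conj g⁻¹ (x ^ k) := by simp [MulAut.conj_apply]
    rw [this]
    exact orderOf_injective (MulAut.conj g⁻¹).toMonoidHom (MulAut.conj g⁻¹).injective _
  have h3 := sy_le_centralizer (q := r) h.nA h2 (by rw [Subgroup.zpowers_le]; exact h1) hrp.symm
  intro y hy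
  rw [mem_conj_smul] at hy
  rw [Subgroup.mem_centralizer_iff]
  rintro _ rfl
  have h4 := Subgroup.mem_centralizer_iff.1 (h3 hy) _ (mem_zpowers _)
  calc x ^ k * y = g * (g⁻¹ * x ^ k * g * (g⁻¹ * y * g)) * g⁻¹ := by group
    _ = g * (g⁻¹ * y * g * (g⁻¹ * x ^ k * g)) * g⁻¹ := by rw [h4]
    _ = _ := by group

theorem KW.exists_central (h : KW A B) : ∃ x ∈ A, x ≠ 1 ∧ ∀ a ∈ A, a * x = x * a := by
  obtain ⟨q, hq, -, hqA⟩ := h.twoA 0
  haveI : Fact q.Prime := ⟨hq⟩
  obtain ⟨z, hz1, hz2, hz3⟩ := exists_central_prime h.nA hqA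
  refine ⟨z, hz1, ?_, hz2⟩
  rintro rfl
  rw [orderOf_one] at hz3
  exact hq.ne_one hz3.symm

/-- (F5) -/
theorem KW.F5 (h : KW A B) {r : ℕ} [hr : Fact r.Prime] (hrA : r ∣ Nat.card A) {H : Subgroup G} (hH : sy r A ≤ H) 
    (hs : Group.IsSolvable H) (hZ : A ⊓ centralizer (A : Set G) ≤ H) : H ≤ normalizer (A : Set G) := by
  set F := (fittingSubgroup H).map H.subtype with hF
  have hFH : F ≤ H := map_subtype_le _
  have hFn : Group.IsNilpotent F := isNilpotent_map _ CfsgH2.isNilpotent_fittingSubgroup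
  have hHF : H ≤ normalizer (F : Set G) := by
    haveI := CfsgH2.isNilpotent_fittingSubgroup (G := H)
    rw [le_normalizer_iff_conj]
    rintro x hx _ ⟨y, hy, rfl⟩
    exact ⟨⟨x, hx⟩ * y * ⟨x, hx⟩⁻¹, (inferInstance : (fittingSubgroup H).Normal).conj_mem y hy ⟨x, hx⟩, rfl⟩
  have hpi : ∀ q : ℕ, q.Prime → q ∣ Nat.card F → q ∣ Nat.card A := by
    intro q hq hqF
    haveI : Fact q.Prime := ⟨hq⟩
    by_contra hqA
    apply sy_ne_bot hqF
    refine h.P3 hrA ?_ (hH.trans (hHF.trans (normalizer_le_sy hFn)))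
    obtain ⟨k, hk⟩ := IsPGroup.iff_card.1 (sy_pgroup q F)
    rw [hk]
    exact Nat.Coprime.pow_left _ ((Nat.Prime.coprime_iff_not_dvd hq).2 hqA)
  have hFA : F ≤ A := by
    refine le_trans (le_sup_left : F ≤ F ⊔ sy r A) (h.F1 hrA le_sup_right ?_)
    intro q hq hqd
    have h1 := card_sup_mul_card_inf (hH.trans hHF)
    have h2 : q ∣ Nat.card (sy r A) * Nat.card F := by
      rw [← h1, sup_comm]
      exact Dvd.dvd.mul_right hqd _
    rcases (Nat.Prime.dvd_mul hq).1 h2 with h3 | h3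
    · exact h3.trans (Subgroup.card_dvd_of_le (sy_le r A))
    · exact hpi q hq h3
  obtain ⟨x, hxA, hx1, hx⟩ := h.exists_central
  have hxZ : x ∈ A ⊓ centralizer (A : Set G) := ⟨hxA, Subgroup.mem_centralizer_iff.2 hx⟩
  have hxF : x ∈ F := by
    refine ⟨⟨x, hZ hxZ⟩, ?_, rfl⟩
    apply centralizer_fitting_le (G := H)
    rw [Subgroup.mem_centralizer_iff]
    intro y hy
    apply Subtype.ext
    exact hx _ (hFA ⟨y, hy, rfl⟩)
  intro g hg
  apply h.F3 hx1 hxA hx
  have h1 : MulAut.conj g • F = F := conj_smul_eq_self_iff.2 (hHF hg)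
  have h2 := conj_smul_mono g hFA
  rw [h1] at h2
  exact h2 hxF

/-- (F6) -/
theorem KW.F6 (h : KW A B) {q : ℕ} [hq : Fact q.Prime] {Q : Subgroup G} (hQ : IsPGroup q Q) (hne : Q ≠ ⊥) (hQB : Q ≤ B) 
    (hQn : Q ≤ normalizer (A : Set G)) : normalizer (Q : Set G) ≤ normalizer (B : Set G) := by
  have hpre : Pre A B (normalizer (Q : Set G)) := by
    intro g hg
    obtain ⟨a, ha, b, hb, rfl⟩ := h.fact g
    have h1 : MulAut.conj (a * b) • Q = Q := conj_smul_eq_self_iff.2 hg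
    have h2 : MulAut.conj b • Q = MulAut.conj a⁻¹ • Q := by
      rw [map_mul, mul_smul] at h1
      conv_rhs => rw [← h1]
      rw [← mul_smul, ← map_mul, inv_mul_cancel, map_one, one_smul]
    have h3 : MulAut.conj b • Q ≤ Q := by
      intro x hx
      have hxB : x ∈ B := by
        have := conj_smul_mono b hQB hx
        rwa [conj_smul_of_mem hb] at this
      rw [h2, mem_conj_smul, inv_inv] at hx
      -- a x a⁻¹ ∈ Q
      have hxT : x ∈ A ⊔ Q := by
        have : x = a⁻¹ * (a * x * a⁻¹) * a := by group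
        rw [this]
        exact mul_mem (mul_mem (mem_sup_left (A.inv_mem ha)) (mem_sup_right hx)) (mem_sup_left ha)
      obtain ⟨a', ha', y, hy, hay⟩ := (mem_sup_of_le_normalizer' hQn).1 hxT
      have h4 : a' ∈ A ⊓ B := by
        refine ⟨ha', ?_⟩
        have := B.mul_mem hxB (B.inv_mem (hQB hy))
        rw [← hay, mul_inv_cancel_right] at this
        exact this
      rw [h.inf, Subgroup.mem_bot] at h4
      rw [← hay, h4, one_mul]; exact hy
    have h4 : MulAut.conj b • Q = Q := eq_of_le_of_card_le h3 (by rw [card_conj_smul])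
    have hbn : b ∈ normalizer (Q : Set G) := conj_smul_eq_self_iff.1 h4
    have han : a ∈ normalizer (Q : Set G) := by
      have := mul_mem hg (inv_mem hbn)
      rwa [mul_inv_cancel_right] at this
    exact ⟨a, ⟨ha, han⟩, b, ⟨hb, hbn⟩, rfl⟩
  have hQt : Q ≠ ⊤ := by
    rintro rfl
    exact h.symm.A_ne_top (top_le_iff.1 hQB)
  have hnt := h.not_normal hne hQt
  obtain ⟨t, ht, htq, htB⟩ := h.twoB q
  haveI : Fact t.Prime := ⟨ht⟩
  refine h.symm.F5 htB (H := normalizer (Q : Set G)) ?_ (h.pre _ hnt hpre) ?_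
  · exact le_normalizer_of_le_centralizer (sy_le_centralizer h.nB hQ hQB htq.symm)
  · intro y hy
    apply le_normalizer_of_le_centralizer (A := B ⊓ centralizer (B : Set G)) _ hy
    exact inf_le_right.trans (centralizer_le hQB)

end KWsec

end CfsgH1
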