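import Cfsg.Agent.H1.Subn
import Cfsg.Agent.H1.KW
import Cfsg.Agent.H2.Cores

set_option autoImplicit false

open Cfsg Subgroup
open scoped Pointwise commutatorElement

namespace CfsgH1

universe u v
variable {G : Type u} [Group G]

theorem quad_comm {V H : Subgroup G} (hq : ⁅⁅V, H⁆, H⁆ = ⊥) : ⁅H, H⁆ ≤ centralizer (V : Set G) := by
  rw [le_centralizer_iff_commutator]
  apply commutator_commutator_eq_bot_of_rotate
  · rw [commutator_comm H V]; exact hq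
  · exact hq

/-- elementwise chain stabilizing power formula -/
theorem conj_pow_chain {x v w : G} (h1 : x * v * x⁻¹ = w * v) (h2 : x * w = w * x) (k : ℕ) : x ^ k * v * (x ^ k)⁻¹ = w ^ k * v := by
  induction k with
  | zero => simp
  | succ k ih =>
    have h3 : x * w ^ k = w ^ k * x := (Commute.pow_right (show Commute x w from h2) k).eq
    calc x ^ (k + 1) * v * (x ^ (k + 1))⁻¹ = x * (x ^ k * v * (x ^ k)⁻¹) * x⁻¹ := by rw [pow_succ']; group
      _ = x * w ^ k * v * x⁻¹ := by rw [ih]; group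
      _ = w ^ k * (x * v * x⁻¹) := by rw [h3]; group
      _ = w ^ (k + 1) * v := by rw [h1, pow_succ]; group

theorem quad_pow {p : ℕ} {V H : Subgroup G} (hV : IsElementaryAbelian p V) (hHV : H ≤ normalizer (V : Set G)) (hq : ⁅⁅V, H⁆, H⁆ = ⊥) {a : G} (ha : a ∈ H) : 
    a ^ p ∈ centralizer (V : Set G) := by
  rw [Subgroup.mem_centralizer_iff]
  intro v hv
  have h1 : ⁅v, a⁆ ∈ ⁅V, H⁆ := commutator_mem_commutator hv ha
  have h2 : ⁅⁅v, a⁆, a⁆ = 1 := by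
    have := commutator_mem_commutator h1 ha
    rwa [hq, Subgroup.mem_bot] at this
  have h3 : a * v * a⁻¹ = ⁅v, a⁆⁻¹ * v := by rw [commutatorElement_def]; group
  have h4 : a * ⁅v, a⁆⁻¹ = ⁅v, a⁆⁻¹ * a := (Commute.inv_right (show Commute a ⁅v, a⁆ from (commutatorElement_eq_one_iff_mul_comm.1 h2).symm)).eq
  have h5 := conj_pow_chain h3 h4 p
  have h6 : ⁅v, a⁆ ∈ V := by
    rw [commutatorElement_def]
    have := le_normalizer_iff_conj.1 hHV a ha v⁻¹ (V.inv_mem hv)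
    have e : v * a * v⁻¹ * a⁻¹ = v * (a * v⁻¹ * a⁻¹) := by group
    rw [e]; exact V.mul_mem hv this
  rw [hV.2 _ (V.inv_mem h6), one_mul] at h5
  exact (mul_inv_eq_iff_eq_mul.1 h5).symm

/-- the subgroup of elements stabilizing `1 ≤ W ≤ V` -/
def stab (V W : Subgroup G) : Subgroup G where
  carrier := {g | g ∈ centralizer (W : Set G) ∧ ∀ v ∈ V, g * v * g⁻¹ * v⁻¹ ∈ W}
  one_mem' := ⟨one_mem _, fun v _ => by simp⟩
  mul_mem' := by
    rintro g h ⟨hg1, hg2⟩ ⟨hh1, hh2⟩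
    refine ⟨mul_mem hg1 hh1, fun v hv => ?_⟩
    have h1 := hh2 v hv
    have h2 := Subgroup.mem_centralizer_iff.1 hg1 _ h1
    have e : g * h * v * (g * h)⁻¹ * v⁻¹ = (g * (h * v * h⁻¹ * v⁻¹)) * (v * g⁻¹ * v⁻¹) := by group
    rw [e, ← h2]
    have e2 : h * v * h⁻¹ * v⁻¹ * g * (v * g⁻¹ * v⁻¹) = (h * v * h⁻¹ * v⁻¹) * (g * v * g⁻¹ * v⁻¹) := by group
    rw [e2]
    exact W.mul_mem h1 (hg2 v hv)
  inv_mem' := by
    rintro g ⟨hg1, hg2⟩
    refine ⟨inv_mem hg1, fun v hv => ?_⟩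
    have h1 := hg2 v hv
    have h2 := Subgroup.mem_centralizer_iff.1 (inv_mem hg1) _ h1
    have e : g⁻¹ * v * g⁻¹⁻¹ * v⁻¹ = g⁻¹ * (g * v * g⁻¹ * v⁻¹)⁻¹ * g := by group
    rw [e]
    have h3 : g⁻¹ * (g * v * g⁻¹ * v⁻¹)⁻¹ = (g * v * g⁻¹ * v⁻¹)⁻¹ * g⁻¹ := by
      have h4 : Commute g⁻¹ (g * v * g⁻¹ * v⁻¹) := h2.symm
      exact (Commute.inv_right h4).eq
    rw [h3, inv_mul_cancel_right]
    exact W.inv_mem h1

theorem mem_stab {V W : Subgroup G} {g : G} : g ∈ stab V W ↔ g ∈ centralizer (W : Set G) ∧ ∀ v ∈ V, g * v * g⁻¹ * v⁻¹ ∈ W := Iff.rfl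

theorem stab_pow {p : ℕ} {V W : Subgroup G} (hWV : W ≤ V) (hV : ∀ v ∈ V, v ^ p = 1) {g : G} (hg : g ∈ stab V W) : g ^ p ∈ centralizer (V : Set G) := by
  rw [Subgroup.mem_centralizer_iff]
  intro v hv
  have h1 := hg.2 v hv
  have h2 := Subgroup.mem_centralizer_iff.1 hg.1 _ h1
  have h3 : g * v * g⁻¹ = (g * v * g⁻¹ * v⁻¹) * v := by group
  have h5 := conj_pow_chain h3 h2.symm p
  rw [hV _ (hWV h1), one_mul] at h5
  exact (mul_inv_eq_iff_eq_mul.1 h5).symm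

theorem stab_commutator {V E₁ E₂ : Subgroup G} (hab : ∀ x ∈ V, ∀ y ∈ V, x * y = y * x) (h₁ : E₁ ≤ normalizer (V : Set G)) (h₂ : E₂ ≤ normalizer (V : Set G)) (hc : ⁅⁅V, E₁⁆, E₂⁆ = ⊥) : 
    ⁅E₁, E₂⁆ ≤ stab V ⁅V, E₁⁆ := by
  have hE₂ : ∀ b ∈ E₂, ∀ w ∈ ⁅V, E₁⁆, b * w = w * b := by
    intro b hb w hw
    have := commutator_mem_commutator hw hb
    rw [hc, Subgroup.mem_bot] at this
    exact (commutatorElement_eq_one_iff_mul_comm.1 this).symm
  have hE₁ : E₁ ≤ normalizer ((⁅V, E₁⁆ : Subgroup G) : Set G) := normalizer_commutator h₁ le_normalizer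
  have hWV : ⁅V, E₁⁆ ≤ V := by rw [← Subgroup.le_normalizer_iff_commutator_le_left]; exact h₁
  rw [Subgroup.commutator_le]
  intro a ha b hb
  refine ⟨?_, ?_⟩
  · rw [Subgroup.mem_centralizer_iff]
    intro w hw
    have hw' := le_normalizer_iff_conj.1 hE₁ a⁻¹ (E₁.inv_mem ha) w hw
    rw [inv_inv] at hw'
    have e1 := hE₂ b hb _ hw'
    have e2 := hE₂ b⁻¹ (E₂.inv_mem hb) _ hw
    rw [commutatorElement_def]
    calc w * (a * b * a⁻¹ * b⁻¹) = a * ((a⁻¹ * w * a) * b) * a⁻¹ * b⁻¹ := by group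
      _ = a * (b * (a⁻¹ * w * a)) * a⁻¹ * b⁻¹ := by rw [e1]
      _ = a * b * a⁻¹ * (w * b⁻¹) := by group
      _ = a * b * a⁻¹ * (b⁻¹ * w) := by rw [e2]
      _ = _ := by group
  · intro v hv
    have hu : b⁻¹ * v * b ∈ V := by
      have := le_normalizer_iff_conj.1 h₂ b⁻¹ (E₂.inv_mem hb) v hv
      rwa [inv_inv] at this
    set u := b⁻¹ * v * b with hudef
    have hw1 : a⁻¹ * u * a * u⁻¹ ∈ ⁅V, E₁⁆ := by
      have := commutator_mem_commutator hu (E₁.inv_mem ha)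
      rw [commutatorElement_def] at this
      have h3 := (⁅V, E₁⁆).inv_mem this
      have e : (u * a⁻¹ * u⁻¹ * a⁻¹⁻¹)⁻¹ = a⁻¹ * u * a * u⁻¹ := by group
      rwa [e] at h3
    set w := a⁻¹ * u * a * u⁻¹ with hw
    have hw2 : a * v * a⁻¹ * v⁻¹ ∈ ⁅V, E₁⁆ := by
      have := (⁅V, E₁⁆).inv_mem (commutator_mem_commutator hv ha)
      have e : (⁅v, a⁆)⁻¹ = a * v * a⁻¹ * v⁻¹ := by rw [commutatorElement_def]; group
      rwa [e] at this
    have hwa : a * w * a⁻¹ ∈ ⁅V, E₁⁆ := le_normalizer_iff_conj.1 hE₁ a ha w hw1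
    have e1 := hE₂ b hb w hw1
    rw [commutatorElement_def]
    have key : a * b * a⁻¹ * b⁻¹ * v * (a * b * a⁻¹ * b⁻¹)⁻¹ * v⁻¹ = (a * w * a⁻¹) * (a * v * a⁻¹ * v⁻¹) := by
      calc a * b * a⁻¹ * b⁻¹ * v * (a * b * a⁻¹ * b⁻¹)⁻¹ * v⁻¹ = a * (b * ((a⁻¹ * (b⁻¹ * v * b) * a)) * b⁻¹) * a⁻¹ * v⁻¹ := by group
        _ = a * (b * (w * u) * b⁻¹) * a⁻¹ * v⁻¹ := by rw [hw, ← hudef]; group
        _ = a * ((b * w) * u * b⁻¹) * a⁻¹ * v⁻¹ := by group
        _ = a * ((w * b) * u * b⁻¹) * a⁻¹ * v⁻¹ := by rw [e1]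
        _ = a * (w * (b * u * b⁻¹)) * a⁻¹ * v⁻¹ := by group
        _ = a * (w * v) * a⁻¹ * v⁻¹ := by
          have : b * u * b⁻¹ = v := by rw [hudef]; group
          rw [this]
        _ = _ := by group
    rw [key]
    exact (⁅V, E₁⁆).mul_mem hwa hw2


/-- the endomorphism `v ↦ a v a⁻¹ v⁻¹` of an abelian subgroup -/
def comHom {V : Subgroup G} (hab : ∀ x ∈ V, ∀ y ∈ V, x * y = y * x) {a : G} (ha : a ∈ normalizer (V : Set G)) : V →* V where
  toFun v := ⟨a * v * a⁻¹ * (v : G)⁻¹, V.mul_mem (le_normalizer_iff_conj.1 (le_refl (normalizer (V : Set G))) a ha v v.2) (V.inv_mem v.2)⟩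
  map_one' := Subtype.ext (by simp)
  map_mul' := by
    intro v w
    apply Subtype.ext
    have h1 : a * w * a⁻¹ ∈ V := le_normalizer_iff_conj.1 (le_refl (normalizer (V : Set G))) a ha w w.2
    have h2 := hab _ (V.mul_mem h1 (V.inv_mem w.2)) _ (V.inv_mem v.2)
    push_cast
    calc a * ((v : G) * w) * a⁻¹ * ((v : G) * w)⁻¹ = (a * v * a⁻¹) * ((a * w * a⁻¹ * (w : G)⁻¹) * (v : G)⁻¹) := by group
      _ = (a * v * a⁻¹) * ((v : G)⁻¹ * (a * w * a⁻¹ * (w : G)⁻¹)) := by rw [h2]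
      _ = _ := by group

theorem comHom_apply {V : Subgroup G} (hab : ∀ x ∈ V, ∀ y ∈ V, x * y = y * x) {a : G} (ha : a ∈ normalizer (V : Set G)) (v : V) : 
    (comHom hab ha v : G) = a * v * a⁻¹ * (v : G)⁻¹ := rfl

theorem card_le_sq [Finite G] {V : Subgroup G} (hab : ∀ x ∈ V, ∀ y ∈ V, x * y = y * x) {a : G} (ha : a ∈ normalizer (V : Set G)) 
    (hq : ∀ v ∈ V, a * (a * v * a⁻¹ * v⁻¹) = (a * v * a⁻¹ * v⁻¹) * a) : 
    Nat.card V ≤ Nat.card (V ⊓ centralizer (zpowers a : Set G) : Subgroup G) ^ 2 := by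
  have hmem : ∀ x : G, x ∈ centralizer (zpowers a : Set G) ↔ a * x = x * a := by
    intro x
    rw [Subgroup.mem_centralizer_iff]
    constructor
    · intro h; exact h a (mem_zpowers a)
    · rintro h _ ⟨k, rfl⟩
      exact (Commute.zpow_left (show Commute a x from h) k).eq
  have h1 : Nat.card V = Nat.card (comHom hab ha).ker * Nat.card (comHom hab ha).range := by
    rw [← Subgroup.index_ker]; exact (Subgroup.card_mul_index _).symm
  have h2 : Nat.card (comHom hab ha).ker ≤ Nat.card (V ⊓ centralizer (zpowers a : Set G) : Subgroup G) := by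
    refine Nat.card_le_card_of_injective (fun x => ⟨((x : V) : G), (x : V).2, ?_⟩) ?_
    · change ((x : V) : G) ∈ centralizer (zpowers a : Set G)
      rw [hmem]
      have := congrArg Subtype.val (MonoidHom.mem_ker.1 x.2)
      rw [comHom_apply] at this
      exact mul_inv_eq_iff_eq_mul.1 (mul_inv_eq_one.1 this)
    · intro x y hxy
      have h9 := Subtype.ext_iff.1 hxy
      exact Subtype.ext (Subtype.ext h9)
  have h3 : Nat.card (comHom hab ha).range ≤ Nat.card (V ⊓ centralizer (zpowers a : Set G) : Subgroup G) := by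
    refine Nat.card_le_card_of_injective (fun x => ⟨((x : V) : G), (x : V).2, ?_⟩) ?_
    · change ((x : V) : G) ∈ centralizer (zpowers a : Set G)
      obtain ⟨v, hv⟩ := x.2
      rw [hmem, ← hv, comHom_apply]
      exact hq v v.2
    · intro x y hxy
      have h9 := Subtype.ext_iff.1 hxy
      exact Subtype.ext (Subtype.ext h9)
  rw [h1, sq]
  exact Nat.mul_le_mul h2 h3

theorem quad_elt {V : Subgroup G} {a : G} (hq : ⁅⁅V, zpowers a⁆, zpowers a⁆ = ⊥) : ∀ v ∈ V, a * (a * v * a⁻¹ * v⁻¹) = (a * v * a⁻¹ * v⁻¹) * a := by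
  intro v hv
  have h1 := commutator_mem_commutator (commutator_mem_commutator hv (mem_zpowers a)) (mem_zpowers a)
  rw [hq, Subgroup.mem_bot] at h1
  have h2 := commutatorElement_eq_one_iff_mul_comm.1 h1
  have h3 : Commute a ⁅v, a⁆ := h2.symm
  have h4 := h3.inv_right
  have e : (⁅v, a⁆)⁻¹ = a * v * a⁻¹ * v⁻¹ := by rw [commutatorElement_def]; group
  rw [e] at h4
  exact h4.eq

theorem elemAb_comm {p : ℕ} {V : Subgroup G} (hV : IsElementaryAbelian p V) : ∀ x ∈ V, ∀ y ∈ V, x * y = y * x := 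
  fun x hx y hy => congrArg Subtype.val (hV.1.is_comm.comm ⟨x, hx⟩ ⟨y, hy⟩)

end CfsgH1
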