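import Cfsg.Agent.H1.SL2Sec2
import Cfsg.Agent.H1.Quad
import Cfsg.Agent.H1.Frat
import Cfsg.Prelude.Def_PLocal

set_option autoImplicit false

open Cfsg Subgroup Matrix
open scoped Pointwise commutatorElement

namespace CfsgH1

open CfsgH7

universe u v

/-- no subgroup has `SL₂(p)` as a homomorphic image -/
def SL2Free (p : ℕ) (G : Type u) [Group G] : Prop := 
  ¬ ∃ (K : Subgroup G) (f : K →* SpecialLinearGroup (Fin 2) (ZMod p)), Function.Surjective f

variable {p : ℕ} [hp : Fact p.Prime]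

theorem SL2Free.of_injective {G : Type u} [Group G] {G' : Type v} [Group G'] (h : SL2Free p G) (φ : G' →* G) (hφ : Function.Injective φ) : SL2Free p G' := by
  rintro ⟨K, f, hf⟩
  exact h ⟨K.map φ, f.comp (K.equivMapOfInjective φ hφ).symm.toMonoidHom, hf.comp (MulEquiv.surjective _)⟩

theorem SL2Free.of_surjective {G : Type u} [Group G] {G' : Type v} [Group G'] (h : SL2Free p G) (φ : G →* G') (hφ : Function.Surjective φ) : SL2Free p G' := by
  rintro ⟨K, f, hf⟩
  refine h ⟨K.comap φ, f.comp (φ.subgroupComap K), hf.comp ?_⟩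
  rintro ⟨k, hk⟩
  obtain ⟨g, rfl⟩ := hφ k
  exact ⟨⟨g, hk⟩, rfl⟩

theorem sl2Free_of_psolvable (h5 : 5 ≤ p) {G : Type u} [Group G] (hs : IsPSolvable p G) : SL2Free p G := by
  rintro ⟨K, f, hf⟩
  exact sl2_not_psolvable h5 (IsPSolvable.map (IsPSolvable.subgroup hs K) f hf)

theorem sl2Free_of_abelian (hp2 : p ≠ 2) {G : Type u} [Group G] [Finite G] (hab : ∀ T : Sylow 2 G, IsMulCommutative T) : SL2Free p G := by
  rintro ⟨K, f, hf⟩
  haveI : Fact (Nat.Prime 2) := ⟨Nat.prime_two⟩
  obtain ⟨T⟩ : Nonempty (Sylow 2 G) := inferInstance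
  exact nonab_of_surj hp2 K f hf T (hab T)

theorem isPStableOn_of_free (hp2 : p ≠ 2) {G : Type u} [Group G] [Finite G] (h : SL2Free p G) (V : Subgroup G) [V.Normal] (hV : IsElementaryAbelian p V) : 
    IsPStableOn p V := by
  intro a hq
  by_contra hna
  obtain ⟨-, K, -, f, hf⟩ := quad_main hp2 (isPGroup_of_forall_pow_eq_one hV.2) (le_normalizer_of_normal ⊤ V) (mem_top a) hq (by
    intro M hM hCM hMc hmem
    apply hna
    set C := centralizer (V : Set G) with hC
    set M' := M.map (⊤ : Subgroup G).subtype with hM'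
    have hM'n : M'.Normal := by
      refine ⟨fun n hn g => ?_⟩
      obtain ⟨m, hm, rfl⟩ := hn
      exact ⟨⟨g, mem_top g⟩ * m * ⟨g, mem_top g⟩⁻¹, hM.conj_mem m hm _, rfl⟩
    have haM : a ∈ M' := ⟨⟨a, mem_top a⟩, hmem, rfl⟩
    apply le_sSup (α := Subgroup (G ⧸ C)) (a := M'.map (QuotientGroup.mk' C)) _ ⟨a, haM, rfl⟩
    refine ⟨hM'n.map _ (QuotientGroup.mk'_surjective C), ?_⟩
    rintro ⟨_, ⟨x, hx, rfl⟩⟩
    obtain ⟨y, hy, z, hz, hyz, hyc, k, hk⟩ := CfsgH3.exists_pPart (p := p) x (orderOf_pos x).ne'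
    have hyM : y ∈ M' := by
      have : zpowers x ≤ M' := by rw [zpowers_le]; exact hx
      exact this hy
    have hyC : y ∈ C := by
      obtain ⟨m, hm, hmy⟩ := hyM
      rw [← hmy]
      apply hMc m hm
      have : orderOf m = orderOf y := by rw [← hmy]; exact (orderOf_injective _ (⊤ : Subgroup G).subtype_injective m).symm
      rw [this]; exact hyc
    refine ⟨k, Subtype.ext ?_⟩
    change (QuotientGroup.mk' C x) ^ p ^ k = 1
    have h1 : QuotientGroup.mk' C x = QuotientGroup.mk' C z := by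
      rw [hyz, map_mul]
      have : QuotientGroup.mk' C y = 1 := (QuotientGroup.eq_one_iff y).2 hyC
      rw [this, one_mul]
    rw [h1, ← map_pow, hk, map_one])
  exact h ⟨K, f, hf⟩


theorem mem_omegaOne {G : Type u} [Group G] {p : ℕ} {A : Subgroup G} (hab : ∀ x ∈ A, ∀ y ∈ A, x * y = y * x) {x : G} : 
    x ∈ omegaOne p A ↔ x ∈ A ∧ x ^ p = 1 := by
  constructor
  · intro hx
    have hx' : x ∈ closure {x : G | x ∈ A ∧ x ^ p = 1} := hx
    induction hx' using Subgroup.closure_induction with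
    | mem y hy => exact hy
    | one => exact ⟨A.one_mem, one_pow _⟩
    | mul y z hy hz ihy ihz =>
      obtain ⟨h1, h2⟩ := ihy hy
      obtain ⟨h3, h4⟩ := ihz hz
      refine ⟨A.mul_mem h1 h3, ?_⟩
      rw [(show Commute y z from hab y h1 z h3).mul_pow, h2, h4, one_mul]
    | inv y hy ihy =>
      obtain ⟨h1, h2⟩ := ihy hy
      exact ⟨A.inv_mem h1, by rw [inv_pow, h2, inv_one]⟩
  · rintro hx
    exact subset_closure hx

theorem omegaOne_le {G : Type u} [Group G] (p : ℕ) (A : Subgroup G) : omegaOne p A ≤ A := by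
  unfold omegaOne
  rw [closure_le]
  exact fun x hx => hx.1

theorem isElementaryAbelian_of {G : Type u} [Group G] {p : ℕ} {A : Subgroup G} (hab : ∀ x ∈ A, ∀ y ∈ A, x * y = y * x) (hp : ∀ x ∈ A, x ^ p = 1) : 
    IsElementaryAbelian p A := 
  ⟨⟨⟨fun a b => Subtype.ext (hab a a.2 b b.2)⟩⟩, hp⟩

theorem omegaOne_elemAb {G : Type u} [Group G] {p : ℕ} {A : Subgroup G} (hab : ∀ x ∈ A, ∀ y ∈ A, x * y = y * x) : IsElementaryAbelian p (omegaOne p A) :=
  isElementaryAbelian_of (fun x hx y hy => hab x (omegaOne_le p A hx) y (omegaOne_le p A hy)) (fun _ hx => ((mem_omegaOne hab).1 hx).2)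

theorem section_stab_of_free (hp2 : p ≠ 2) {G : Type u} [Group G] [Finite G] (h : SL2Free p G) (K N : Subgroup G) [hK : K.Normal] [hN : N.Normal] 
    (hcomm : ∀ x ∈ K, ∀ y ∈ K, x * y * x⁻¹ * y⁻¹ ∈ N) (hpow : ∀ x ∈ K, x ^ p ∈ N) : IsPStableOnSection p K N := by
  intro a hq
  set π := QuotientGroup.mk' N with hπ
  have hπs : Function.Surjective π := QuotientGroup.mk'_surjective N
  set V := K.map π with hV
  haveI hVn : V.Normal := hK.map π hπs
  have hVe : IsElementaryAbelian p V := by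
    apply isElementaryAbelian_of
    · rintro _ ⟨x, hx, rfl⟩ _ ⟨y, hy, rfl⟩
      rw [← map_mul, ← map_mul]
      have h1 : ((x * y * x⁻¹ * y⁻¹ : G) : G ⧸ N) = 1 := (QuotientGroup.eq_one_iff _).2 (hcomm x hx y hy)
      have h2 : π (x * y) = π (x * y * x⁻¹ * y⁻¹) * π (y * x) := by rw [← map_mul]; congr 1; group
      have h3 : π (x * y * x⁻¹ * y⁻¹) = 1 := h1
      rw [h2, h3, one_mul]
    · rintro _ ⟨x, hx, rfl⟩
      rw [← map_pow]
      exact (QuotientGroup.eq_one_iff _).2 (hpow x hx)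
  have hz : zpowers (π a) = (zpowers a).map π := (MonoidHom.map_zpowers π a).symm
  have h1 := isPStableOn_of_free hp2 (h.of_surjective π hπs) V hVe (π a) (by
    rw [hz, hV, ← map_commutator, ← map_commutator, Subgroup.map_eq_bot_iff, hπ, QuotientGroup.ker_mk']
    exact hq)
  set C := centralizer (V : Set (G ⧸ N)) with hC
  set φ : G →* (G ⧸ N) ⧸ C := (QuotientGroup.mk' C).comp π with hφ
  have hφs : Function.Surjective φ := (QuotientGroup.mk'_surjective C).comp hπs
  have hker : sectionKernel K N = (⊥ : Subgroup ((G ⧸ N) ⧸ C)).comap φ := by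
    rw [hφ, ← Subgroup.comap_comap]
    have : (⊥ : Subgroup ((G ⧸ N) ⧸ C)).comap (QuotientGroup.mk' C) = C := by
      change (QuotientGroup.mk' C).ker = C
      exact QuotientGroup.ker_mk' C
    rw [this]; rfl
  refine ⟨(pCore p ((G ⧸ N) ⧸ C)).comap φ, inferInstance, ?_, ?_, h1⟩
  · rw [hker]; exact Subgroup.comap_mono bot_le
  · rw [hker, Subgroup.relIndex_comap, Subgroup.map_comap_eq_self_of_surjective hφs, Subgroup.relIndex_bot_left]
    exact IsPGroup.iff_card.1 (CfsgH2.isPGroup_pCore p)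

theorem isActionPStable_of_free (hp2 : p ≠ 2) {G : Type u} [Group G] [Finite G] (h : SL2Free p G) : IsActionPStable p G := by
  refine ⟨fun V _ hV => isPStableOn_of_free hp2 h V hV, ?_, ?_⟩
  · have hpg : IsPGroup p (pCore p G) := CfsgH2.isPGroup_pCore p
    haveI := hpg.isNilpotent
    apply section_stab_of_free hp2 h
    · intro x hx y hy
      refine ⟨⟨x, hx⟩ * ⟨y, hy⟩ * ⟨x, hx⟩⁻¹ * ⟨y, hy⟩⁻¹, ?_, rfl⟩
      apply commutator_le_frattini
      exact commutator_mem_commutator (mem_top _) (mem_top _)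
    · intro x hx
      exact ⟨⟨x, hx⟩ ^ p, pow_mem_frattini hpg _, rfl⟩
  · intro S V _ hV
    apply isPStableOn_of_free hp2 (h.of_injective (Subgroup.subtype _) (Subgroup.subtype_injective _))
    have hZ : ∀ x ∈ (thompsonSubgroup p S ⊓ centralizer (thompsonSubgroup p S : Set S) : Subgroup S), 
        ∀ y ∈ (thompsonSubgroup p S ⊓ centralizer (thompsonSubgroup p S : Set S) : Subgroup S), x * y = y * x := by
      intro x hx y hy
      exact Subgroup.mem_centralizer_iff.1 hy.2 x hx.1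
    have h1 : IsElementaryAbelian p (omegaCenterThompson p S) := omegaOne_elemAb hZ
    apply isElementaryAbelian_of
    · intro x hx y hy
      obtain ⟨u, hu, hux⟩ := hV ⟨x, hx, rfl⟩
      obtain ⟨v, hv, hvy⟩ := hV ⟨y, hy, rfl⟩
      have h2 := elemAb_comm h1 u hu v hv
      have h3 := congrArg (Subgroup.subtype _) h2
      rw [map_mul, map_mul, hux, hvy] at h3
      exact Subtype.ext h3
    · intro x hx
      obtain ⟨u, hu, hux⟩ := hV ⟨x, hx, rfl⟩
      have h2 := h1.2 u hu
      have h3 := congrArg (Subgroup.subtype _) h2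
      rw [map_pow, hux] at h3
      exact Subtype.ext h3

end CfsgH1
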