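import Mathlib
import Cfsg.Agent.H1.Syl
import Cfsg.Agent.H1.ConjAct

set_option autoImplicit false

open Cfsg Subgroup
open scoped Pointwise commutatorElement

namespace CfsgH1

universe u v
variable {G : Type u} [Group G]

theorem simple_not_pgroup [Finite G] {T : Subgroup G} (hT : IsSimpleGroup T) (hna : ¬ IsMulCommutative T) {r : ℕ} [Fact r.Prime] : ¬ IsPGroup r T := by
  intro hp
  haveI := hT
  haveI : Nontrivial T := hT.toNontrivial
  have h1 : Nontrivial (Subgroup.center T) := hp.center_nontrivial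
  have h2 : Subgroup.center T ≠ ⊥ := (Subgroup.nontrivial_iff_ne_bot _).1 h1
  rcases (inferInstance : (Subgroup.center T).Normal).eq_bot_or_eq_top with h | h
  · exact h2 h
  · apply hna
    refine ⟨⟨fun a b => ?_⟩⟩
    have : b ∈ Subgroup.center T := by rw [h]; exact mem_top b
    exact Subgroup.mem_center_iff.1 this a

theorem normalizer_inf_ne_top [Finite G] {T : Subgroup G} [T.Normal] (hT : IsSimpleGroup T) (hna : ¬ IsMulCommutative T) {r : ℕ} [Fact r.Prime] (R : Sylow r G) 
    (hR0 : (R : Subgroup G) ⊓ T ≠ ⊥) : normalizer (((R : Subgroup G) ⊓ T : Subgroup G) : Set G) ≠ ⊤ := by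
  intro h
  haveI := hT
  have hn : ((R : Subgroup G) ⊓ T).Normal := normalizer_eq_top_iff.1 h
  have hn2 : (((R : Subgroup G) ⊓ T).subgroupOf T).Normal := inferInstance
  rcases hn2.eq_bot_or_eq_top with h1 | h1
  · apply hR0
    rw [subgroupOf_eq_bot, disjoint_iff, inf_assoc, inf_idem] at h1
    exact h1
  · rw [subgroupOf_eq_top] at h1
    exact simple_not_pgroup hT hna (R.2.to_le (h1.trans inf_le_left))

end CfsgH1
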