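import Cfsg.Agent.H1.Zipper
import Cfsg.Agent.H2.Fitting

set_option autoImplicit false

open Cfsg Subgroup
open scoped Pointwise commutatorElement

namespace CfsgH1

universe u v

variable {G : Type u} [Group G]

/-- last term outside a subgroup -/
theorem exists_last {X : Type*} (f : X → X) {M : Set X} {c : X} (hc : c ∉ M) {n : ℕ} (hn : f^[n] c ∈ M) : ∃ k, f^[k] c ∉ M ∧ f (f^[k] c) ∈ M := by
  classical
  have hex : ∃ k, f^[k] c ∈ M := ⟨n, hn⟩
  have h1 := Nat.find_spec hex
  have h0 : Nat.find hex ≠ 0 := by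
    intro h
    rw [h] at h1
    exact hc h1
  refine ⟨Nat.find hex - 1, Nat.find_min hex (by omega), ?_⟩
  have h2 : f (f^[Nat.find hex - 1] c) = f^[Nat.find hex - 1 + 1] c := (Function.iterate_succ_apply' f _ c).symm
  rw [h2, Nat.sub_add_cancel (by omega)]
  exact h1

theorem smul_conj_top (g : G) : MulAut.conj g • (⊤ : Subgroup G) = ⊤ := by
  rw [eq_top_iff]
  intro x _
  rw [mem_conj_smul]
  exact Subgroup.mem_top _

theorem isCoatom_conj {M : Subgroup G} (hM : IsCoatom M) (g : G) : IsCoatom (MulAut.conj g • M) := by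
  refine ⟨fun ht => hM.1 ?_, fun K hK => ?_⟩
  · have h1 := congrArg (fun X : Subgroup G => MulAut.conj g⁻¹ • X) ht
    simp only [smul_conj_top, map_inv, inv_smul_smul] at h1
    rwa [← map_inv, smul_conj_top] at h1
  · have h1 : M < MulAut.conj g⁻¹ • K := by
      rw [map_inv]
      constructor
      · exact Subgroup.pointwise_smul_subset_iff.1 hK.le
      · intro h
        apply absurd _ (not_le_of_gt hK)
        have := (Subgroup.pointwise_smul_le_pointwise_smul_iff (a := MulAut.conj g)).2 h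
        rwa [smul_inv_smul] at this
    have h2 := hM.2 _ h1
    have h3 := congrArg (fun X : Subgroup G => MulAut.conj g • X) h2
    simp only [smul_conj_top, map_inv, smul_inv_smul] at h3
    exact h3

theorem engel_subnormal (n : ℕ) : ∀ (G : Type u) [Group G] [Finite G], Nat.card G = n → ∀ g : G, (∀ x : G, ∃ k : ℕ, (fun a => a * g * a⁻¹ * g⁻¹)^[k] x = 1) → (zpowers g).IsSubnormal := by
  induction n using Nat.strong_induction_on with
  | _ n ih =>
  intro G _ _ hG g hg
  by_contra hsub
  have hprop : ∀ K : Subgroup G, K ≠ ⊤ → zpowers g ≤ K → ((zpowers g).subgroupOf K).IsSubnormal := by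
    intro K hK hgK
    have hgK' : g ∈ K := zpowers_le.1 hgK
    have hlt : Nat.card K < n := by
      rw [← hG]
      exact lt_of_le_of_ne (Nat.le_of_dvd Nat.card_pos K.card_subgroup_dvd_card) fun he => hK ((Subgroup.card_eq_iff_eq_top K).1 he)
    have h1 := ih _ hlt K rfl ⟨g, hgK'⟩ (by
      intro x
      obtain ⟨k, hk⟩ := hg x
      refine ⟨k, ?_⟩
      apply Subtype.ext
      rw [OneMemClass.coe_one, ← hk]
      clear hk
      induction k generalizing x with
      | zero => rfl
      | succ k ihk => rw [Function.iterate_succ_apply, Function.iterate_succ_apply, ihk]; rfl)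
    convert h1 using 1
    apply le_antisymm
    · intro x hx
      rw [mem_subgroupOf] at hx
      obtain ⟨i, hi⟩ := mem_zpowers_iff.1 hx
      exact ⟨i, Subtype.ext hi⟩
    · rw [zpowers_le]
      exact mem_zpowers g
  have hzip := zipper _ (zpowers g) rfl hprop hsub
  have hne : zpowers g ≠ ⊤ := by
    intro h
    exact hsub (h ▸ IsSubnormal.top)
  obtain ⟨M, hM, hgM⟩ := (eq_top_or_exists_le_coatom (zpowers g)).resolve_left hne
  by_cases hMn : M.Normal
  · exact hsub (IsSubnormal.trans hgM (hprop M hM.1 hgM) hMn.isSubnormal)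
  apply hMn
  rw [← Subgroup.normalizer_eq_top_iff]
  by_contra hN
  have hNM : normalizer (M : Set G) = M := by
    by_contra hne'
    exact hN (hM.2 _ (lt_of_le_of_ne le_normalizer (Ne.symm hne')))
  obtain ⟨c, -, hc⟩ := SetLike.exists_of_lt hM.lt_top
  obtain ⟨n', hn'⟩ := hg c
  obtain ⟨k, hk1, hk2⟩ := exists_last (fun a => a * g * a⁻¹ * g⁻¹) (M := (M : Set G)) hc (n := n') (by rw [hn']; exact M.one_mem)
  set d := (fun a => a * g * a⁻¹ * g⁻¹)^[k] c with hd
  have h1 : d * g * d⁻¹ ∈ M := by
    have := M.mul_mem hk2 (hgM (mem_zpowers g))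
    rwa [inv_mul_cancel_right] at this
  have h2 : IsCoatom (MulAut.conj d⁻¹ • M) := isCoatom_conj hM _
  have h3 : zpowers g ≤ MulAut.conj d⁻¹ • M := by
    rw [zpowers_le]
    refine ⟨d * g * d⁻¹, h1, ?_⟩
    simp [mul_assoc]
  have h4 := hzip _ _ h2 hM h3 hgM
  apply hk1
  rw [SetLike.mem_coe, ← hNM, ← inv_mem_iff]
  exact conj_smul_eq_self_iff.1 h4

end CfsgH1
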