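import Cfsg.Agent.H1.Thomp3
import Cfsg.Agent.H1.CopExtra
import Cfsg.Agent.H1.MinNon

set_option autoImplicit false

/-! Failure of factorization: elementary abelian p-groups acting on a p'-group. -/

open Cfsg Subgroup CfsgH3
open scoped Pointwise commutatorElement

namespace CfsgH1

universe u v
variable {G : Type u} [Group G]

theorem le_of_forall_sylowOf [Finite G] {L M : Subgroup G} (h : ∀ r : ℕ, r.Prime → ∃ R, IsSylowOf r R L ∧ R ≤ M) : L ≤ M := by
  have h1 : M.subgroupOf L = ⊤ := by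
    apply eq_top_of_sylow_le
    intro r hr
    obtain ⟨R, ⟨P, hP⟩, hRM⟩ := h r hr
    refine ⟨P, ?_⟩
    intro x hx
    rw [Subgroup.mem_subgroupOf]
    apply hRM
    rw [← hP]
    exact ⟨x, hx, rfl⟩
  exact Subgroup.subgroupOf_eq_top.1 h1

theorem elem_compl [Finite G] {p : ℕ} [hp : Fact p.Prime] {A D : Subgroup G} (hA : Good p A) (hD : D ≤ A) : ∃ C ≤ A, C ⊓ D = ⊥ ∧ C ⊔ D = A := by
  have hs : {C : Subgroup G | C ≤ A ∧ C ⊓ D = ⊥}.Finite := Set.toFinite _
  obtain ⟨C, hC, hmax⟩ := Set.Finite.exists_maximalFor (fun C : Subgroup G => Nat.card C) _ hs ⟨⊥, bot_le, bot_inf_eq _⟩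
  refine ⟨C, hC.1, hC.2, le_antisymm (sup_le hC.1 hD) ?_⟩
  intro x hx
  by_contra hxC
  have hxC' : x ∉ C := fun h => hxC (mem_sup_left h)
  have hzx : zpowers x ≤ A := by rw [zpowers_le]; exact hx
  have h1 : C < C ⊔ zpowers x := by
    refine lt_of_le_of_ne le_sup_left (fun he => hxC' ?_)
    rw [he]; exact mem_sup_right (mem_zpowers x)
  have h2 : (C ⊔ zpowers x) ⊓ D ≠ ⊥ := by
    intro hb
    have h3 := hmax (j := C ⊔ zpowers x) ⟨sup_le hC.1 hzx, hb⟩ (Nat.card_le_card_of_injective _ (Subgroup.inclusion_injective h1.le))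
    exact absurd (eq_of_le_of_card_le h1.le h3) h1.ne
  obtain ⟨z, hz, hz1⟩ : ∃ z ∈ (C ⊔ zpowers x) ⊓ D, z ≠ 1 := by
    by_contra hcon
    push Not at hcon
    exact h2 ((Subgroup.eq_bot_iff_forall _).2 hcon)
  have hn : zpowers x ≤ normalizer (C : Set G) := by
    apply le_normalizer_of_le_centralizer
    intro y hy
    rw [Subgroup.mem_centralizer_iff]
    intro c hc
    exact hA.1 c (hC.1 hc) y (hzx hy)
  obtain ⟨c, hc, _, ⟨i, rfl⟩, hce⟩ := (mem_sup_of_le_normalizer' hn).1 hz.1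
  have hce' : c * x ^ i = z := hce
  by_cases hi : x ^ i = 1
  · rw [hi, mul_one] at hce'
    have : z ∈ C ⊓ D := ⟨hce' ▸ hc, hz.2⟩
    rw [hC.2] at this
    exact hz1 (Subgroup.mem_bot.1 this)
  · have h3 : x ∈ zpowers (x ^ i) := by
      have hxp : x ^ p = 1 := hA.2 x hx
      have hcop : IsCoprime (i : ℤ) (p : ℤ) := by
        rw [Int.isCoprime_iff_gcd_eq_one]
        by_contra hne
        have h4 : (p : ℤ) ∣ i := by
          have h5 : Int.gcd i p ∣ p := by
            have := Int.gcd_dvd_natAbs_right i p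
            simpa using this
          rcases (Nat.dvd_prime hp.out).1 h5 with h6 | h6
          · exact absurd h6 hne
          · rw [← h6]; exact Int.gcd_dvd_left ..
        obtain ⟨j, rfl⟩ := h4
        apply hi
        rw [_root_.zpow_mul, zpow_natCast, hxp, one_zpow]
      obtain ⟨a, b, hab⟩ := hcop
      refine ⟨a, ?_⟩
      change (x ^ i) ^ a = x
      have : x = x ^ (a * i + b * p) := by rw [hab, zpow_one]
      conv_rhs => rw [this]
      rw [zpow_add, mul_comm a i, _root_.zpow_mul, mul_comm b p, _root_.zpow_mul, zpow_natCast, hxp, one_zpow, mul_one]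
    have h4 : x ^ i ∈ C ⊔ D := by
      have : x ^ i = c⁻¹ * z := by rw [← hce']; group
      rw [this]
      exact mul_mem (mem_sup_left (inv_mem hc)) (mem_sup_right hz.2)
    exact hxC ((zpowers_le.2 h4) h3)

/-- the centralizer of an element of the abelian group A in an A-invariant subgroup is A-invariant -/
theorem inf_centralizer_invariant {A L : Subgroup G} (hA : ∀ x ∈ A, ∀ y ∈ A, x * y = y * x) (hAL : A ≤ normalizer (L : Set G)) {a : G} (ha : a ∈ A) : 
    A ≤ normalizer ((L ⊓ centralizer {a} : Subgroup G) : Set G) := by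
  rw [le_normalizer_iff_conj]
  intro b hb x hx
  refine ⟨le_normalizer_iff_conj.1 hAL b hb x hx.1, ?_⟩
  change b * x * b⁻¹ ∈ centralizer {a}
  rw [Subgroup.mem_centralizer_iff]
  intro y hy
  rw [Set.mem_singleton_iff.1 hy]
  have h1 : Commute a x := Subgroup.mem_centralizer_iff.1 hx.2 a rfl
  have h2 : Commute a b := hA a ha b hb
  exact ((h2.mul_right h1).mul_right h2.inv_right).eq

theorem card_of_cyclic_good [Finite G] {p : ℕ} [hp : Fact p.Prime] {A : Subgroup G} (hA : Good p A) (hc : IsCyclic A) : Nat.card A = 1 ∨ Nat.card A = p := by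
  have h1 : Monoid.exponent A = Nat.card A := IsCyclic.exponent_eq_card
  have h2 : Monoid.exponent A ∣ p := Monoid.exponent_dvd_of_forall_pow_eq_one (fun a => Subtype.ext (hA.2 a a.2))
  rw [h1] at h2
  exact (Nat.dvd_prime hp.out).1 h2

theorem good_isPGroup' {p : ℕ} [hp : Fact p.Prime] {A : Subgroup G} (h : Good p A) : IsPGroup p A := good_isPGroup h

theorem good_solvable {p : ℕ} {A : Subgroup G} (h : Good p A) : Group.IsSolvable A := isSolvable_of_abelian h.1

/-- Lemma H -/
theorem exists_hyperplane [Finite G] {p : ℕ} [hp : Fact p.Prime] {A D K : Subgroup G} (hA : Good p A) (hD : D ≤ A) (hAK : A ≤ normalizer (K : Set G)) 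
    (hcop : (Nat.card K).Coprime p) (hKD : ⁅K, D⁆ ≠ ⊥) : ∃ L ≤ K, ∃ B ≤ A, A ≤ normalizer (L : Set G) ∧ B ≤ centralizer (L : Set G) ∧ Nat.card A = p * Nat.card B ∧ ⁅L, D⁆ ≠ ⊥ := by
  have hs : {L : Subgroup G | L ≤ K ∧ A ≤ normalizer (L : Set G) ∧ ⁅L, D⁆ ≠ ⊥}.Finite := Set.toFinite _
  obtain ⟨L, ⟨hLK, hAL, hLD⟩, hmin⟩ := Set.Finite.exists_minimalFor (fun L : Subgroup G => Nat.card L) _ hs ⟨K, le_rfl, hAK, hKD⟩
  have hmin' : ∀ M < L, A ≤ normalizer (M : Set G) → M ≤ centralizer (D : Set G) := by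
    intro M hM hAM
    by_contra hcon
    have h1 : ⁅M, D⁆ ≠ ⊥ := fun h => hcon (Subgroup.commutator_eq_bot_iff_le_centralizer.1 h)
    have h2 := hmin (j := M) ⟨hM.le.trans hLK, hAM, h1⟩ (Nat.card_le_card_of_injective _ (Subgroup.inclusion_injective hM.le))
    exact absurd (eq_of_le_of_card_le hM.le h2) hM.ne
  have hAp : IsPGroup p A := good_isPGroup hA
  have hcopK : (Nat.card A).Coprime (Nat.card K) := by
    obtain ⟨n, hn⟩ := hAp.exists_card_eq
    rw [hn]; exact Nat.Coprime.pow_left n hcop.symm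
  have hcopL : (Nat.card A).Coprime (Nat.card L) := Nat.Coprime.coprime_dvd_right (Subgroup.card_dvd_of_le hLK) hcopK
  have hAs : Group.IsSolvable A ∨ Group.IsSolvable L := Or.inl (good_solvable hA)
  -- L is an r-group
  obtain ⟨r, hr, hLr⟩ : ∃ r : ℕ, r.Prime ∧ IsPGroup r L := by
    by_contra hcon
    push Not at hcon
    apply hLD
    rw [Subgroup.commutator_eq_bot_iff_le_centralizer]
    apply le_of_forall_sylowOf
    intro r hr
    haveI : Fact r.Prime := ⟨hr⟩
    obtain ⟨⟨R, hR, hAR⟩, -⟩ := coprime_sylow hAL hcopL hAs r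
    refine ⟨R, hR, hmin' R (lt_of_le_of_ne (isSylowOf_le hR) ?_) hAR⟩
    intro he
    apply hcon r hr
    rw [← he]; exact isSylowOf_isPGroup hR
  haveI : Fact r.Prime := ⟨hr⟩
  obtain ⟨A', hA'A, hA'i, hA's⟩ := elem_compl hA (inf_le_left : A ⊓ centralizer (L : Set G) ≤ A)
  have hcyc : IsCyclic A' := by
    by_contra hnc
    apply hLD
    rw [Subgroup.commutator_eq_bot_iff_le_centralizer]
    apply generated_by_centralizers_pgroup (A := A') (fun x hx y hy => hA.1 x (hA'A hx) y (hA'A hy)) hnc (hA'A.trans hAL) 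
      (Nat.Coprime.coprime_dvd_left (Subgroup.card_dvd_of_le hA'A) hcopL) hLr
    intro a ha ha1
    apply hmin' _ _ (inf_centralizer_invariant hA.1 hAL (hA'A ha))
    refine lt_of_le_of_ne inf_le_left (fun he => ha1 ?_)
    have h1 : a ∈ A' ⊓ (A ⊓ centralizer (L : Set G)) := by
      refine ⟨ha, hA'A ha, ?_⟩
      change a ∈ centralizer (L : Set G)
      rw [Subgroup.mem_centralizer_iff]
      intro l hl
      rw [← he] at hl
      exact (Subgroup.mem_centralizer_iff.1 hl.2 a rfl).symm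
    rw [hA'i] at h1
    exact Subgroup.mem_bot.1 h1
  have hcard : Nat.card A = Nat.card A' * Nat.card (A ⊓ centralizer (L : Set G) : Subgroup G) := by
    have hn : (A ⊓ centralizer (L : Set G)) ≤ normalizer (A' : Set G) := by
      apply le_normalizer_of_le_centralizer
      intro y hy
      rw [Subgroup.mem_centralizer_iff]
      intro c hc
      exact hA.1 c (hA'A hc) y hy.1
    have h1 := card_sup_mul_card_inf hn
    have h2 : (A ⊓ centralizer (L : Set G)) ⊔ A' = A := by rw [sup_comm]; exact hA's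
    have h3 : (A ⊓ centralizer (L : Set G)) ⊓ A' = ⊥ := by rw [inf_comm]; exact hA'i
    rw [h2, h3, Subgroup.card_bot, mul_one] at h1
    rw [h1, mul_comm]
  refine ⟨L, hLK, A ⊓ centralizer (L : Set G), inf_le_left, hAL, inf_le_right, ?_, hLD⟩
  rcases card_of_cyclic_good (good_of_le hA hA'A) hcyc with h1 | h1
  · exfalso
    apply hLD
    have h2 : A' = ⊥ := Subgroup.card_eq_one.1 h1
    rw [h2, bot_sup_eq] at hA's
    rw [Subgroup.commutator_eq_bot_iff_le_centralizer, Subgroup.le_centralizer_iff]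
    exact hD.trans (hA's.ge.trans inf_le_right)
  · rw [hcard, h1]

/-- fixed points strictly decrease -/
theorem fixed_lt [Finite G] {p : ℕ} [hp : Fact p.Prime] {V K A B L D : Subgroup G} (hV : IsPGroup p V) (hA : Good p A) (hAV : A ≤ normalizer (V : Set G))
    (hKV : K ≤ normalizer (V : Set G)) (hf : K ⊓ centralizer (V : Set G) = ⊥) (hcop : (Nat.card K).Coprime p) (hLK : L ≤ K) 
    (hBA : B ≤ A) (hAL : A ≤ normalizer (L : Set G)) (hBL : B ≤ centralizer (L : Set G)) (hDA : D ≤ A) (hLD : ⁅L, D⁆ ≠ ⊥) :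
    V ⊓ centralizer (A : Set G) < V ⊓ centralizer (B : Set G) := by
  refine lt_of_le_of_ne (inf_le_inf_left _ (centralizer_le hBA)) (fun he => hLD ?_)
  have hLB : L ≤ centralizer (B : Set G) := by rw [Subgroup.le_centralizer_iff]; exact hBL
  have hLDL : ⁅L, D⁆ ≤ L := by
    rw [← Subgroup.le_normalizer_iff_commutator_le_left]; exact hDA.trans hAL
  have h1 : ⁅L, D⁆ ≤ centralizer ((V ⊓ centralizer (B : Set G) : Subgroup G) : Set G) := by
    rw [Subgroup.commutator_le]
    intro l hl d hd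
    rw [Subgroup.mem_centralizer_iff]
    intro v hv
    have hdc : ∀ w ∈ V ⊓ centralizer (B : Set G), d * w = w * d := by
      intro w hw
      rw [← he] at hw
      exact Subgroup.mem_centralizer_iff.1 hw.2 d (hDA hd)
    have hlv : l⁻¹ * v * l ∈ V ⊓ centralizer (B : Set G) := by
      refine ⟨?_, ?_⟩
      · have := le_normalizer_iff_conj.1 hKV l⁻¹ (K.inv_mem (hLK hl)) v hv.1
        change l⁻¹ * v * l ∈ V
        rwa [inv_inv] at this
      · have hl' : l ∈ centralizer (B : Set G) := hLB hl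
        exact Subgroup.mul_mem _ (Subgroup.mul_mem _ (Subgroup.inv_mem _ hl') hv.2) hl'
    have e1 := hdc _ hlv
    have e2 := hdc v hv
    have e3 : d⁻¹ * v = v * d⁻¹ := by
      rw [inv_mul_eq_iff_eq_mul, ← mul_assoc, e2, mul_inv_cancel_right]
    calc v * ⁅l, d⁆ = l * ((l⁻¹ * v * l) * d) * l⁻¹ * d⁻¹ := by rw [commutatorElement_def]; group
      _ = l * (d * (l⁻¹ * v * l)) * l⁻¹ * d⁻¹ := by rw [e1]
      _ = (l * d * l⁻¹) * (v * d⁻¹) := by group
      _ = (l * d * l⁻¹) * (d⁻¹ * v) := by rw [e3]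
      _ = ⁅l, d⁆ * v := by rw [commutatorElement_def]; group
  have hcopL : (Nat.card (⁅L, D⁆ : Subgroup G)).Coprime p := Nat.Coprime.coprime_dvd_left (Subgroup.card_dvd_of_le (hLDL.trans hLK)) hcop
  have h2 := pq_lemma (P := B) (Q := ⁅L, D⁆) ((good_isPGroup hA).to_le hBA) hcopL (by
    rw [Subgroup.le_centralizer_iff]; exact hLDL.trans hLB) _ V rfl hV (hBA.trans hAV) ((hLDL.trans hLK).trans hKV) (by
      rw [Subgroup.le_centralizer_iff]; exact h1)
  rw [eq_bot_iff, ← hf]
  exact le_inf (hLDL.trans hLK) h2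

theorem mul_card_le_of_lt [Finite G] {p : ℕ} [hp : Fact p.Prime] {X Y : Subgroup G} (hY : IsPGroup p Y) (h : X < Y) : p * Nat.card X ≤ Nat.card Y := by
  have h1 := Subgroup.card_dvd_of_le h.le
  obtain ⟨n, hn⟩ := hY.exists_card_eq
  obtain ⟨m, hm⟩ := (hY.to_le h.le).exists_card_eq
  have h2 : Nat.card X < Nat.card Y := by
    refine lt_of_le_of_ne (Nat.le_of_dvd Nat.card_pos h1) (fun he => h.ne (eq_of_le_of_card_le h.le he.ge))
  rw [hn, hm] at h2 ⊢
  have h3 : m < n := (Nat.pow_lt_pow_iff_right hp.out.one_lt).1 h2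
  calc p * p ^ m = p ^ (m + 1) := by ring
    _ ≤ p ^ n := Nat.pow_le_pow_right hp.out.pos h3

/-- FF1: `|A| |C_V(A)| ≤ |V|` -/
theorem ff_card_le [Finite G] {p : ℕ} [hp : Fact p.Prime] {V K : Subgroup G} (hV : IsPGroup p V) (hKV : K ≤ normalizer (V : Set G)) 
    (hf : K ⊓ centralizer (V : Set G) = ⊥) (hcop : (Nat.card K).Coprime p) (n : ℕ) : ∀ A : Subgroup G, Nat.card A = n → Good p A → A ≤ normalizer (V : Set G) → 
    A ≤ normalizer (K : Set G) → A ⊓ centralizer (K : Set G) = ⊥ → mm V A ≤ Nat.card V := by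
  induction n using Nat.strong_induction_on with
  | _ n ih =>
    intro A hn hA hAV hAK hAf
    by_cases h0 : A = ⊥
    · rw [h0]
      unfold mm
      rw [Subgroup.card_bot, one_mul]
      exact Nat.card_le_card_of_injective _ (Subgroup.inclusion_injective inf_le_left)
    · have hKA : ⁅K, A⁆ ≠ ⊥ := by
        intro h
        apply h0
        rw [Subgroup.commutator_eq_bot_iff_le_centralizer, Subgroup.le_centralizer_iff] at h
        rw [eq_bot_iff, ← hAf]
        exact le_inf le_rfl h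
      obtain ⟨L, hLK, B, hBA, hAL, hBL, hcard, hLD⟩ := exists_hyperplane hA le_rfl hAK hcop hKA
      have h1 := fixed_lt hV hA hAV hKV hf hcop hLK hBA hAL hBL le_rfl hLD
      have h2 := mul_card_le_of_lt (hV.to_le inf_le_left) h1
      have hlt : Nat.card B < n := by
        rw [← hn, hcard]
        have := hp.out.two_le
        have := Nat.card_pos (α := B)
        nlinarith
      have h3 := ih _ hlt B rfl (good_of_le hA hBA) (hBA.trans hAV) (hBA.trans hAK) (by
        rw [eq_bot_iff, ← hAf]; exact inf_le_inf_right _ hBA)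
      unfold mm at h3 ⊢
      rw [hcard]
      calc p * Nat.card B * Nat.card ↥(V ⊓ centralizer (A : Set G)) = Nat.card B * (p * Nat.card ↥(V ⊓ centralizer (A : Set G))) := by ring
        _ ≤ Nat.card B * Nat.card ↥(V ⊓ centralizer (B : Set G)) := Nat.mul_le_mul_left _ h2
        _ ≤ Nat.card V := h3

/-- Equality is inherited by hyperplanes; for `D ≠ 1` there is one not containing `D`. -/
theorem ff_hyper [Finite G] {p : ℕ} [hp : Fact p.Prime] {V K : Subgroup G} (hV : IsPGroup p V) (hKV : K ≤ normalizer (V : Set G)) 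
    (hf : K ⊓ centralizer (V : Set G) = ⊥) (hcop : (Nat.card K).Coprime p) {A D : Subgroup G} (hA : Good p A) (hAV : A ≤ normalizer (V : Set G)) 
    (hAK : A ≤ normalizer (K : Set G)) (hAf : A ⊓ centralizer (K : Set G) = ⊥) (hm : mm V A = Nat.card V) (hDA : D ≤ A) (hD : D ≠ ⊥) : 
    ∃ B ≤ A, Nat.card A = p * Nat.card B ∧ ¬ D ≤ B ∧ mm V B = Nat.card V ∧ Nat.card ↥(V ⊓ centralizer (B : Set G)) = p * Nat.card ↥(V ⊓ centralizer (A : Set G)) := by
  have hKD : ⁅K, D⁆ ≠ ⊥ := by
    intro h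
    apply hD
    rw [Subgroup.commutator_eq_bot_iff_le_centralizer, Subgroup.le_centralizer_iff] at h
    rw [eq_bot_iff, ← hAf]
    exact le_inf hDA h
  obtain ⟨L, hLK, B, hBA, hAL, hBL, hcard, hLD⟩ := exists_hyperplane hA hDA hAK hcop hKD
  have h1 := fixed_lt hV hA hAV hKV hf hcop hLK hBA hAL hBL hDA hLD
  have h2 := mul_card_le_of_lt (hV.to_le inf_le_left) h1
  have h3 := ff_card_le hV hKV hf hcop _ B rfl (good_of_le hA hBA) (hBA.trans hAV) (hBA.trans hAK) (by
        rw [eq_bot_iff, ← hAf]; exact inf_le_inf_right _ hBA)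
  have h4 : mm V A ≤ mm V B := by
    unfold mm
    rw [hcard]
    calc p * Nat.card B * Nat.card ↥(V ⊓ centralizer (A : Set G)) = Nat.card B * (p * Nat.card ↥(V ⊓ centralizer (A : Set G))) := by ring
      _ ≤ Nat.card B * Nat.card ↥(V ⊓ centralizer (B : Set G)) := Nat.mul_le_mul_left _ h2
  have h5 : mm V B = Nat.card V := le_antisymm h3 (by rw [← hm]; exact h4)
  refine ⟨B, hBA, hcard, fun hDB => hLD ?_, h5, ?_⟩
  · rw [Subgroup.commutator_eq_bot_iff_le_centralizer, Subgroup.le_centralizer_iff]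
    exact hDB.trans hBL
  · have h6 : Nat.card B * Nat.card ↥(V ⊓ centralizer (B : Set G)) = Nat.card B * (p * Nat.card ↥(V ⊓ centralizer (A : Set G))) := by
      have h7 : mm V B = mm V A := by rw [h5, hm]
      unfold mm at h7
      rw [h7, hcard]; ring
    exact Nat.eq_of_mul_eq_mul_left Nat.card_pos h6

end CfsgH1
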