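import Cfsg.Agent.H1.FF

set_option autoImplicit false

/-! Failure of factorization: best offenders -/

open Cfsg Subgroup CfsgH3
open scoped Pointwise commutatorElement

namespace CfsgH1

universe u v
variable {G : Type u} [Group G]

/-- the p'-core of a subgroup, inside G -/
noncomputable def KH (p : ℕ) (H : Subgroup G) : Subgroup G := (pPrimeCore p H).map H.subtype

structure FFS (p : ℕ) (V H : Subgroup G) : Prop where
  hV : IsElementaryAbelian p V
  hHV : H ≤ normalizer (V : Set G)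
  hf : H ⊓ centralizer (V : Set G) = ⊥
  hS1 : centralizer (pPrimeCore p H : Set H) ≤ pPrimeCore p H

theorem KH_le (p : ℕ) (H : Subgroup G) : KH p H ≤ H := Subgroup.map_subtype_le _

theorem KH_norm (p : ℕ) (H : Subgroup G) : H ≤ normalizer (KH p H : Set G) := by
  have : (pPrimeCore p H).Normal := inferInstance
  rw [le_normalizer_iff_conj]
  rintro h hh _ ⟨x, hx, rfl⟩
  exact ⟨⟨h, hh⟩ * x * ⟨h, hh⟩⁻¹, this.conj_mem x hx ⟨h, hh⟩, rfl⟩

theorem KH_cop [Finite G] (p : ℕ) (H : Subgroup G) : (Nat.card (KH p H)).Coprime p := by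
  have h1 : Nat.card (KH p H) = Nat.card (pPrimeCore p H) := Subgroup.card_map_of_injective H.subtype_injective
  rw [h1]
  exact CfsgH2.coprime_card_pPrimeCore p

/-- minimal nontrivially acting best offender -/
def IsMinOff (p : ℕ) (V A : Subgroup G) : Prop := IsBestOffenderOn p V A ∧ ⁅V, A⁆ ≠ ⊥ ∧ ∀ B : Subgroup G, B ≤ A → IsBestOffenderOn p V B → ⁅V, B⁆ ≠ ⊥ → B = A

section

variable [Finite G] {p : ℕ} [hp : Fact p.Prime] {V H : Subgroup G} (h : FFS p V H)

include h

theorem FFS.KV : KH p H ≤ normalizer (V : Set G) := (KH_le p H).trans h.hHV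

theorem FFS.Kf : KH p H ⊓ centralizer (V : Set G) = ⊥ := by
  rw [eq_bot_iff, ← h.hf]; exact inf_le_inf_right _ (KH_le p H)

omit [Finite G] hp in
theorem FFS.cent : H ⊓ centralizer (KH p H : Set G) ≤ KH p H := by
  rintro x ⟨hx, hxc⟩
  refine ⟨⟨x, hx⟩, h.hS1 ?_, rfl⟩
  rw [Subgroup.mem_centralizer_iff]
  intro y hy
  exact Subtype.ext (Subgroup.mem_centralizer_iff.1 hxc y ⟨y, hy, rfl⟩)

theorem FFS.good {A : Subgroup G} (hAH : A ≤ H) (hA : IsBestOffenderOn p V A) : Good p A := by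
  refine ⟨fun x hx y hy => ?_, fun x hx => ?_⟩
  · have h1 : ⁅x, y⁆ ∈ H ⊓ centralizer (V : Set G) := by
      refine ⟨?_, hA.2.1 (commutator_mem_commutator hx hy)⟩
      change ⁅x, y⁆ ∈ H
      rw [commutatorElement_def]
      exact mul_mem (mul_mem (mul_mem (hAH hx) (hAH hy)) (inv_mem (hAH hx))) (inv_mem (hAH hy))
    rw [h.hf] at h1
    exact commutatorElement_eq_one_iff_mul_comm.1 (Subgroup.mem_bot.1 h1)
  · have h1 : x ^ p ∈ H ⊓ centralizer (V : Set G) := ⟨pow_mem (hAH hx) p, hA.2.2 x hx⟩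
    rw [h.hf] at h1
    exact Subgroup.mem_bot.1 h1

theorem FFS.faith {A : Subgroup G} (hAH : A ≤ H) (hA : IsPGroup p A) : A ⊓ centralizer (KH p H : Set G) = ⊥ := by
  have h1 : A ⊓ centralizer (KH p H : Set G) ≤ KH p H := (inf_le_inf_right _ hAH).trans h.cent
  have h2 : IsPGroup p (A ⊓ centralizer (KH p H : Set G) : Subgroup G) := hA.to_le inf_le_left
  have h3 : (Nat.card (A ⊓ centralizer (KH p H : Set G) : Subgroup G)).Coprime p := 
    Nat.Coprime.coprime_dvd_left (Subgroup.card_dvd_of_le h1) (KH_cop p H)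
  obtain ⟨n, hn⟩ := h2.exists_card_eq
  rw [← Subgroup.card_eq_one]
  rw [hn] at h3 ⊢
  rcases Nat.eq_zero_or_pos n with h0 | h0
  · rw [h0, pow_zero]
  · exact absurd ((Nat.coprime_pow_left_iff h0 p p).1 h3) (by rw [Nat.coprime_self]; exact hp.out.one_lt.ne')

omit [Finite G] hp in
theorem FFS.nontriv {A : Subgroup G} (hAH : A ≤ H) : ⁅V, A⁆ ≠ ⊥ ↔ A ≠ ⊥ := by
  constructor
  · rintro h1 rfl
    exact h1 (Subgroup.commutator_bot_right _)
  · intro h1 h2
    apply h1
    rw [Subgroup.commutator_eq_bot_iff_le_centralizer, Subgroup.le_centralizer_iff] at h2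
    rw [eq_bot_iff, ← h.hf]
    exact le_inf hAH h2

omit [Finite G] hp h in
theorem mm_bot (V : Subgroup G) : mm V (⊥ : Subgroup G) = Nat.card V := by
  unfold mm
  have : V ⊓ centralizer ((⊥ : Subgroup G) : Set G) = V := by
    rw [inf_eq_left]
    intro a _
    rw [Subgroup.mem_centralizer_iff]
    intro y hy
    have : y = 1 := Subgroup.mem_bot.1 hy
    rw [this]; simp
  rw [this, Subgroup.card_bot, one_mul]

theorem FFS.mm_eq {A : Subgroup G} (hAH : A ≤ H) (hA : IsBestOffenderOn p V A) : mm V A = Nat.card V := by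
  apply le_antisymm
  · exact ff_card_le (isPGroup_of_elemAb h.hV) h.KV h.Kf (KH_cop p H) _ A rfl (h.good hAH hA) (hAH.trans h.hHV) (hAH.trans (KH_norm p H)) (h.faith hAH (good_isPGroup (h.good hAH hA)))
  · rw [← mm_bot V]
    exact hA.1 ⊥ bot_le

omit [Finite G] hp h in
theorem best_of_mm {A B : Subgroup G} (hA : IsBestOffenderOn p V A) (hBA : B ≤ A) (hm : mm V B = mm V A) : IsBestOffenderOn p V B := by
  refine ⟨fun C hC => ?_, (commutator_mono hBA hBA).trans hA.2.1, fun a ha => hA.2.2 a (hBA ha)⟩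
  have := hA.1 C (hC.trans hBA)
  unfold mm at hm
  rw [hm]; exact this

theorem FFS.hyper {A D : Subgroup G} (hAH : A ≤ H) (hA : IsBestOffenderOn p V A) (hDA : D ≤ A) (hD : D ≠ ⊥) : 
    ∃ B ≤ A, Nat.card A = p * Nat.card B ∧ ¬ D ≤ B ∧ IsBestOffenderOn p V B := by
  have hg := h.good hAH hA
  obtain ⟨B, hBA, h1, h2, h3, h4⟩ := ff_hyper (isPGroup_of_elemAb h.hV) h.KV h.Kf (KH_cop p H) hg (hAH.trans h.hHV) (hAH.trans (KH_norm p H)) 
    (h.faith hAH (good_isPGroup hg)) (h.mm_eq hAH hA) hDA hD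
  exact ⟨B, hBA, h1, h2, best_of_mm hA hBA (by rw [h3, h.mm_eq hAH hA])⟩

/-- order of a minimal offender -/
theorem FFS.card_min {A : Subgroup G} (hAH : A ≤ H) (hA : IsMinOff p V A) : Nat.card A = p := by
  have hA0 : A ≠ ⊥ := (h.nontriv hAH).1 hA.2.1
  obtain ⟨B, hBA, h1, h2, h3⟩ := h.hyper hAH hA.1 le_rfl hA0
  by_cases hB : B = ⊥
  · rw [h1, hB, Subgroup.card_bot, mul_one]
  · exact absurd (hA.2.2 B hBA h3 ((h.nontriv (hBA.trans hAH)).2 hB)).ge h2

/-- a best offender of order p is minimal -/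
theorem FFS.min_of_card {A : Subgroup G} (hAH : A ≤ H) (hA : IsBestOffenderOn p V A) (hc : Nat.card A = p) : IsMinOff p V A := by
  have hA0 : A ≠ ⊥ := by
    rintro rfl
    rw [Subgroup.card_bot] at hc
    exact hp.out.one_lt.ne hc
  refine ⟨hA, (h.nontriv hAH).2 hA0, fun B hBA hB hVB => ?_⟩
  have hB0 := (h.nontriv (hBA.trans hAH)).1 hVB
  apply eq_of_le_of_card_le hBA
  rcases (Nat.dvd_prime hp.out).1 (hc ▸ Subgroup.card_dvd_of_le hBA) with h1 | h1
  · exact absurd (Subgroup.card_eq_one.1 h1) hB0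
  · rw [h1, hc]

theorem FFS.relIndex_min {A : Subgroup G} (hAH : A ≤ H) (hA : IsMinOff p V A) : (V ⊓ centralizer (A : Set G)).relIndex V = p := by
  have h1 := h.mm_eq hAH hA.1
  have h2 := card_mul_relIndex'' (inf_le_left : V ⊓ centralizer (A : Set G) ≤ V)
  unfold mm at h1
  rw [h.card_min hAH hA, h2, mul_comm] at h1
  exact (Nat.eq_of_mul_eq_mul_left Nat.card_pos h1).symm

/-- `[V, a]` for abelian V -/
theorem FFS.card_comm_min {A : Subgroup G} (hAH : A ≤ H) (hA : IsMinOff p V A) : Nat.card (⁅V, A⁆ : Subgroup G) = p := by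
  have hVc := comm_of_elemAb h.hV
  have hAV := hAH.trans h.hHV
  have hcard := h.card_min hAH hA
  haveI : Fact (Nat.card A).Prime := ⟨by rw [hcard]; exact hp.out⟩
  haveI hcyc : IsCyclic A := isCyclic_of_prime_card (p := Nat.card A) rfl
  obtain ⟨⟨a, haA⟩, ha⟩ := hcyc.exists_generator
  have hgen : ∀ x ∈ A, x ∈ zpowers a := by
    intro x hx
    obtain ⟨k, hk⟩ := ha ⟨x, hx⟩
    exact ⟨k, congrArg Subtype.val hk⟩
  -- the map v ↦ ⁅v, a⁆
  let f : V →* V := 
    { toFun := fun v => ⟨⁅(v : G), a⁆, commutator_mem_V hAV v.2 haA⟩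
      map_one' := Subtype.ext (by simp)
      map_mul' := by
        intro v w
        apply Subtype.ext
        change ⁅(v : G) * w, a⁆ = ⁅(v : G), a⁆ * ⁅(w : G), a⁆
        have h4 : ⁅(w : G), a⁆ ∈ V := commutator_mem_V hAV w.2 haA
        have e : ⁅(v : G) * w, a⁆ = (v * ⁅(w : G), a⁆) * (v : G)⁻¹ * ⁅(v : G), a⁆ := by simp only [commutatorElement_def]; group
        rw [e, hVc _ v.2 _ h4, mul_inv_cancel_right]
        exact hVc _ h4 _ (commutator_mem_V hAV v.2 haA) }
  have hker : f.ker = (V ⊓ centralizer (A : Set G)).subgroupOf V := by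
    ext v
    rw [MonoidHom.mem_ker, Subgroup.mem_subgroupOf]
    constructor
    · intro hv
      have h1 : ⁅(v : G), a⁆ = 1 := congrArg Subtype.val hv
      refine ⟨v.2, ?_⟩
      change (v : G) ∈ centralizer (A : Set G)
      rw [Subgroup.mem_centralizer_iff]
      intro x hx
      obtain ⟨k, rfl⟩ := hgen x hx
      have h2 : Commute (v : G) a := commutatorElement_eq_one_iff_mul_comm.1 h1
      exact (h2.zpow_right k).symm.eq
    · intro hv
      apply Subtype.ext
      change ⁅(v : G), a⁆ = 1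
      rw [commutatorElement_eq_one_iff_mul_comm]
      exact (Subgroup.mem_centralizer_iff.1 hv.2 a haA).symm
  have hrange : f.range.map V.subtype = ⁅V, A⁆ := by
    apply le_antisymm
    · rintro _ ⟨_, ⟨v, rfl⟩, rfl⟩
      exact commutator_mem_commutator v.2 haA
    · have hAC : ∀ x ∈ A, ∀ v ∈ V, ⁅v, x⁆ ∈ f.range.map V.subtype := by
        intro x hx
        obtain ⟨k, rfl⟩ := hgen x hx
        -- set of x ∈ A with the property is a subgroup: induct on integer powers
        have hpos : ∀ n : ℕ, ∀ v ∈ V, ⁅v, a ^ n⁆ ∈ f.range.map V.subtype := by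
          intro n
          induction n with
          | zero => intro v _; simp
          | succ n ih =>
            intro v hv
            have hw : a ^ n * v * (a ^ n)⁻¹ ∈ V := le_normalizer_iff_conj.1 hAV (a ^ n) (A.pow_mem haA n) v hv
            have hwa : a * (a ^ n * v * (a ^ n)⁻¹) * a⁻¹ ∈ V := le_normalizer_iff_conj.1 hAV a haA _ hw
            have e : ⁅v, a ^ (n + 1)⁆ = ⁅v, a ^ n⁆ * ⁅a ^ n * v * (a ^ n)⁻¹, a⁆ := by
              simp only [commutatorElement_def, pow_succ']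
              have hc : a * a ^ n = a ^ n * a := by rw [← pow_succ, pow_succ']
              group
            rw [e]
            exact mul_mem (ih v hv) ⟨f ⟨_, hw⟩, ⟨⟨_, hw⟩, rfl⟩, rfl⟩
        intro v hv
        obtain ⟨n, hn⟩ : ∃ n : ℕ, a ^ n = a ^ k := by
          have h1 : a ^ k ∈ zpowers a := ⟨k, rfl⟩
          obtain ⟨n, hn⟩ := mem_powers_iff_mem_zpowers.2 h1
          exact ⟨n, hn⟩
        change ⁅v, a ^ k⁆ ∈ _
        rw [← hn]
        exact hpos n v hv
      rw [Subgroup.commutator_le]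
      intro v hv x hx
      exact hAC x hx v hv
  rw [← hrange, Subgroup.card_map_of_injective V.subtype_injective]
  have h1 : Nat.card f.range = f.ker.index := (Subgroup.index_ker f).symm
  rw [h1, hker]
  exact h.relIndex_min hAH hA

end

end CfsgH1
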