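import Cfsg.Agent.H1.FF2

set_option autoImplicit false

/-! Failure of factorization: decomposition of best offenders -/

open Cfsg Subgroup CfsgH3
open scoped Pointwise commutatorElement

namespace CfsgH1

universe u v
variable {G : Type u} [Group G]

theorem card_biSup_le [Finite G] {p : ℕ} {ι : Type*} {A : Subgroup G} (hA : ∀ x ∈ A, ∀ y ∈ A, x * y = y * x) (B : ι → Subgroup G) 
    (hB : ∀ i, B i ≤ A) (hc : ∀ i, Nat.card (B i) = p) (s : Finset ι) : Nat.card (⨆ i ∈ s, B i : Subgroup G) ≤ p ^ s.card := by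
  classical
  induction s using Finset.induction_on with
  | empty => simp
  | insert a s ha ih =>
    rw [Finset.iSup_insert, Finset.card_insert_of_notMem ha, pow_succ']
    have hle : (⨆ i ∈ s, B i : Subgroup G) ≤ A := iSup₂_le fun i _ => hB i
    have hn : (⨆ i ∈ s, B i : Subgroup G) ≤ normalizer (B a : Set G) := by
      apply le_normalizer_of_le_centralizer
      intro y hy
      rw [Subgroup.mem_centralizer_iff]
      intro c hc
      exact hA c (hB a hc) y (hle hy)
    have h1 := card_sup_mul_card_inf hn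
    rw [sup_comm]
    calc Nat.card ((⨆ i ∈ s, B i) ⊔ B a : Subgroup G) ≤ Nat.card ((⨆ i ∈ s, B i) ⊔ B a : Subgroup G) * Nat.card ((⨆ i ∈ s, B i) ⊓ B a : Subgroup G) := 
          Nat.le_mul_of_pos_right _ Nat.card_pos
      _ = Nat.card (⨆ i ∈ s, B i : Subgroup G) * Nat.card (B a) := h1
      _ ≤ p ^ s.card * p := Nat.mul_le_mul ih (hc a).le
      _ = _ := mul_comm _ _

theorem iSupIndep_of_card [Finite G] {p : ℕ} [hp : Fact p.Prime] {k : ℕ} {A : Subgroup G} (hA : ∀ x ∈ A, ∀ y ∈ A, x * y = y * x) (B : Fin k → Subgroup G) 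
    (hB : ∀ i, B i ≤ A) (hc : ∀ i, Nat.card (B i) = p) (hs : ⨆ i, B i = A) (hk : Nat.card A = p ^ k) : iSupIndep B := by
  classical
  intro i
  rw [disjoint_iff]
  by_contra hne
  have h1 : B i ⊓ ⨆ j, ⨆ (_ : j ≠ i), B j = B i := by
    apply eq_of_le_of_card_le inf_le_left
    rcases (Nat.dvd_prime hp.out).1 (hc i ▸ Subgroup.card_dvd_of_le (inf_le_left : B i ⊓ ⨆ j, ⨆ (_ : j ≠ i), B j ≤ B i)) with h2 | h2
    · exact absurd (Subgroup.card_eq_one.1 h2) hne
    · rw [h2, hc i]
  have h2 : B i ≤ ⨆ j, ⨆ (_ : j ≠ i), B j := inf_eq_left.1 h1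
  have h3 : A ≤ ⨆ j ∈ (Finset.univ.erase i), B j := by
    rw [← hs]
    have h4 : (⨆ j, ⨆ (_ : j ≠ i), B j) ≤ ⨆ j ∈ (Finset.univ.erase i), B j := by
      apply iSup₂_le
      intro j hj
      exact le_iSup₂_of_le j (Finset.mem_erase.2 ⟨hj, Finset.mem_univ _⟩) le_rfl
    apply iSup_le
    intro j
    by_cases hj : j = i
    · rw [hj]; exact h2.trans h4
    · exact le_trans (le_iSup₂_of_le j hj le_rfl) h4
  have h4 := card_biSup_le hA B hB hc (Finset.univ.erase i)
  have h5 : Nat.card A ≤ p ^ (Finset.univ.erase i).card := (Nat.card_le_card_of_injective _ (Subgroup.inclusion_injective h3)).trans h4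
  rw [hk, Finset.card_erase_of_mem (Finset.mem_univ _), Finset.card_univ, Fintype.card_fin] at h5
  have h6 := (Nat.pow_le_pow_iff_right hp.out.one_lt).1 h5
  have : 0 < k := i.pos
  omega

theorem FFS.decomp [Finite G] {p : ℕ} [hp : Fact p.Prime] {V H : Subgroup G} (h : FFS p V H) (n : ℕ) : ∀ A : Subgroup G, Nat.card A = n → A ≤ H → 
    IsBestOffenderOn p V A → ∃ (k : ℕ) (B : Fin k → Subgroup G), (∀ i, B i ≤ A ∧ IsMinOff p V (B i)) ∧ Nat.card A = p ^ k ∧ ⨆ i, B i = A := by
  induction n using Nat.strong_induction_on with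
  | _ n ih =>
    intro A hn hAH hA
    by_cases h0 : A = ⊥
    · refine ⟨0, Fin.elim0, fun i => i.elim0, by rw [h0, Subgroup.card_bot, pow_zero], ?_⟩
      rw [h0, iSup_of_empty]
    · obtain ⟨B, hBA, hcard, -, hB⟩ := h.hyper hAH hA le_rfl h0
      have hlt : Nat.card B < Nat.card A := by
        rw [hcard]
        have := hp.out.two_le
        have := Nat.card_pos (α := B)
        nlinarith
      obtain ⟨k, C, hC, hk, hs⟩ := ih _ (hn ▸ hlt) B rfl (hBA.trans hAH) hB
      -- find a minimal offender not in B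
      obtain ⟨D, hDA, hD, hDB⟩ : ∃ D ≤ A, IsMinOff p V D ∧ ¬ D ≤ B := by
        by_cases hB0 : B = ⊥
        · refine ⟨A, le_rfl, h.min_of_card hAH hA ?_, ?_⟩
          · rw [hcard, hB0, Subgroup.card_bot, mul_one]
          · intro hle
            rw [hB0, le_bot_iff] at hle
            exact h0 hle
        · obtain ⟨B', hB'A, hcard', hBB', hB'⟩ := h.hyper hAH hA hBA hB0
          have hlt' : Nat.card B' < Nat.card A := by
            rw [hcard']
            have := hp.out.two_le
            have := Nat.card_pos (α := B')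
            nlinarith
          obtain ⟨k', C', hC', hk', hs'⟩ := ih _ (hn ▸ hlt') B' rfl (hB'A.trans hAH) hB'
          by_contra hcon
          push Not at hcon
          have h1 : B' ≤ B := by
            rw [← hs']
            apply iSup_le
            intro i
            exact hcon (C' i) ((hC' i).1.trans hB'A) (hC' i).2
          have h2 : Nat.card B ≤ Nat.card B' := by
            have : p * Nat.card B = p * Nat.card B' := by rw [← hcard, ← hcard']
            exact (Nat.eq_of_mul_eq_mul_left hp.out.pos this).le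
          exact hBB' (eq_of_le_of_card_le h1 h2).ge
      refine ⟨k + 1, Fin.snoc C D, ?_, ?_, ?_⟩
      · intro i
        refine Fin.lastCases ?_ (fun j => ?_) i
        · rw [Fin.snoc_last]; exact ⟨hDA, hD⟩
        · rw [Fin.snoc_castSucc]; exact ⟨(hC j).1.trans hBA, (hC j).2⟩
      · rw [hcard, hk]; ring
      · have h1 : B ≤ ⨆ i, (Fin.snoc C D : Fin (k + 1) → Subgroup G) i := by
          rw [← hs]
          apply iSup_le
          intro i
          have := le_iSup (Fin.snoc C D : Fin (k + 1) → Subgroup G) i.castSucc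
          rwa [Fin.snoc_castSucc] at this
        have h2 : D ≤ ⨆ i, (Fin.snoc C D : Fin (k + 1) → Subgroup G) i := by
          have := le_iSup (Fin.snoc C D : Fin (k + 1) → Subgroup G) (Fin.last k)
          rwa [Fin.snoc_last] at this
        apply le_antisymm
        · apply iSup_le
          intro i
          refine Fin.lastCases ?_ (fun j => ?_) i
          · rw [Fin.snoc_last]; exact hDA
          · rw [Fin.snoc_castSucc]; exact (hC j).1.trans hBA
        · refine le_trans ?_ (sup_le h1 h2)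
          -- B < B ⊔ D ≤ A, index p
          have h3 : B < B ⊔ D := lt_of_le_of_ne le_sup_left (fun he => hDB (by rw [he]; exact le_sup_right))
          have h4 : Nat.card A ≤ Nat.card (B ⊔ D : Subgroup G) := by
            rw [hcard]
            exact mul_card_le_of_lt ((good_isPGroup (h.good hAH hA)).to_le (sup_le hBA hDA)) h3
          exact (eq_of_le_of_card_le (sup_le hBA hDA) h4).ge

/-- H is generated by minimal offenders -/
theorem FFS.gen_min [Finite G] {p : ℕ} [hp : Fact p.Prime] {V H : Subgroup G} (h : FFS p V H) (hS3 : H = ⨆ A : {A : Subgroup G // A ≤ H ∧ Cfsg.IsBestOffenderOn p V A}, (A : Subgroup G)) 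
    {M : Subgroup G} (hM : ∀ A ≤ H, IsMinOff p V A → A ≤ M) : H ≤ M := by
  rw [hS3]
  apply iSup_le
  rintro ⟨A, hAH, hA⟩
  obtain ⟨k, B, hB, -, hs⟩ := h.decomp _ A rfl hAH hA
  change A ≤ M
  rw [← hs]
  apply iSup_le
  intro i
  exact hM _ ((hB i).1.trans hAH) (hB i).2

theorem FFS.exists_min [Finite G] {p : ℕ} [hp : Fact p.Prime] {V H : Subgroup G} (h : FFS p V H) (hS3 : H = ⨆ A : {A : Subgroup G // A ≤ H ∧ Cfsg.IsBestOffenderOn p V A}, (A : Subgroup G)) 
    (hH1 : H ≠ ⊥) : ∃ A ≤ H, IsMinOff p V A := by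
  by_contra hcon
  push Not at hcon
  apply hH1
  rw [eq_bot_iff]
  exact h.gen_min hS3 (fun A hA hm => absurd hm (hcon A hA))

end CfsgH1
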