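import Cfsg.Agent.H1.SL2Sec2

set_option autoImplicit false

/-! Recognition of SL(2,p) acting on its natural module. -/

open Cfsg Subgroup CfsgH7 Matrix
open scoped Pointwise commutatorElement

namespace CfsgH1

universe u v

section

variable {p : ℕ} [hp : Fact p.Prime]

theorem exists_basis_of_pair {W : Type*} [CommGroup W] [Finite W] [Module (ZMod p) (Additive W)] (hcard : Nat.card W = p ^ 2) 
    {w1 w2 : W} (h1 : w1 ≠ 1) (h2 : w2 ∉ zpowers w1) : 
    ∃ b : Module.Basis (Fin 2) (ZMod p) (Additive W), b 0 = Additive.ofMul w1 ∧ b 1 = Additive.ofMul w2 := by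
  have hsmul : ∀ (c : ZMod p) (w : W), c • Additive.ofMul w = Additive.ofMul (w ^ c.val) := by
    intro c w
    conv_lhs => rw [← ZMod.natCast_zmod_val c]
    rw [Nat.cast_smul_eq_nsmul]; rfl
  have hli : LinearIndependent (ZMod p) ![Additive.ofMul w1, Additive.ofMul w2] := by
    rw [LinearIndependent.pair_iff]
    intro s t hst
    have ht : t = 0 := by
      by_contra ht
      apply h2
      have h3 : Additive.ofMul w2 = (-(t⁻¹ * s)) • Additive.ofMul w1 := by
        have h4 : t • Additive.ofMul w2 = -(s • Additive.ofMul w1) := by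
          rw [eq_neg_iff_add_eq_zero, add_comm]; exact hst
        have h5 : t⁻¹ • (t • Additive.ofMul w2) = t⁻¹ • -(s • Additive.ofMul w1) := by rw [h4]
        rw [smul_smul, inv_mul_cancel₀ ht, one_smul] at h5
        rw [h5, smul_neg, smul_smul, neg_smul]
      rw [hsmul] at h3
      exact ⟨((-(t⁻¹ * s)).val : ℤ), by
        change w1 ^ (((-(t⁻¹ * s)).val : ℕ) : ℤ) = w2
        rw [zpow_natCast]; exact (Additive.ofMul.injective h3).symm⟩
    refine ⟨?_, ht⟩
    by_contra hs
    apply h1
    rw [ht, zero_smul, add_zero] at hst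
    have h3 := (smul_eq_zero.1 hst).resolve_left hs
    exact h3
  haveI : Finite (Additive W) := inferInstanceAs (Finite W)
  haveI : Module.Finite (ZMod p) (Additive W) := Module.Finite.of_finite
  have hfin : Fintype.card (Fin 2) = Module.finrank (ZMod p) (Additive W) := by
    have h3 := Module.natCard_eq_pow_finrank (K := ZMod p) (V := Additive W)
    have h4 : Nat.card (Additive W) = p ^ 2 := hcard
    rw [h4, Nat.card_zmod] at h3
    rw [Fintype.card_fin]
    exact Nat.pow_right_injective hp.out.two_le h3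
  refine ⟨basisOfLinearIndependentOfCardEqFinrank hli hfin, ?_, ?_⟩
  · simp
  · simp

/-- matrix representation -/
noncomputable def repMat {E W : Type*} [Group E] [CommGroup W] [MulDistribMulAction E W] [Module (ZMod p) (Additive W)] (b : Module.Basis (Fin 2) (ZMod p) (Additive W)) : 
    E →* Matrix (Fin 2) (Fin 2) (ZMod p) where
  toFun e := LinearMap.toMatrixAlgEquiv b ((MonoidHom.toAdditive (MulDistribMulAction.toMonoidHom W e)).toZModLinearMap p)
  map_one' := by
    have h : ((MonoidHom.toAdditive (MulDistribMulAction.toMonoidHom W (1 : E))).toZModLinearMap p) = (1 : Module.End (ZMod p) (Additive W)) := by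
      apply LinearMap.ext
      intro x
      change Additive.ofMul ((1 : E) • x.toMul) = x
      rw [one_smul]; rfl
    rw [h, map_one]
  map_mul' e f := by
    have h : ((MonoidHom.toAdditive (MulDistribMulAction.toMonoidHom W (e * f))).toZModLinearMap p) = 
        ((MonoidHom.toAdditive (MulDistribMulAction.toMonoidHom W e)).toZModLinearMap p) * ((MonoidHom.toAdditive (MulDistribMulAction.toMonoidHom W f)).toZModLinearMap p) := by
      apply LinearMap.ext
      intro x
      change Additive.ofMul ((e * f) • x.toMul) = Additive.ofMul (e • f • x.toMul)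
      rw [mul_smul]
    rw [h, map_mul]

theorem repMat_apply {E W : Type*} [Group E] [CommGroup W] [MulDistribMulAction E W] [Module (ZMod p) (Additive W)] (b : Module.Basis (Fin 2) (ZMod p) (Additive W)) 
    (e : E) (i j : Fin 2) : repMat b e i j = b.repr (Additive.ofMul (e • (b j).toMul)) i := by
  change LinearMap.toMatrixAlgEquiv b _ i j = _
  rw [LinearMap.toMatrixAlgEquiv_apply]
  rfl

theorem repMat_inj {E W : Type*} [Group E] [CommGroup W] [MulDistribMulAction E W] [Module (ZMod p) (Additive W)] (b : Module.Basis (Fin 2) (ZMod p) (Additive W)) 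
    {e : E} (h : repMat b e = 1) (w : W) : e • w = w := by
  have h1 : ((MonoidHom.toAdditive (MulDistribMulAction.toMonoidHom W e)).toZModLinearMap p) = (1 : Module.End (ZMod p) (Additive W)) := by
    apply (LinearMap.toMatrixAlgEquiv b).injective
    rw [map_one]; exact h
  have h2 := LinearMap.congr_fun h1 (Additive.ofMul w)
  exact h2

theorem det_repMat {E W : Type*} [Group E] [CommGroup W] [MulDistribMulAction E W] [Module (ZMod p) (Additive W)] (b : Module.Basis (Fin 2) (ZMod p) (Additive W)) 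
    {e : E} {k : ℕ} (he : e ^ (p ^ k) = 1) : (repMat b e).det = 1 := by
  have h1 : (repMat b e).det ^ (p ^ k) = 1 := by
    rw [← Matrix.det_pow, ← map_pow, he, map_one, Matrix.det_one]
  have h2 : (repMat b e).det ^ (p ^ k) = (repMat b e).det := by
    induction k generalizing e with
    | zero => simp
    | succ n _ => exact ZMod.pow_card_pow _
  rw [← h2, h1]

/-- the representation into SL(2,p) of a group generated by p-elements -/
noncomputable def repSL {E W : Type*} [Group E] [CommGroup W] [MulDistribMulAction E W] [Module (ZMod p) (Additive W)] (b : Module.Basis (Fin 2) (ZMod p) (Additive W)) 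
    (hgen : closure {e : E | ∃ k : ℕ, e ^ (p ^ k) = 1} = ⊤) : E →* SpecialLinearGroup (Fin 2) (ZMod p) where
  toFun e := ⟨repMat b e, by
    have h1 : (⊤ : Subgroup E) ≤ ((Units.coeHom (ZMod p)).comp (MonoidHom.toHomUnits ((Matrix.detMonoidHom).comp (repMat b)))).ker := by
      rw [← hgen, closure_le]
      rintro e ⟨k, hk⟩
      rw [SetLike.mem_coe, MonoidHom.mem_ker]
      exact det_repMat b hk
    exact h1 (mem_top e)⟩
  map_one' := Subtype.ext (map_one _)
  map_mul' e f := Subtype.ext (map_mul _ e f)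

theorem iso_sl2_aux {E W : Type*} [Group E] [CommGroup W] [Finite W] [MulDistribMulAction E W] [Module (ZMod p) (Additive W)] (hexp : ∀ w : W, w ^ p = 1) (hcard : Nat.card W = p ^ 2) 
    (hfaith : ∀ e : E, (∀ w : W, e • w = w) → e = 1) (hgen : closure {e : E | ∃ k : ℕ, e ^ (p ^ k) = 1} = ⊤) {a e' : E} {w1 w2 : W} (hw1 : w1 ≠ 1) (hw2 : w2 ∉ zpowers w1) 
    (ha1 : a • w1 = w1) (ha2 : a • w2 * w2⁻¹ ∈ zpowers w1) (ha3 : a • w2 ≠ w2) (he' : e' • w1 ∉ zpowers w1) : 
    Nonempty (E ≃* SpecialLinearGroup (Fin 2) (ZMod p)) := by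
  have hsmul : ∀ (c : ZMod p) (w : W), c • Additive.ofMul w = Additive.ofMul (w ^ c.val) := by
    intro c w
    conv_lhs => rw [← ZMod.natCast_zmod_val c]
    rw [Nat.cast_smul_eq_nsmul]; rfl
  obtain ⟨b, hb0, hb1⟩ := exists_basis_of_pair hcard hw1 hw2
  let f := repSL b hgen
  have hf : ∀ e, (f e).1 = repMat b e := fun e => rfl
  have hinj : Function.Injective f := by
    rw [injective_iff_map_eq_one]
    intro e he
    apply hfaith
    apply repMat_inj b
    rw [← hf, he]; rfl
  have hline : ∀ w : W, b.repr (Additive.ofMul w) 1 = 0 → w ∈ zpowers w1 := by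
    intro w hw
    have h1 := b.sum_repr (Additive.ofMul w)
    rw [Fin.sum_univ_two, hw, zero_smul, add_zero, hb0, hsmul] at h1
    refine ⟨((b.repr (Additive.ofMul w) 0).val : ℤ), ?_⟩
    change w1 ^ _ = w
    rw [zpow_natCast]
    exact Additive.ofMul.injective h1
  -- the matrix of a
  obtain ⟨k, hk⟩ := ha2
  have hk' : w1 ^ k = a • w2 * w2⁻¹ := hk
  have haw2 : a • w2 = w2 * w1 ^ k := by
    rw [hk', mul_comm w2, inv_mul_cancel_right]
  have hmat : (f a) = uE (k : ZMod p) := by
    apply Subtype.ext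
    rw [hf]
    change repMat b a = !![1, (k : ZMod p); 0, 1]
    have h0 : ∀ i, repMat b a i 0 = b.repr (b 0) i := by
      intro i
      rw [repMat_apply, hb0]
      change b.repr (Additive.ofMul (a • w1)) i = _
      rw [ha1]
    have h1 : ∀ i, repMat b a i 1 = b.repr (b 1 + (k : ZMod p) • b 0) i := by
      intro i
      rw [repMat_apply, hb0, hb1]
      change b.repr (Additive.ofMul (a • w2)) i = _
      rw [haw2]
      congr 2
      rw [ofMul_mul, ofMul_zpow, Int.cast_smul_eq_zsmul]
    ext i j
    fin_cases j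
    · fin_cases i
      · change repMat b a 0 0 = 1
        rw [h0]; simp
      · change repMat b a 1 0 = 0
        rw [h0]; simp
    · fin_cases i
      · change repMat b a 0 1 = (k : ZMod p)
        rw [h1]; simp
      · change repMat b a 1 1 = 1
        rw [h1]; simp
  have hk0 : (k : ZMod p) ≠ 0 := by
    intro h0
    apply ha3
    rw [ZMod.intCast_zmod_eq_zero_iff_dvd] at h0
    obtain ⟨m, hm⟩ := h0
    rw [haw2, hm, _root_.zpow_mul, zpow_natCast, hexp, _root_.one_zpow, mul_one]
  have hsurj : f.range = ⊤ := by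
    apply sl2_over (M := f.range) (s := f e')
    · intro c
      have h1 : uE (k : ZMod p) ∈ f.range := ⟨a, hmat⟩
      have h2 := pow_mem h1 (c * (k : ZMod p)⁻¹).val
      rw [uE_pow, nsmul_eq_mul, ZMod.natCast_zmod_val, inv_mul_cancel_right₀ hk0] at h2
      exact h2
    · exact ⟨e', rfl⟩
    · intro h0
      apply he'
      apply hline
      rw [hf, repMat_apply, hb0] at h0
      exact h0
  exact ⟨MulEquiv.ofBijective f ⟨hinj, MonoidHom.range_eq_top.1 hsurj⟩⟩

theorem iso_sl2 {E W : Type*} [Group E] [CommGroup W] [Finite W] [MulDistribMulAction E W] (hexp : ∀ w : W, w ^ p = 1) (hcard : Nat.card W = p ^ 2) 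
    (hfaith : ∀ e : E, (∀ w : W, e • w = w) → e = 1) (hgen : closure {e : E | ∃ k : ℕ, e ^ (p ^ k) = 1} = ⊤) {a e' : E} {w1 w2 : W} (hw1 : w1 ≠ 1) (hw2 : w2 ∉ zpowers w1) 
    (ha1 : a • w1 = w1) (ha2 : a • w2 * w2⁻¹ ∈ zpowers w1) (ha3 : a • w2 ≠ w2) (he' : e' • w1 ∉ zpowers w1) : 
    Nonempty (E ≃* SpecialLinearGroup (Fin 2) (ZMod p)) := by
  letI : Module (ZMod p) (Additive W) := AddCommGroup.zmodModule (n := p) (G := Additive W) (fun x => by
    change Additive.ofMul (x.toMul ^ p) = 0
    rw [hexp]; rfl)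
  exact iso_sl2_aux hexp hcard hfaith hgen hw1 hw2 ha1 ha2 ha3 he'

theorem embed_sl2_aux {E W : Type*} [Group E] [CommGroup W] [Finite W] [MulDistribMulAction E W] [Module (ZMod p) (Additive W)] (hexp : ∀ w : W, w ^ p = 1) (hcard : Nat.card W = p ^ 2) 
    (hfaith : ∀ e : E, (∀ w : W, e • w = w) → e = 1) (hgen : closure {e : E | ∃ k : ℕ, e ^ (p ^ k) = 1} = ⊤) : 
    ∃ f : E →* SpecialLinearGroup (Fin 2) (ZMod p), Function.Injective f := by
  obtain ⟨w1, hw1⟩ : ∃ w : W, w ≠ 1 := by
    by_contra hcon
    push Not at hcon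
    have h1 : Nat.card W = 1 := by
      rw [Nat.card_eq_one_iff_unique]
      exact ⟨⟨fun a b => (hcon a).trans (hcon b).symm⟩, ⟨1⟩⟩
    rw [hcard] at h1
    have := hp.out.two_le
    nlinarith
  obtain ⟨w2, hw2⟩ : ∃ w : W, w ∉ zpowers w1 := by
    by_contra hcon
    push Not at hcon
    have h1 : zpowers w1 = ⊤ := by rw [eq_top_iff]; exact fun w _ => hcon w
    have h2 : Nat.card (zpowers w1) = p ^ 2 := by rw [h1, Subgroup.card_top, hcard]
    rw [Nat.card_zpowers] at h2
    have h3 : orderOf w1 ∣ p := orderOf_dvd_of_pow_eq_one (hexp w1)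
    have h4 := Nat.le_of_dvd hp.out.pos h3
    rw [h2] at h4
    have := hp.out.two_le
    nlinarith
  obtain ⟨b, hb0, hb1⟩ := exists_basis_of_pair hcard hw1 hw2
  refine ⟨repSL b hgen, ?_⟩
  rw [injective_iff_map_eq_one]
  intro e he
  apply hfaith
  apply repMat_inj b
  have h1 : (repSL b hgen e).1 = repMat b e := rfl
  rw [← h1, he]; rfl

theorem embed_sl2 {E W : Type*} [Group E] [CommGroup W] [Finite W] [MulDistribMulAction E W] (hexp : ∀ w : W, w ^ p = 1) (hcard : Nat.card W = p ^ 2) 
    (hfaith : ∀ e : E, (∀ w : W, e • w = w) → e = 1) (hgen : closure {e : E | ∃ k : ℕ, e ^ (p ^ k) = 1} = ⊤) : 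
    ∃ f : E →* SpecialLinearGroup (Fin 2) (ZMod p), Function.Injective f := by
  letI : Module (ZMod p) (Additive W) := AddCommGroup.zmodModule (n := p) (G := Additive W) (fun x => by
    change Additive.ofMul (x.toMul ^ p) = 0
    rw [hexp]; rfl)
  exact embed_sl2_aux hexp hcard hfaith hgen

end

end CfsgH1
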