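import Cfsg.Agent.H1.FF3
import Cfsg.Agent.H1.NatMod

set_option autoImplicit false

/-! Natural module recognition inside a group -/

open Cfsg Subgroup CfsgH3
open scoped Pointwise commutatorElement

namespace CfsgH1

universe u v
variable {G : Type u} [Group G]

theorem commutator_mem_of_gen {V M : Subgroup G} {S : Set G} (hMV : M ≤ V) (hSV : S ⊆ (normalizer (V : Set G) : Set G)) (hS : ∀ s ∈ S, ∀ v ∈ V, ⁅v, s⁆ ∈ M) 
    {e : G} (he : e ∈ closure S) : ∀ v ∈ V, ⁅v, e⁆ ∈ M := by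
  have hcl : closure S ≤ normalizer (V : Set G) := by rw [closure_le]; exact hSV
  induction he using Subgroup.closure_induction with
  | mem x hx => exact hS x hx
  | one => intro v _; simp
  | mul x y hx hy ihx ihy =>
    intro v hv
    have h1 := ihx v hv
    have h2 := ihy v hv
    have h3 := ihx _ (hMV h2)
    have e1 : ⁅v, x * y⁆ = ⁅v, x⁆ * (⁅⁅v, y⁆, x⁆⁻¹ * ⁅v, y⁆) := by simp only [commutatorElement_def]; group
    rw [e1]
    exact mul_mem h1 (mul_mem (inv_mem h3) h2)
  | inv x hx ihx =>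
    intro v hv
    have h1 : x⁻¹ * v * x ∈ V := by
      have := le_normalizer_iff_conj.1 hcl x⁻¹ (inv_mem hx) v hv
      rwa [inv_inv] at this
    have e1 : ⁅v, x⁻¹⁆ = ⁅x⁻¹ * v * x, x⁆⁻¹ := by simp only [commutatorElement_def]; group
    rw [e1]
    exact inv_mem (ihx _ h1)

theorem commutator_le_of_gen {V M E : Subgroup G} {S : Set G} (hMV : M ≤ V) (hSV : S ⊆ (normalizer (V : Set G) : Set G)) (hS : ∀ s ∈ S, ∀ v ∈ V, ⁅v, s⁆ ∈ M) 
    (hE : E ≤ closure S) : ⁅V, E⁆ ≤ M := by
  rw [Subgroup.commutator_le]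
  intro v hv e he
  exact commutator_mem_of_gen hMV hSV hS (hE he) v hv

theorem commutator_le_iSup {ι : Sort*} {V E : Subgroup G} (A : ι → Subgroup G) (hA : ∀ i, A i ≤ normalizer (V : Set G)) (hE : E ≤ ⨆ i, A i) : ⁅V, E⁆ ≤ ⨆ i, ⁅V, A i⁆ := by
  apply commutator_le_of_gen (S := ⋃ i, (A i : Set G)) (iSup_le fun i => by
    rw [← Subgroup.le_normalizer_iff_commutator_le_left]; exact hA i)
  · exact Set.iUnion_subset fun i => hA i
  · intro s hs v hv
    obtain ⟨i, hi⟩ := Set.mem_iUnion.1 hs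
    exact (le_iSup (fun i => ⁅V, A i⁆) i) (commutator_mem_commutator hv hi)
  · rw [Subgroup.closure_iUnion]
    simp only [Subgroup.closure_eq]
    exact hE

theorem commutator_sup_right {V A B : Subgroup G} (hA : A ≤ normalizer (V : Set G)) (hB : B ≤ normalizer (V : Set G)) : ⁅V, A ⊔ B⁆ = ⁅V, A⁆ ⊔ ⁅V, B⁆ := by
  apply le_antisymm
  · have h := commutator_le_iSup (V := V) (E := A ⊔ B) (fun b : Bool => cond b A B) (by intro b; cases b <;> assumption) (by rw [← sup_eq_iSup])
    refine h.trans (iSup_le fun b => ?_)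
    cases b
    · exact le_sup_right
    · exact le_sup_left
  · exact sup_le (commutator_mono le_rfl le_sup_left) (commutator_mono le_rfl le_sup_right)

theorem commutator_le_self_of_norm {V A : Subgroup G} (hA : A ≤ normalizer (V : Set G)) : ⁅V, A⁆ ≤ V := by
  rw [← Subgroup.le_normalizer_iff_commutator_le_left]; exact hA

theorem norm_commutator_self {V A : Subgroup G} (hA : A ≤ normalizer (V : Set G)) : A ≤ normalizer ((⁅V, A⁆ : Subgroup G) : Set G) := by
  rw [Subgroup.le_normalizer_iff_commutator_le_left]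
  exact commutator_mono (commutator_le_self_of_norm hA) le_rfl

theorem centralizer_normalized {W E : Subgroup G} (h : E ≤ normalizer (W : Set G)) : E ≤ normalizer ((E ⊓ centralizer (W : Set G) : Subgroup G) : Set G) := by
  rw [le_normalizer_iff_conj]
  intro a ha x hx
  refine ⟨E.mul_mem (E.mul_mem ha hx.1) (E.inv_mem ha), ?_⟩
  change a * x * a⁻¹ ∈ centralizer (W : Set G)
  rw [Subgroup.mem_centralizer_iff]
  intro v hv
  have h2 : a⁻¹ * v * a ∈ W := by
    have := le_normalizer_iff_conj.1 h a⁻¹ (E.inv_mem ha) v hv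
    rwa [inv_inv] at this
  have h3 := Subgroup.mem_centralizer_iff.1 hx.2 _ h2
  calc v * (a * x * a⁻¹) = a * ((a⁻¹ * v * a) * x) * a⁻¹ := by group
    _ = a * (x * (a⁻¹ * v * a)) * a⁻¹ := by rw [h3]
    _ = _ := by group

/-- in a group of order ≤ p² acted on by a p-group: quadratic -/
theorem comm_comm_of_card [Finite G] {p : ℕ} [hp : Fact p.Prime] {W P : Subgroup G} (hW : Nat.card W ∣ p ^ 2) (hPW : P ≤ normalizer (W : Set G)) (hP : IsPGroup p P) : 
    ⁅⁅W, P⁆, P⁆ = ⊥ ∧ (Nat.card (⁅W, P⁆ : Subgroup G) = 1 ∨ Nat.card (⁅W, P⁆ : Subgroup G) = p) := by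
  have hWp : IsPGroup p W := by
    obtain ⟨m, -, hm⟩ := (Nat.dvd_prime_pow hp.out).1 hW
    exact IsPGroup.of_card hm
  by_cases h0 : W = ⊥
  · rw [h0, commutator_bot_left, commutator_bot_left]
    exact ⟨rfl, Or.inl (Subgroup.card_bot)⟩
  have h1 := commutator_lt_of_pgroup hWp hP hPW h0
  have h2 := mul_card_le_of_lt hWp h1
  have h3 : Nat.card (⁅W, P⁆ : Subgroup G) ∣ p ^ 2 := (Subgroup.card_dvd_of_le h1.le).trans hW
  have h4 : Nat.card (⁅W, P⁆ : Subgroup G) ≤ p := by
    have h5 : Nat.card W ≤ p ^ 2 := Nat.le_of_dvd (pow_pos hp.out.pos 2) hW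
    have h6 : p * Nat.card (⁅W, P⁆ : Subgroup G) ≤ p * p := by nlinarith
    exact Nat.le_of_mul_le_mul_left h6 hp.out.pos
  have h5 : Nat.card (⁅W, P⁆ : Subgroup G) = 1 ∨ Nat.card (⁅W, P⁆ : Subgroup G) = p := by
    obtain ⟨m, hm, hm'⟩ := (Nat.dvd_prime_pow hp.out).1 h3
    have h6 : m ≤ 1 := by
      by_contra hcon
      have h7 : m = 2 := by omega
      rw [hm', h7] at h4
      have := hp.out.two_le
      nlinarith
    interval_cases m
    · left; rw [hm', pow_zero]
    · right; rw [hm', pow_one]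
  refine ⟨?_, h5⟩
  by_cases h6 : ⁅W, P⁆ = ⊥
  · rw [h6, commutator_bot_left]
  · have h7 := commutator_lt_of_pgroup (hWp.to_le h1.le) hP (norm_commutator_self hPW) h6
    have h8 := mul_card_le_of_lt (hWp.to_le h1.le) h7
    apply Subgroup.card_eq_one.1
    rcases h5 with h5 | h5
    · exact absurd (Subgroup.card_eq_one.1 h5) h6
    · rw [h5] at h8
      have := Nat.card_pos (α := (⁅⁅W, P⁆, P⁆ : Subgroup G))
      have := hp.out.pos
      nlinarith

/-- natural module recognition -/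
theorem natmod [Finite G] {p : ℕ} [hp : Fact p.Prime] {V E K A : Subgroup G} (hV : Good p V) (hEV : E ≤ normalizer (V : Set G)) (hf : E ⊓ centralizer (V : Set G) = ⊥)
    (hKE : K ≤ E) (hEK : E ≤ normalizer (K : Set G)) (hcop : (Nat.card K).Coprime p) (hAE : A ≤ E) (hA : IsPGroup p A) (hE : K ⊔ A = E) (hKA : ⁅K, A⁆ ≠ ⊥) 
    (hAc : Nat.card A = p) (hW : Nat.card (⁅V, E⁆ : Subgroup G) ∣ p ^ 2) (hgen : E ≤ closure {e : G | e ∈ E ∧ ∃ k : ℕ, e ^ (p ^ k) = 1}) : 
    Nat.card (⁅V, E⁆ : Subgroup G) = p ^ 2 ∧ ⁅V, K⁆ = ⁅V, E⁆ ∧ E ⊓ centralizer ((⁅V, E⁆ : Subgroup G) : Set G) = ⊥ ∧ 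
    (∀ U ≤ ⁅V, E⁆, E ≤ normalizer (U : Set G) → U = ⊥ ∨ U = ⁅V, E⁆) ∧ Nonempty (E ≃* Matrix.SpecialLinearGroup (Fin 2) (ZMod p)) := by
  have hVp : IsPGroup p V := good_isPGroup hV
  have hKV := hKE.trans hEV
  have hcopKV : (Nat.card K).Coprime (Nat.card V) := by
    obtain ⟨n, hn⟩ := hVp.exists_card_eq
    rw [hn]; exact Nat.Coprime.pow_right n hcop
  have hVs : Group.IsSolvable K ∨ Group.IsSolvable V := Or.inr (good_solvable hV)
  have hEW0 : E ≤ normalizer ((⁅V, K⁆ : Subgroup G) : Set G) := normalizer_commutator hEV hEK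
  -- C = C_E([V,K])
  have hC1 : E ⊓ centralizer ((⁅V, K⁆ : Subgroup G) : Set G) = ⊥ := by
    set C := E ⊓ centralizer ((⁅V, K⁆ : Subgroup G) : Set G) with hC
    have hCK : C ⊓ K = ⊥ := by
      rw [eq_bot_iff, ← hf]
      refine le_inf (inf_le_left.trans inf_le_left) ?_
      rw [Subgroup.le_centralizer_iff]
      have h1 := coprime_commutator_sup hKV hcopKV hVs
      conv_lhs => rw [← h1]
      apply sup_le
      · rw [Subgroup.le_centralizer_iff]; exact inf_le_left.trans inf_le_right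
      · rw [Subgroup.le_centralizer_iff]
        refine inf_le_right.trans ?_
        rw [Subgroup.le_centralizer_iff]; exact inf_le_right
    have hEC : E ≤ normalizer (C : Set G) := centralizer_normalized hEW0
    have hCKc : ⁅K, C⁆ = ⊥ := by
      rw [eq_bot_iff, ← hCK]
      refine le_inf ?_ ?_
      · rw [Subgroup.commutator_comm]; exact commutator_le_self_of_norm (hKE.trans hEC)
      · exact commutator_le_self_of_norm ((inf_le_left : C ≤ E).trans hEK)
    by_contra hCne
    have hCE : C ≤ E := inf_le_left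
    have hAK : A ⊓ K = ⊥ := by
      apply Subgroup.inf_eq_bot_of_coprime
      rw [hAc]; exact hcop.symm
    have hEcard : Nat.card E = Nat.card K * p := by
      have h2 := card_sup_mul_card_inf (H := A) (K := K) (hAE.trans hEK)
      rw [hAK, Subgroup.card_bot, mul_one, sup_comm, hE, hAc, mul_comm] at h2
      exact h2
    have hpg : ∀ X : Subgroup G, X ≤ E → IsPGroup p X → Nat.card X ∣ p := by
      intro X hX hXp
      obtain ⟨n, hn⟩ := hXp.exists_card_eq
      have h1 := Subgroup.card_dvd_of_le hX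
      rw [hEcard] at h1
      refine Nat.Coprime.dvd_of_dvd_mul_left ?_ h1
      rw [hn]; exact Nat.Coprime.pow_left n hcop.symm
    have hCdvd : Nat.card C ∣ p := by
      have h2 := card_sup_mul_card_inf (H := C) (K := K) (hCE.trans hEK)
      rw [hCK, Subgroup.card_bot, mul_one] at h2
      have h3 := Subgroup.card_dvd_of_le (sup_le hCE hKE)
      rw [h2, hEcard, mul_comm] at h3
      exact Nat.dvd_of_mul_dvd_mul_left Nat.card_pos h3
    have hCp : IsPGroup p C := by
      rcases (Nat.dvd_prime hp.out).1 hCdvd with h1 | h1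
      · exact IsPGroup.of_card (n := 0) (by rw [h1, pow_zero])
      · exact IsPGroup.of_card (n := 1) (by rw [h1, pow_one])
    have hCA : IsPGroup p (C ⊔ A : Subgroup G) := isPGroup_sup hCp hA (hAE.trans hEC)
    have h1 := Nat.le_of_dvd hp.out.pos (hpg _ (sup_le hCE hAE) hCA)
    have h2 : A = C ⊔ A := eq_of_le_of_card_le le_sup_right (by rw [hAc]; exact h1)
    have h3 : C ≤ A := by rw [h2]; exact le_sup_left
    have h4 : C = A := by
      apply eq_of_le_of_card_le h3
      rcases (Nat.dvd_prime hp.out).1 hCdvd with h5 | h5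
      · exact absurd (Subgroup.card_eq_one.1 h5) hCne
      · rw [h5, hAc]
    exact hKA (h4 ▸ hCKc)
  have hW0W : ⁅V, K⁆ ≤ ⁅V, E⁆ := commutator_mono le_rfl hKE
  have hA1 : A ≠ ⊥ := by
    rintro rfl
    exact hKA (commutator_bot_right _)
  have hW0card : Nat.card (⁅V, K⁆ : Subgroup G) ∣ p ^ 2 := (Subgroup.card_dvd_of_le hW0W).trans hW
  have hVKV : ⁅V, K⁆ ≤ V := commutator_le_self_of_norm hKV
  have hW0p : IsPGroup p (⁅V, K⁆ : Subgroup G) := hVp.to_le hVKV
  have hW0eq : Nat.card (⁅V, K⁆ : Subgroup G) = p ^ 2 := by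
    by_contra hne
    apply hA1
    rw [eq_bot_iff, ← hC1]
    refine le_inf hAE ?_
    rw [Subgroup.le_centralizer_iff, ← Subgroup.commutator_eq_bot_iff_le_centralizer]
    by_cases h0 : ⁅V, K⁆ = ⊥
    · rw [h0, commutator_bot_left]
    have h1 := commutator_lt_of_pgroup hW0p hA (hAE.trans hEW0) h0
    have h2 := mul_card_le_of_lt hW0p h1
    have h3 : Nat.card (⁅V, K⁆ : Subgroup G) = p := by
      obtain ⟨m, hm, hm'⟩ := (Nat.dvd_prime_pow hp.out).1 hW0card
      interval_cases m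
      · exact absurd (Subgroup.card_eq_one.1 (by rw [hm', pow_zero])) h0
      · rw [hm', pow_one]
      · exact absurd hm' hne
    rw [h3] at h2
    apply Subgroup.card_eq_one.1
    have := Nat.card_pos (α := (⁅⁅V, K⁆, A⁆ : Subgroup G))
    have := hp.out.pos
    nlinarith
  have hWW : ⁅V, K⁆ = ⁅V, E⁆ := eq_of_le_of_card_le hW0W (by
    rw [hW0eq]; exact Nat.le_of_dvd (pow_pos hp.out.pos 2) hW)
  rw [hWW] at hC1 hW0eq hEW0
  refine ⟨hW0eq, hWW, hC1, ?_⟩
  set W := ⁅V, E⁆ with hWdef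
  have hWV : W ≤ V := commutator_le_self_of_norm hEV
  have hWp : IsPGroup p W := hVp.to_le hWV
  have hcopKW : (Nat.card K).Coprime (Nat.card W) := by rw [hW0eq]; exact Nat.Coprime.pow_right 2 hcop
  -- irreducibility
  have hirr : ∀ U ≤ W, E ≤ normalizer (U : Set G) → U = ⊥ ∨ U = W := by
    intro U hUW hEU
    by_contra hcon
    push Not at hcon
    obtain ⟨hU0, hUW'⟩ := hcon
    have hUlt : U < W := lt_of_le_of_ne hUW hUW'
    have h2 := mul_card_le_of_lt hWp hUlt
    have hUc : Nat.card U = p := by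
      have h3 : Nat.card U ∣ p ^ 2 := (Subgroup.card_dvd_of_le hUW).trans hW0eq.dvd
      obtain ⟨m, hm, hm'⟩ := (Nat.dvd_prime_pow hp.out).1 h3
      interval_cases m
      · exact absurd (Subgroup.card_eq_one.1 (by rw [hm', pow_zero])) hU0
      · rw [hm', pow_one]
      · rw [hm', hW0eq] at h2
        have := hp.out.two_le
        have := pow_pos hp.out.pos 2
        nlinarith
    have hpe : ∀ e ∈ E, (∃ k : ℕ, e ^ (p ^ k) = 1) → ⁅U, zpowers e⁆ = ⊥ ∧ ⁅W, zpowers e⁆ ≤ U := by
      intro e he hk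
      have hzp : IsPGroup p (zpowers e) := by
        obtain ⟨k, hk⟩ := hk
        rintro ⟨_, i, rfl⟩
        refine ⟨k, Subtype.ext ?_⟩
        change (e ^ i) ^ (p ^ k) = 1
        rw [← zpow_natCast, ← zpow_mul, mul_comm, zpow_mul, zpow_natCast, hk, one_zpow]
      have hzE : zpowers e ≤ E := by rw [zpowers_le]; exact he
      have hUbot : ⁅U, zpowers e⁆ = ⊥ := by
        have h3 := commutator_lt_of_pgroup (hWp.to_le hUW) hzp (hzE.trans hEU) hU0
        have h4 := mul_card_le_of_lt (hWp.to_le hUW) h3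
        rw [hUc] at h4
        apply Subgroup.card_eq_one.1
        have := Nat.card_pos (α := (⁅U, zpowers e⁆ : Subgroup G))
        have := hp.out.pos
        nlinarith
      refine ⟨hUbot, ?_⟩
      obtain ⟨h3, h4⟩ := comm_comm_of_card (W := W) hW0eq.dvd (hzE.trans hEW0) hzp
      by_contra hcon
      have h5 : ⁅W, zpowers e⁆ ≤ W := commutator_le_self_of_norm (hzE.trans hEW0)
      -- U ⊓ [W,e] = ⊥, so W = U ⊔ [W,e]
      have h6 : Nat.card (⁅W, zpowers e⁆ : Subgroup G) = p := by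
        rcases h4 with h4 | h4
        · rw [Subgroup.card_eq_one.1 h4] at hcon
          exact absurd bot_le hcon
        · exact h4
      have h7 : U < U ⊔ ⁅W, zpowers e⁆ := lt_of_le_of_ne le_sup_left (fun he => hcon (by rw [he]; exact le_sup_right))
      have h8 := mul_card_le_of_lt (hWp.to_le (sup_le hUW h5)) h7
      have h9 : U ⊔ ⁅W, zpowers e⁆ = W := by
        apply eq_of_le_of_card_le (sup_le hUW h5)
        rw [hW0eq, pow_two]
        rw [hUc] at h8
        exact h8
      have h10 : ⁅W, zpowers e⁆ = ⊥ := by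
        have hg : ∀ x ∈ W, ∀ y ∈ W, x * y = y * x := fun x hx y hy => hV.1 x (hWV hx) y (hWV hy)
        have h11 := commutator_sup_left hg (hzE.trans hEW0) hUW h5
        rw [h9] at h11
        rw [h11, hUbot, h3, bot_sup_eq]
      rw [h10] at hcon
      exact hcon bot_le
    -- E acts trivially on U and W/U
    have hE1 : ⁅U, E⁆ = ⊥ := by
      rw [eq_bot_iff]
      apply commutator_le_of_gen (V := U) (S := {e : G | e ∈ E ∧ ∃ k : ℕ, e ^ (p ^ k) = 1}) bot_le (fun e he => hEU he.1) _ hgen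
      intro e he v hv
      rw [← (hpe e he.1 he.2).1]
      exact commutator_mem_commutator hv (mem_zpowers e)
    have hE2 : ⁅W, E⁆ ≤ U := by
      apply commutator_le_of_gen (V := W) (S := {e : G | e ∈ E ∧ ∃ k : ℕ, e ^ (p ^ k) = 1}) hUW (fun e he => hEW0 he.1) _ hgen
      intro e he v hv
      exact (hpe e he.1 he.2).2 (commutator_mem_commutator hv (mem_zpowers e))
    have h3 : ⁅⁅W, K⁆, K⁆ = ⊥ := by
      rw [eq_bot_iff, ← hE1]
      exact commutator_mono ((commutator_mono le_rfl hKE).trans hE2) hKE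
    have h4 := coprime_commutator_eq_bot (hKE.trans hEW0) hcopKW (Or.inr (good_solvable (good_of_le hV hWV))) h3
    have h5 : K = ⊥ := by
      rw [eq_bot_iff, ← hC1]
      refine le_inf hKE ?_
      rw [Subgroup.le_centralizer_iff, ← Subgroup.commutator_eq_bot_iff_le_centralizer]
      exact h4
    exact hKA (by rw [h5, commutator_bot_left])
  refine ⟨hirr, ?_⟩
  -- isomorphism
  obtain ⟨a, haA, ha1⟩ : ∃ a ∈ A, a ≠ 1 := by
    by_contra hcon
    push Not at hcon
    exact hA1 ((Subgroup.eq_bot_iff_forall _).2 hcon)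
  have hzA : zpowers a ≤ A := by rw [zpowers_le]; exact haA
  have hzE : zpowers a ≤ E := hzA.trans hAE
  obtain ⟨h3, h4⟩ := comm_comm_of_card (W := W) hW0eq.dvd (hzE.trans hEW0) (hA.to_le hzA)
  have hne : ⁅W, zpowers a⁆ ≠ ⊥ := by
    intro h0
    apply ha1
    have h5 : a ∈ E ⊓ centralizer (W : Set G) := by
      refine ⟨hAE haA, ?_⟩
      rw [Subgroup.commutator_eq_bot_iff_le_centralizer, Subgroup.le_centralizer_iff] at h0
      exact h0 (mem_zpowers a)
    rw [hC1] at h5
    exact Subgroup.mem_bot.1 h5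
  have hcard : Nat.card (⁅W, zpowers a⁆ : Subgroup G) = p := by
    rcases h4 with h4 | h4
    · exact absurd (Subgroup.card_eq_one.1 h4) hne
    · exact h4
  have h5 : ⁅W, zpowers a⁆ ≤ W := commutator_le_self_of_norm (hzE.trans hEW0)
  obtain ⟨w1, hw1, hw11⟩ : ∃ w ∈ ⁅W, zpowers a⁆, w ≠ 1 := by
    by_contra hcon
    push Not at hcon
    exact hne ((Subgroup.eq_bot_iff_forall _).2 hcon)
  have hgenU : ⁅W, zpowers a⁆ = zpowers w1 := by
    symm
    apply eq_of_le_of_card_le (by rw [zpowers_le]; exact hw1)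
    rw [hcard, Nat.card_zpowers]
    have h6 : orderOf w1 ∣ p := by
      rw [orderOf_dvd_iff_pow_eq_one]; exact hV.2 w1 (hWV (h5 hw1))
    rcases (Nat.dvd_prime hp.out).1 h6 with h7 | h7
    · exact absurd (orderOf_eq_one_iff.1 h7) hw11
    · exact h7.ge
  have hlt : ⁅W, zpowers a⁆ < W := by
    refine lt_of_le_of_ne h5 (fun he => ?_)
    rw [he, hW0eq] at hcard
    have := hp.out.two_le
    nlinarith
  obtain ⟨w2, hw2W, hw2⟩ : ∃ w ∈ W, w ∉ ⁅W, zpowers a⁆ := SetLike.exists_of_lt hlt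
  haveI : IsMulCommutative W := ⟨⟨fun x y => Subtype.ext (hV.1 x (hWV x.2) y (hWV y.2))⟩⟩
  letI : CommGroup W := { (inferInstance : Group W) with mul_comm := fun x y => Subtype.ext (hV.1 x (hWV x.2) y (hWV y.2)) }
  letI : MulDistribMulAction E W := conjMDMA hEW0
  have hact : ∀ (e : E) (w : W), ((e • w : W) : G) = e * w * (e : G)⁻¹ := fun e w => rfl
  -- exists e' moving the line
  obtain ⟨e', he'E, he'⟩ : ∃ e ∈ E, e * w1 * e⁻¹ ∉ zpowers w1 := by
    by_contra hcon
    push Not at hcon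
    have h6 : E ≤ normalizer ((zpowers w1 : Subgroup G) : Set G) := by
      rw [le_normalizer_iff_conj]
      rintro e he _ ⟨i, rfl⟩
      change e * w1 ^ i * e⁻¹ ∈ zpowers w1
      rw [← conj_zpow]
      exact zpow_mem (hcon e he) i
    rcases hirr (zpowers w1) (hgenU ▸ h5) h6 with h7 | h7
    · exact hw11 (zpowers_eq_bot.1 h7)
    · rw [← hgenU] at h7
      exact hlt.ne h7
  have hzw : ∀ w : W, w ∈ zpowers (⟨w1, h5 hw1⟩ : W) ↔ (w : G) ∈ zpowers w1 := by
    intro w
    constructor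
    · rintro ⟨i, rfl⟩
      exact ⟨i, rfl⟩
    · rintro ⟨i, hi⟩
      exact ⟨i, Subtype.ext hi⟩
  refine iso_sl2 (E := E) (W := W) (p := p) (fun w => Subtype.ext (hV.2 w (hWV w.2))) hW0eq ?_ ?_ (a := ⟨a, hAE haA⟩) (e' := ⟨e', he'E⟩) (w1 := ⟨w1, h5 hw1⟩) (w2 := ⟨w2, hw2W⟩) ?_ ?_ ?_ ?_ ?_ ?_
  · intro e he
    apply Subtype.ext
    have h6 : (e : G) ∈ E ⊓ centralizer (W : Set G) := by
      refine ⟨e.2, ?_⟩
      change (e : G) ∈ centralizer (W : Set G)
      rw [Subgroup.mem_centralizer_iff]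
      intro w hw
      have h7 := congrArg Subtype.val (he ⟨w, hw⟩)
      rw [hact] at h7
      exact (mul_inv_eq_iff_eq_mul.1 h7).symm
    rw [hC1] at h6
    exact Subgroup.mem_bot.1 h6
  · rw [eq_top_iff]
    have h6 : E ≤ (closure {e : E | ∃ k : ℕ, e ^ (p ^ k) = 1}).map E.subtype := by
      refine hgen.trans ?_
      rw [closure_le]
      rintro e ⟨he, k, hk⟩
      exact ⟨⟨e, he⟩, subset_closure ⟨k, Subtype.ext hk⟩, rfl⟩
    intro e _
    obtain ⟨e', he', h7⟩ := h6 e.2
    have h8 : e' = e := Subtype.ext h7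
    rw [← h8]; exact he'
  · intro h; exact hw11 (congrArg Subtype.val h)
  · rw [hzw, ← hgenU]; exact hw2
  · apply Subtype.ext
    rw [hact]
    have h6 : w1 ∈ centralizer ((zpowers a : Subgroup G) : Set G) := Subgroup.commutator_eq_bot_iff_le_centralizer.1 h3 hw1
    have h7 : a * w1 = w1 * a := Subgroup.mem_centralizer_iff.1 h6 a (mem_zpowers a)
    change a * w1 * a⁻¹ = w1
    rw [h7, mul_inv_cancel_right]
  · rw [hzw]
    change a * w2 * a⁻¹ * w2⁻¹ ∈ zpowers w1
    rw [← hgenU]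
    have h6 : a * w2 * a⁻¹ * w2⁻¹ = ⁅w2, a⁆⁻¹ := by rw [commutatorElement_def]; group
    rw [h6]
    exact inv_mem (commutator_mem_commutator hw2W (mem_zpowers a))
  · intro h6
    have h7 : a * w2 * a⁻¹ = w2 := congrArg Subtype.val h6
    apply hw2
    -- a centralizes w2 and w1, W = <w1> <w2>: a centralizes W
    exfalso
    apply hne
    have h8 : zpowers w1 < zpowers w1 ⊔ zpowers w2 := lt_of_le_of_ne le_sup_left (fun he => hw2 (by
      rw [hgenU, he]; exact mem_sup_right (mem_zpowers w2)))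
    have h9 : zpowers w1 ≤ W := hgenU ▸ h5
    have h10 : zpowers w2 ≤ W := by rw [zpowers_le]; exact hw2W
    have h11 := mul_card_le_of_lt (hWp.to_le (sup_le h9 h10)) h8
    have h12 : zpowers w1 ⊔ zpowers w2 = W := by
      apply eq_of_le_of_card_le (sup_le h9 h10)
      rw [hW0eq, pow_two]
      rw [← hgenU, hcard] at h11
      rw [hgenU] at h11
      exact h11
    have hg : ∀ x ∈ W, ∀ y ∈ W, x * y = y * x := fun x hx y hy => hV.1 x (hWV hx) y (hWV hy)
    have h13 := commutator_sup_left hg (hzE.trans hEW0) h9 h10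
    rw [h12] at h13
    rw [h13, ← hgenU, h3, bot_sup_eq, Subgroup.commutator_eq_bot_iff_le_centralizer]
    rintro _ ⟨i, rfl⟩
    rw [Subgroup.mem_centralizer_iff]
    rintro _ ⟨j, rfl⟩
    have h14 : Commute a w2 := mul_inv_eq_iff_eq_mul.1 h7
    exact (h14.zpow_zpow j i).eq
  · intro h6
    rw [hzw] at h6
    exact he' h6

theorem embed_sl2_sub [Finite G] {p : ℕ} [hp : Fact p.Prime] {W E : Subgroup G} (hW : Good p W) (hWc : Nat.card W = p ^ 2) (hEW : E ≤ normalizer (W : Set G)) 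
    (hC : E ⊓ centralizer (W : Set G) = ⊥) (hgen : E ≤ closure {e : G | e ∈ E ∧ ∃ k : ℕ, e ^ (p ^ k) = 1}) : 
    ∃ f : E →* Matrix.SpecialLinearGroup (Fin 2) (ZMod p), Function.Injective f := by
  letI : CommGroup W := { (inferInstance : Group W) with mul_comm := fun x y => Subtype.ext (hW.1 x x.2 y y.2) }
  letI : MulDistribMulAction E W := conjMDMA hEW
  have hact : ∀ (e : E) (w : W), ((e • w : W) : G) = e * w * (e : G)⁻¹ := fun e w => rfl
  refine embed_sl2 (E := E) (W := W) (p := p) (fun w => Subtype.ext (hW.2 w w.2)) hWc ?_ ?_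
  · intro e he
    apply Subtype.ext
    have h6 : (e : G) ∈ E ⊓ centralizer (W : Set G) := by
      refine ⟨e.2, ?_⟩
      change (e : G) ∈ centralizer (W : Set G)
      rw [Subgroup.mem_centralizer_iff]
      intro w hw
      have h7 := congrArg Subtype.val (he ⟨w, hw⟩)
      rw [hact] at h7
      exact (mul_inv_eq_iff_eq_mul.1 h7).symm
    rw [hC] at h6
    exact Subgroup.mem_bot.1 h6
  · rw [eq_top_iff]
    have h6 : E ≤ (closure {e : E | ∃ k : ℕ, e ^ (p ^ k) = 1}).map E.subtype := by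
      refine hgen.trans ?_
      rw [closure_le]
      rintro e ⟨he, k, hk⟩
      exact ⟨⟨e, he⟩, subset_closure ⟨k, Subtype.ext hk⟩, rfl⟩
    intro e _
    obtain ⟨e', he', h7⟩ := h6 e.2
    have h8 : e' = e := Subtype.ext h7
    rw [← h8]; exact he'

end CfsgH1
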