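import Cfsg.Agent.H1.Fit
import Cfsg.Agent.H4.Burnside

set_option autoImplicit false

open scoped Pointwise commutatorElement

namespace CfsgH1

universe u v w
variable {G : Type u} [Group G] {G' : Type v} [Group G']

open Subgroup Cfsg

theorem IsFact.map {H K : Subgroup G} (h : IsFact H K) (f : G →* G') (hf : Function.Surjective f) : 
    IsFact (H.map f) (K.map f) := by
  intro q
  obtain ⟨g, rfl⟩ := hf q
  obtain ⟨x, hx, y, hy, rfl⟩ := h g
  exact ⟨f x, Subgroup.mem_map_of_mem f hx, f y, Subgroup.mem_map_of_mem f hy, map_mul f x y⟩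

/-- a `p`-subgroup lies in a conjugate of any subgroup of index prime to `p` -/
theorem exists_conj_le_of_not_dvd_index [Finite G] {p : ℕ} [Fact p.Prime] {N H : Subgroup G} (hN : IsPGroup p N)
    (hH : ¬ p ∣ H.index) : ∃ g : G, ∀ n ∈ N, g⁻¹ * n * g ∈ H := by
  obtain ⟨q, hq⟩ := hN.nonempty_fixed_point_of_prime_not_dvd_card (G ⧸ H) hH
  obtain ⟨g, rfl⟩ := QuotientGroup.mk_surjective q
  refine ⟨g, fun n hn => ?_⟩
  have h1 := hq ⟨n, hn⟩
  change ((n * g : G) : G ⧸ H) = (g : G ⧸ H) at h1
  rw [eq_comm, QuotientGroup.eq] at h1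
  rwa [← mul_assoc] at h1

theorem le_of_fact_of_normalized [Finite G] {p : ℕ} [Fact p.Prime] {N H H₁ : Subgroup G} (hN : IsPGroup p N)
    (hH : ¬ p ∣ H.index) (hf : IsFact H₁ H) (hN1 : H₁ ≤ normalizer (N : Set G)) : N ≤ H.normalCore := by
  obtain ⟨g, hg⟩ := exists_conj_le_of_not_dvd_index hN hH
  obtain ⟨a, ha, b, hb, rfl⟩ := hf g
  have hNH : N ≤ H := by
    intro n hn
    have h1 := hg (a * n * a⁻¹) (le_normalizer_iff_conj.1 hN1 a ha n hn)
    have h2 : (a * b)⁻¹ * (a * n * a⁻¹) * (a * b) = b⁻¹ * n * b := by group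
    rw [h2] at h1
    have h3 := H.mul_mem (H.mul_mem hb h1) (H.inv_mem hb)
    have h4 : b * (b⁻¹ * n * b) * b⁻¹ = n := by group
    rwa [h4] at h3
  intro n hn c
  obtain ⟨x, hx, y, hy, rfl⟩ := hf.symm c
  have h1 : x * y * n * (x * y)⁻¹ = x * (y * n * y⁻¹) * x⁻¹ := by group
  rw [h1]
  exact H.mul_mem (H.mul_mem hx (hNH (le_normalizer_iff_conj.1 hN1 y hy n hn))) (H.inv_mem hx)

theorem three_solvable (n : ℕ) : ∀ (G : Type u) [Group G] [Finite G], Nat.card G = n → ∀ H₁ H₂ H₃ : Subgroup G,
    Group.IsSolvable H₁ → Group.IsSolvable H₂ → Group.IsSolvable H₃ → IsFact H₁ H₂ → IsFact H₁ H₃ → 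
    H₂.index.Coprime H₃.index → Group.IsSolvable G := by
  induction n using Nat.strongRecOn with
  | ind n ih =>
    intro G _ _ hn H₁ H₂ H₃ s1 s2 s3 f12 f13 hcop
    by_cases hH1 : H₁ = ⊥
    · have : H₂ = ⊤ := by
        rw [eq_top_iff]
        intro g _
        obtain ⟨x, hx, y, hy, rfl⟩ := f12 g
        rw [hH1, Subgroup.mem_bot] at hx
        rw [hx, one_mul]; exact hy
      rw [this] at s2
      haveI := s2
      exact Group.isSolvable_of_surjective (f := (Subgroup.topEquiv (G := G)).toMonoidHom) Subgroup.topEquiv.surjective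
    obtain ⟨N, hN1, hN2, hN3, hN4⟩ := exists_min_invariant_le (B := H₁) (K := H₁) Subgroup.le_normalizer hH1
    obtain ⟨-, p, hp, hexp⟩ := elemAb_of_min_invariant hN1 hN3 (isSolvable_of_le s1 hN2) hN4
    haveI : Fact p.Prime := ⟨hp⟩
    have hNp : IsPGroup p N := isPGroup_of_forall_pow_eq_one hexp
    -- a normal solvable subgroup
    obtain ⟨M, hMn, hMs, hNM⟩ : ∃ M : Subgroup G, M.Normal ∧ Group.IsSolvable M ∧ N ≤ M := by
      by_cases h2 : p ∣ H₂.index
      · have h3 : ¬ p ∣ H₃.index := fun h3 => Nat.Prime.not_coprime_iff_dvd.2 ⟨p, hp, h2, h3⟩ hcop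
        exact ⟨H₃.normalCore, inferInstance, isSolvable_of_le s3 (Subgroup.normalCore_le _), 
          le_of_fact_of_normalized hNp h3 f13 hN1⟩
      · exact ⟨H₂.normalCore, inferInstance, isSolvable_of_le s2 (Subgroup.normalCore_le _), 
          le_of_fact_of_normalized hNp h2 f12 hN1⟩
    have hMb : M ≠ ⊥ := fun h => hN3 (le_bot_iff.1 (h ▸ hNM))
    have hsurj := QuotientGroup.mk'_surjective M
    have hQ := ih (Nat.card (G ⧸ M)) (by rw [← hn]; exact card_quotient_lt hMb) (G ⧸ M) rfl 
      (H₁.map (QuotientGroup.mk' M)) (H₂.map (QuotientGroup.mk' M)) (H₃.map (QuotientGroup.mk' M)) 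
      (isSolvable_map' _ s1) (isSolvable_map' _ s2) (isSolvable_map' _ s3) (f12.map _ hsurj) (f13.map _ hsurj) 
      (Nat.Coprime.of_dvd (Subgroup.index_map_dvd _ hsurj) (Subgroup.index_map_dvd _ hsurj) hcop)
    exact isSolvable_of_normal_quotient M hMs hQ

theorem factorization_of_coprime_index [Finite G] {H : Subgroup G} {q : ℕ} (h : ¬ q ∣ H.index) : 
    (Nat.card H).factorization q = (Nat.card G).factorization q := by
  rw [← H.card_mul_index, Nat.factorization_mul Nat.card_pos.ne' Subgroup.FiniteIndex.index_ne_zero, Finsupp.add_apply,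
    Nat.factorization_eq_zero_of_not_dvd h, add_zero]

/-- converse of Hall's theorem -/
theorem solvable_of_hall_complements (n : ℕ) : ∀ (G : Type u) [Group G] [Finite G], Nat.card G = n → 
    (∀ p : ℕ, p.Prime → ∃ H : Subgroup G, H.index = p ^ (Nat.card G).factorization p) → Group.IsSolvable G := by
  induction n using Nat.strongRecOn with
  | ind n ih =>
    intro G _ _ hn h
    have hG0 : Nat.card G ≠ 0 := Nat.card_pos.ne'
    by_cases hc : (Nat.card G).primeFactors.card ≤ 2
    · -- at most two primes
      obtain ⟨p, q, hp, hq, hsub⟩ : ∃ p q : ℕ, p.Prime ∧ q.Prime ∧ (Nat.card G).primeFactors ⊆ {p, q} := by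
        interval_cases hk : (Nat.card G).primeFactors.card
        · rw [Finset.card_eq_zero] at hk
          exact ⟨2, 2, Nat.prime_two, Nat.prime_two, by rw [hk]; exact Finset.empty_subset _⟩
        · obtain ⟨p, hp⟩ := Finset.card_eq_one.1 hk
          have hpp : p.Prime := Nat.prime_of_mem_primeFactors (n := Nat.card G) (by rw [hp]; exact Finset.mem_singleton_self p)
          exact ⟨p, p, hpp, hpp, by rw [hp]; simp⟩
        · obtain ⟨p, q, hpq, hp⟩ := Finset.card_eq_two.1 hk
          have hpp : p.Prime := Nat.prime_of_mem_primeFactors (n := Nat.card G) (by rw [hp]; simp)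
          have hqq : q.Prime := Nat.prime_of_mem_primeFactors (n := Nat.card G) (by rw [hp]; simp)
          exact ⟨p, q, hpp, hqq, by rw [hp]⟩
      by_cases hpq : p = q
      · subst hpq
        refine CfsgH4.burnside_pq hp hp _ G ((Nat.card G).factorization p) 0 rfl ?_
        rw [pow_zero, mul_one]
        conv_lhs => rw [← Nat.prod_factorization_pow_eq_self hG0]
        rw [Finsupp.prod_of_support_subset _ (s := {p}) (by rw [Nat.support_factorization]; simpa using hsub) _ (by simp)]
        simp
      · refine CfsgH4.burnside_pq hp hq _ G ((Nat.card G).factorization p) ((Nat.card G).factorization q) rfl ?_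
        conv_lhs => rw [← Nat.prod_factorization_pow_eq_self hG0]
        rw [Finsupp.prod_of_support_subset _ (s := {p, q}) (by rw [Nat.support_factorization]; exact hsub) _ (by simp)]
        rw [Finset.prod_pair hpq]
    · push Not at hc
      obtain ⟨T, hT, hTc⟩ := Finset.exists_subset_card_eq (n := 3) (s := (Nat.card G).primeFactors) (by omega)
      obtain ⟨p, q, r, hpq, hpr, hqr, rfl⟩ := Finset.card_eq_three.1 hTc
      have hsolv : ∀ p ∈ (Nat.card G).primeFactors, ∃ H : Subgroup G, H.index = p ^ (Nat.card G).factorization p ∧ 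
          Group.IsSolvable H := by
        intro p hpm
        have hp : p.Prime := Nat.prime_of_mem_primeFactors hpm
        obtain ⟨H, hH⟩ := h p hp
        refine ⟨H, hH, ?_⟩
        have hfp : (Nat.card G).factorization p ≠ 0 := by
          have := Nat.support_factorization (Nat.card G)
          rw [← this, Finsupp.mem_support_iff] at hpm
          exact hpm
        have hHt : H ≠ ⊤ := by
          rintro rfl
          rw [Subgroup.index_top] at hH
          exact (Nat.one_lt_pow hfp hp.one_lt).ne hH
        refine ih (Nat.card H) (by rw [← hn]; exact card_lt_card_of_ne_top hHt) H rfl ?_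
        intro q hq
        by_cases hqp : q = p
        · subst hqp
          refine ⟨⊤, ?_⟩
          have h1 : ¬ q ∣ Nat.card H := by
            intro hd
            have h3 := H.card_mul_index
            rw [hH] at h3
            have h2 : q ^ ((Nat.card G).factorization q + 1) ∣ Nat.card G := by
              calc q ^ ((Nat.card G).factorization q + 1) = q * q ^ (Nat.card G).factorization q := by rw [pow_succ, mul_comm]
                _ ∣ Nat.card H * q ^ (Nat.card G).factorization q := Nat.mul_dvd_mul_right hd _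
                _ = Nat.card G := h3
            exact Nat.pow_succ_factorization_not_dvd hG0 hq h2
          rw [Subgroup.index_top, Nat.factorization_eq_zero_of_not_dvd h1, pow_zero]
        · obtain ⟨K, hK⟩ := h q hq
          have hcop : K.index.Coprime H.index := by
            rw [hK, hH]
            exact Nat.coprime_pow_primes _ _ hq hp hqp
          refine ⟨K.subgroupOf H, ?_⟩
          have h1 : K.relIndex H = K.index := isFact_iff_index.1 (isFact_of_coprime hcop)
          have h2 : (Nat.card H).factorization q = (Nat.card G).factorization q := by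
            apply factorization_of_coprime_index
            rw [hH]
            intro hd
            exact hqp ((Nat.prime_dvd_prime_iff_eq hq hp).1 (hq.dvd_of_dvd_pow hd))
          rw [h2, ← hK, ← h1]; rfl
      have hp := hT (by simp : p ∈ ({p, q, r} : Finset ℕ))
      have hq := hT (by simp : q ∈ ({p, q, r} : Finset ℕ))
      have hr := hT (by simp : r ∈ ({p, q, r} : Finset ℕ))
      obtain ⟨H₁, h1, s1⟩ := hsolv p hp
      obtain ⟨H₂, h2, s2⟩ := hsolv q hq
      obtain ⟨H₃, h3, s3⟩ := hsolv r hr
      have hp' := Nat.prime_of_mem_primeFactors hp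
      have hq' := Nat.prime_of_mem_primeFactors hq
      have hr' := Nat.prime_of_mem_primeFactors hr
      exact three_solvable (Nat.card G) G rfl H₁ H₂ H₃ s1 s2 s3 
        (isFact_of_coprime (by rw [h1, h2]; exact Nat.coprime_pow_primes _ _ hp' hq' hpq))
        (isFact_of_coprime (by rw [h1, h3]; exact Nat.coprime_pow_primes _ _ hp' hr' hpr))
        (by rw [h2, h3]; exact Nat.coprime_pow_primes _ _ hq' hr' hqr)

end CfsgH1
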