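import Cfsg.Agent.H1.SetMul
import Cfsg.Agent.H1.Three
import Cfsg.Agent.H1.Hall
import Cfsg.Agent.H1.MinNormal
import Cfsg.Agent.S0562

set_option autoImplicit false
open Cfsg Subgroup
open scoped Pointwise

namespace CfsgH1

universe u v

theorem fact_sim_conj {G : Type u} [Group G] {H K A B : Subgroup G} (hf : IsFact H K) (hA : H ≤ normalizer (A : Set G)) 
    (hB : K ≤ normalizer (B : Set G)) (x y : G) : ∃ z : G, MulAut.conj z • A = MulAut.conj x • A ∧ MulAut.conj z • B = MulAut.conj y • B := by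
  obtain ⟨h, hh, k, hk, he⟩ := hf (x⁻¹ * y)
  have hAh : MulAut.conj h • A = A := conj_smul_eq_self_iff.2 (hA hh)
  have hBk : MulAut.conj k⁻¹ • B = B := conj_smul_eq_self_iff.2 (hB (K.inv_mem hk))
  refine ⟨x * h, ?_, ?_⟩
  · rw [map_mul, mul_smul, hAh]
  · have : x * h = y * k⁻¹ := by
      have : x * (x⁻¹ * y) = x * (h * k) := by rw [he]
      rw [mul_inv_cancel_left] at this
      rw [this]; group
    rw [this, map_mul, mul_smul, hBk]

theorem dvd_index_map {G : Type u} {G' : Type v} [Group G] [Group G'] {f : G →* G'} (hf : Function.Surjective f) (H : Subgroup G) : 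
    (H.map f).index ∣ H.index := Subgroup.index_map_dvd H hf

theorem fact_hall_perm (n : ℕ) : ∀ (G : Type u) [Group G] [Finite G] [Group.IsSolvable G], Nat.card G = n → 
    ∀ H K A B : Subgroup G, IsFact H K → A ≤ H → H ≤ normalizer (A : Set G) → B ≤ K → K ≤ normalizer (B : Set G) → 
    (Nat.card A).Coprime A.index → (Nat.card B).Coprime B.index → 
    ∀ g ∈ A ⊔ B, ∃ a ∈ A, ∃ b ∈ B, a * b = g := by
  induction n using Nat.strong_induction_on with
  | _ n IH =>
  intro G _ _ _ hn H K A B hf hA hAn hB hBn hAh hBh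
  set J := A ⊔ B with hJ
  by_cases hL : normalizer (J : Set G) = ⊤
  swap
  · -- induction in L
    set L := normalizer (J : Set G) with hLdef
    have hJL : J ≤ L := le_normalizer
    have hAL : A ≤ L := le_sup_left.trans hJL
    have hBL : B ≤ L := le_sup_right.trans hJL
    have hfL := Cfsg.Agent.S0562.result H K A B hf hA (normal_subgroupOf_of_le_normalizer hAn) hB (normal_subgroupOf_of_le_normalizer hBn)
    have hcard : Nat.card L < n := by
      rw [← hn, ← Subgroup.card_top (G := G)]
      exact card_lt_card_of_lt (lt_of_le_of_ne le_top hL)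
    intro g hg
    obtain ⟨a, ha, b, hb, hab⟩ := IH (Nat.card L) hcard L rfl (H.subgroupOf L) (K.subgroupOf L) (A.subgroupOf L) (B.subgroupOf L) (by
        rintro ⟨x, hx⟩
        obtain ⟨h, hh, k, hk, he⟩ := hfL x hx
        exact ⟨⟨h, hh.1⟩, hh.2, ⟨k, hk.1⟩, hk.2, Subtype.ext he⟩) 
      (by intro x hx; exact hA hx)
      (by
        rw [le_normalizer_iff_conj]
        intro x hx y hy
        exact le_normalizer_iff_conj.1 hAn _ hx _ hy)
      (by intro x hx; exact hB hx)
      (by
        rw [le_normalizer_iff_conj]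
        intro x hx y hy
        exact le_normalizer_iff_conj.1 hBn _ hx _ hy)
      (by
        rw [Nat.card_congr (Subgroup.subgroupOfEquivOfLe hAL).toEquiv]
        exact Nat.Coprime.coprime_dvd_right (Subgroup.relIndex_dvd_index_of_le hAL) hAh)
      (by
        rw [Nat.card_congr (Subgroup.subgroupOfEquivOfLe hBL).toEquiv]
        exact Nat.Coprime.coprime_dvd_right (Subgroup.relIndex_dvd_index_of_le hBL) hBh)
      ⟨g, hJL hg⟩ (by
        rw [← Subgroup.subgroupOf_sup hAL hBL]
        exact hg)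
    exact ⟨a, ha, b, hb, congrArg Subtype.val hab⟩
  · haveI hJn : J.Normal := Subgroup.normalizer_eq_top_iff.1 hL
    by_cases hJb : J = ⊥
    · intro g hg
      rw [hJb, Subgroup.mem_bot] at hg
      exact ⟨1, A.one_mem, 1, B.one_mem, by rw [hg, mul_one]⟩
    obtain ⟨N, hN, hNJ, hNne, hNmin⟩ := exists_minNormal_le hJb
    haveI := hN
    obtain ⟨hNab, p, hp, hNp⟩ := elemAb_of_minNormal hNne hNmin
    haveI : Fact p.Prime := ⟨hp⟩
    have hNpg : IsPGroup p N := isPGroup_of_forall_pow_eq_one hNp
    -- p divides |A| or |B|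
    have hdvd : p ∣ Nat.card A ∨ p ∣ Nat.card B := by
      by_contra hcon
      push Not at hcon
      obtain ⟨E, hE1, hE2, hE3⟩ := hallD_of_solvable (G := J) ({p}ᶜ : Set ℕ)
      have key : ∀ X : Subgroup G, X ≤ J → ¬ p ∣ Nat.card X → ∃ g : G, MulAut.conj g • X ≤ E.map J.subtype := by
        intro X hX hpX
        obtain ⟨g, hg⟩ := hE3 (X.subgroupOf J) (by
          intro q hq hqd
          rw [Nat.card_congr (Subgroup.subgroupOfEquivOfLe hX).toEquiv] at hqd
          rintro rfl
          exact hpX hqd)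
        refine ⟨g, ?_⟩
        intro x hx
        rw [mem_conj_smul] at hx
        have hxJ : (g : G)⁻¹ * x * g ∈ J := hX hx
        have hxJ' : x ∈ J := by
          have := J.mul_mem (J.mul_mem g.2 hxJ) (J.inv_mem g.2)
          have e : (g : G) * ((g : G)⁻¹ * x * g) * (g : G)⁻¹ = x := by group
          rwa [e] at this
        refine ⟨⟨x, hxJ'⟩, hg ?_, rfl⟩
        rw [mem_conj_smul]
        exact hx
      obtain ⟨x, hx⟩ := key A le_sup_left hcon.1
      obtain ⟨y, hy⟩ := key B le_sup_right hcon.2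
      obtain ⟨z, hz1, hz2⟩ := fact_sim_conj hf hAn hBn x y
      have hJE : J ≤ E.map J.subtype := by
        have h1 : MulAut.conj z • J = J := conj_smul_eq_self_iff.2 (by rw [hL]; exact mem_top z)
        have h2 : MulAut.conj z • J ≤ E.map J.subtype := by
          have h3 : MulAut.conj z • J = MulAut.conj z • A ⊔ MulAut.conj z • B := Subgroup.smul_sup _ _ _
          rw [h3, hz1, hz2]
          exact sup_le hx hy
        exact h1.symm.le.trans h2
      have hpJ : p ∣ Nat.card E := by
        have h2 : p ∣ Nat.card N := by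
          obtain ⟨k, hk⟩ := IsPGroup.iff_card.1 hNpg
          rcases Nat.eq_zero_or_pos k with h0 | h0
          · rw [h0, pow_zero] at hk
            exact absurd (Subgroup.card_eq_one.1 hk) hNne
          · rw [hk]; exact dvd_pow_self p h0.ne'
        have h3 : Nat.card (E.map J.subtype) = Nat.card E := 
          (Nat.card_congr (E.equivMapOfInjective J.subtype J.subtype_injective).toEquiv).symm
        rw [← h3] 
        exact h2.trans ((Subgroup.card_dvd_of_le hNJ).trans (Subgroup.card_dvd_of_le hJE))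
      exact hE1 p hp hpJ rfl
    -- N ≤ A or N ≤ B
    have hsub : ∀ X : Subgroup G, (Nat.card X).Coprime X.index → p ∣ Nat.card X → N ≤ X := by
      intro X hX hpX
      have h1 : ¬ p ∣ X.index := fun h => hp.one_lt.ne' (Nat.eq_one_of_dvd_coprimes hX hpX h)
      obtain ⟨g, hg⟩ := exists_conj_le_of_not_dvd_index hNpg h1
      intro x hx
      have := hg (g * x * g⁻¹) (hN.conj_mem x hx g)
      have e : g⁻¹ * (g * x * g⁻¹) * g = x := by group
      rwa [e] at this
    -- quotient
    have hcard : Nat.card (G ⧸ N) < n := by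
      rw [← hn]; exact card_quotient_lt hNne
    intro g hg
    have hsurj := QuotientGroup.mk'_surjective N
    obtain ⟨a', ha', b', hb', hab'⟩ := IH (Nat.card (G ⧸ N)) hcard (G ⧸ N) rfl (H.map (QuotientGroup.mk' N)) (K.map (QuotientGroup.mk' N))
      (A.map (QuotientGroup.mk' N)) (B.map (QuotientGroup.mk' N)) (hf.map _ hsurj) (Subgroup.map_mono hA)
      (by
        rw [le_normalizer_iff_conj]
        rintro _ ⟨x, hx, rfl⟩ _ ⟨y, hy, rfl⟩
        exact ⟨x * y * x⁻¹, le_normalizer_iff_conj.1 hAn _ hx _ hy, by simp⟩)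
      (Subgroup.map_mono hB)
      (by
        rw [le_normalizer_iff_conj]
        rintro _ ⟨x, hx, rfl⟩ _ ⟨y, hy, rfl⟩
        exact ⟨x * y * x⁻¹, le_normalizer_iff_conj.1 hBn _ hx _ hy, by simp⟩)
      (Nat.Coprime.coprime_dvd_left (Subgroup.card_map_dvd A _) (Nat.Coprime.coprime_dvd_right (dvd_index_map hsurj A) hAh))
      (Nat.Coprime.coprime_dvd_left (Subgroup.card_map_dvd B _) (Nat.Coprime.coprime_dvd_right (dvd_index_map hsurj B) hBh))
      (QuotientGroup.mk' N g) (by
        rw [← Subgroup.map_sup]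
        exact ⟨g, hg, rfl⟩)
    obtain ⟨a, ha, rfl⟩ := ha'
    obtain ⟨b, hb, rfl⟩ := hb'
    rw [← map_mul] at hab'
    have h1 : (a * b)⁻¹ * g ∈ N := by
      rw [← QuotientGroup.eq]; exact hab'
    rcases hdvd with h2 | h2
    · -- N ≤ A : g = a b m = a (b m b⁻¹) b
      have h3 := hsub A hAh h2 (hN.conj_mem _ h1 b)
      refine ⟨a * (b * ((a * b)⁻¹ * g) * b⁻¹), A.mul_mem ha h3, b, hb, by group⟩
    · have h3 := hsub B hBh h2 h1
      exact ⟨a, ha, b * ((a * b)⁻¹ * g), B.mul_mem hb h3, by group⟩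

end CfsgH1
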