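import Cfsg.Agent.H1.FrobComp
import Mathlib.GroupTheory.SpecificGroups.ZGroup

set_option autoImplicit false

open scoped Pointwise commutatorElement

namespace CfsgH1

universe u v w
variable {G : Type u} [Group G]

open Subgroup Cfsg

theorem fpf_invol_unique [Finite G] {K : Subgroup G} [hKn : K.Normal] (hK : K ≠ ⊥) {s t : G} (hs : s * s = 1) (ht : t * t = 1)
    (hsf : K ⊓ Subgroup.centralizer {s} = ⊥) (htf : K ⊓ Subgroup.centralizer {t} = ⊥)
    (hst : s⁻¹ * t ≠ 1 → K ⊓ Subgroup.centralizer {s⁻¹ * t} = ⊥) : t = s := by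
  by_contra hne
  have h1 : s⁻¹ * t ≠ 1 := fun h => hne (inv_mul_eq_one.1 h).symm
  have h2 := hst h1
  apply hK
  rw [eq_bot_iff, ← h2]
  intro k hk
  refine ⟨hk, Subgroup.mem_centralizer_iff.2 ?_⟩
  intro y hy
  rw [Set.mem_singleton_iff] at hy
  subst hy
  have e1 := inverts_of_fpf_involution ht htf k hk
  have e2 := inverts_of_fpf_involution hs hsf k hk
  have e3 : k = s⁻¹ * k⁻¹ * s := by rw [← e2]; group
  calc s⁻¹ * t * k = s⁻¹ * (t * k * t⁻¹) * s * (s⁻¹ * t) := by group
    _ = s⁻¹ * k⁻¹ * s * (s⁻¹ * t) := by rw [e1]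
    _ = k * (s⁻¹ * t) := by rw [← e3]

theorem frob_center_even [Finite G] {K H : Subgroup G} [hKn : K.Normal] (hK : K ≠ ⊥) 
    (hfpf : ∀ h ∈ H, h ≠ 1 → K ⊓ Subgroup.centralizer {h} = ⊥) (heven : 2 ∣ Nat.card H) : 
    ∃ s ∈ center H, s ≠ 1 := by
  obtain ⟨s, hs⟩ := exists_prime_orderOf_dvd_card' (G := H) 2 heven
  have hs2 : s * s = 1 := by
    have := pow_orderOf_eq_one s
    rw [hs, pow_two] at this; exact this
  have hs1 : s ≠ 1 := by
    intro h
    rw [h, orderOf_one] at hs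
    exact absurd hs (by norm_num)
  have hs2' : (s : G) * s = 1 := congrArg Subtype.val hs2
  have hs1' : (s : G) ≠ 1 := fun h => hs1 (Subtype.ext h)
  refine ⟨s, ?_, hs1⟩
  rw [mem_center_iff]
  intro g
  have h1 : ((g * s * g⁻¹ : H) : G) * ((g * s * g⁻¹ : H) : G) = 1 := by
    have : (g * s * g⁻¹) * (g * s * g⁻¹) = g * (s * s) * g⁻¹ := by group
    rw [hs2] at this
    have h2 : (g * s * g⁻¹) * (g * s * g⁻¹) = 1 := by rw [this]; group
    exact congrArg Subtype.val h2
  have h2 : ((g * s * g⁻¹ : H) : G) ≠ 1 := by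
    intro h
    have h3 : g * s * g⁻¹ = 1 := Subtype.ext h
    apply hs1
    have : s = g⁻¹ * (g * s * g⁻¹) * g := by group
    rw [this, h3]; group
  have h3 := fpf_invol_unique hK hs2' h1 (hfpf s s.2 hs1') (hfpf _ (g * s * g⁻¹).2 h2) 
    (fun h => hfpf _ (H.mul_mem (H.inv_mem s.2) (g * s * g⁻¹).2) h)
  have h4 : g * s * g⁻¹ = s := Subtype.ext h3
  calc g * s = (g * s * g⁻¹) * g := by group
    _ = s * g := by rw [h4]

theorem conj_mem_zpowers_of_cyclic {H : Type u} [Group H] {N : Subgroup H} [hN : N.Normal] (hc : IsCyclic N) {y : H} (hy : y ∈ N) (h : H) :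
    h * y * h⁻¹ ∈ zpowers y := by
  obtain ⟨g, hg⟩ := hc.exists_generator
  obtain ⟨m, hm⟩ := hg ⟨y, hy⟩
  have hm' : (g : H) ^ m = y := congrArg Subtype.val hm
  obtain ⟨k, hk⟩ := hg ⟨h * g * h⁻¹, hN.conj_mem _ g.2 h⟩
  have hk' : (g : H) ^ k = h * g * h⁻¹ := congrArg Subtype.val hk
  refine ⟨k, ?_⟩
  change y ^ k = _
  rw [← hm', ← conj_zpow, ← hk', ← zpow_mul, ← zpow_mul, mul_comm]

theorem frob_center_odd [Finite G] {K H : Subgroup G} (hHK : H ≤ normalizer (K : Set G)) (hK : K ≠ ⊥)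
    (hcop : (Nat.card H).Coprime (Nat.card K)) (hfpf : ∀ e ∈ H, e ≠ 1 → ∀ k ∈ K, e * k = k * e → k = 1) 
    (hH : H ≠ ⊥) (hZ : IsZGroup H) : ∃ s ∈ center H, s ≠ 1 := by
  haveI : Nontrivial H := (Subgroup.nontrivial_iff_ne_bot H).2 hH
  by_cases hN : _root_.commutator H = ⊥
  · obtain ⟨s, hs⟩ := exists_ne (1 : H)
    refine ⟨s, ?_, hs⟩
    rw [mem_center_iff]
    intro g
    have h1 : ⁅g, s⁆ ∈ _root_.commutator H := by
      rw [_root_.commutator_def]
      exact commutator_mem_commutator (mem_top g) (mem_top s)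
    rw [hN, Subgroup.mem_bot] at h1
    exact commutatorElement_eq_one_iff_mul_comm.1 h1
  have hNcyc : IsCyclic (_root_.commutator H) := IsZGroup.isCyclic_commutator H
  have hNcop := IsZGroup.coprime_commutator_index (G := H)
  have hNt : _root_.commutator H < ⊤ := IsZGroup.commutator_lt H
  set N := _root_.commutator H with hNdef
  have hidx : N.index ≠ 1 := fun h => hNt.ne (Subgroup.index_eq_one.1 h)
  obtain ⟨p, hp, hpd⟩ := Nat.exists_prime_and_dvd hidx
  haveI : Fact p.Prime := ⟨hp⟩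
  obtain ⟨x, hx⟩ := exists_prime_orderOf_dvd_card' (G := H) p (hpd.trans N.index_dvd_card)
  have hpN : ¬ p ∣ Nat.card N := fun h => hp.one_lt.ne' (Nat.dvd_one.1 (hNcop ▸ Nat.dvd_gcd h hpd))
  have hx1 : x ≠ 1 := by
    intro h
    rw [h, orderOf_one] at hx
    exact hp.one_lt.ne hx
  have hNab : ∀ a ∈ N, ∀ b ∈ N, a * b = b * a := by
    intro a ha b hb
    letI := hNcyc.commGroup
    exact congrArg Subtype.val (mul_comm (⟨a, ha⟩ : N) ⟨b, hb⟩)
  -- x centralizes elements of prime order in N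
  have key : ∀ y ∈ N, (orderOf y).Prime → x * y = y * x := by
    intro y hy hyo
    set q := orderOf y with hq
    haveI : Fact q.Prime := ⟨hyo⟩
    have hqN : q ∣ Nat.card N := by
      rw [hq, ← Subgroup.orderOf_mk y hy]; exact orderOf_dvd_natCard _
    have hqp : p ≠ q := by
      rintro h
      exact hpN (h ▸ hqN)
    have hnorm : zpowers x ≤ normalizer (zpowers y : Set H) := by
      rw [le_normalizer_iff_conj]
      intro a _ b hb
      obtain ⟨k, rfl⟩ := mem_zpowers_iff.1 hb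
      rw [← conj_zpow]
      exact Subgroup.zpow_mem _ (conj_mem_zpowers_of_cyclic hNcyc hy a) k
    have hdis : zpowers x ⊓ zpowers y = ⊥ := by
      apply inf_eq_bot_of_coprime
      rw [Nat.card_zpowers, Nat.card_zpowers, hx]
      exact (Nat.coprime_primes hp hyo).2 hqp
    have hcard := card_sup_of_disjoint hnorm hdis
    rw [Nat.card_zpowers, Nat.card_zpowers, hx, ← hq] at hcard
    let E : Subgroup G := (zpowers x ⊔ zpowers y).map H.subtype
    have hE : Nat.card E = p * q := by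
      rw [← hcard]
      exact Nat.card_congr ((zpowers x ⊔ zpowers y).equivMapOfInjective _ H.subtype_injective).symm.toEquiv
    have hEH : E ≤ H := Subgroup.map_subtype_le _
    have hEs : Group.IsSolvable E := isSolvable_map _ inferInstance
    have hcyc := isCyclic_of_fpf_conj (hEH.trans hHK) hK (Nat.Coprime.coprime_dvd_left (Subgroup.card_dvd_of_le hEH) hcop)
      (Or.inl hEs) (Or.inr ⟨p, q, hp, hyo, hE⟩) (fun e he he1 => hfpf e (hEH he) he1)
    letI := hcyc.commGroup
    have hxE : (x : G) ∈ E := ⟨x, mem_sup_left (mem_zpowers x), rfl⟩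
    have hyE : (y : G) ∈ E := ⟨y, mem_sup_right (mem_zpowers y), rfl⟩
    have h1 := congrArg Subtype.val (mul_comm (⟨x, hxE⟩ : E) ⟨y, hyE⟩)
    exact Subtype.ext h1
  have hxN : ⁅N, zpowers x⁆ = ⊥ := by
    apply coprime_abelian_trivial_of_prime hNab (le_normalizer_of_normal _ N)
    · rw [Nat.card_zpowers, hx]
      exact (Nat.Prime.coprime_iff_not_dvd hp).2 hpN
    · intro v hv hvo a ha
      obtain ⟨k, rfl⟩ := mem_zpowers_iff.1 ha
      have : Commute x v := key v hv hvo
      exact this.zpow_left k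
  have hxc : ∀ y ∈ N, x * y = y * x := by
    intro y hy
    have h1 : ⁅y, x⁆ ∈ ⁅N, zpowers x⁆ := commutator_mem_commutator hy (mem_zpowers x)
    rw [hxN, Subgroup.mem_bot] at h1
    exact (commutatorElement_eq_one_iff_mul_comm.1 h1).symm
  refine ⟨x, ?_, hx1⟩
  rw [mem_center_iff]
  intro g
  -- g x g⁻¹ = x * n, both of order p, n central..
  have h1 : x⁻¹ * (g * x * g⁻¹) ∈ N := by
    have : x⁻¹ * (g * x * g⁻¹) = ⁅x⁻¹, g⁆ := by
      rw [commutatorElement_def, inv_inv]; group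
    rw [this, hNdef, _root_.commutator_def]
    exact commutator_mem_commutator (mem_top _) (mem_top g)
  set n := x⁻¹ * (g * x * g⁻¹) with hn
  have h2 : (x * n) ^ p = 1 := by
    have : x * n = g * x * g⁻¹ := by rw [hn]; group
    rw [this, conj_pow, ← hx, pow_orderOf_eq_one]; group
  have h3 : n ^ p = 1 := by
    have : Commute x n := hxc n h1
    rw [this.mul_pow, ← hx, pow_orderOf_eq_one, one_mul, hx] at h2
    exact h2
  have h4 : n = 1 := by
    have h5 : orderOf n ∣ p := orderOf_dvd_of_pow_eq_one h3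
    have h6 : orderOf n ∣ Nat.card N := by
      rw [← Subgroup.orderOf_mk n h1]; exact orderOf_dvd_natCard _
    rcases (Nat.dvd_prime hp).1 h5 with h7 | h7
    · exact orderOf_eq_one_iff.1 h7
    · rw [h7] at h6
      exact absurd h6 hpN
  have h5 : g * x * g⁻¹ = x := by
    have : x * n = g * x * g⁻¹ := by rw [hn]; group
    rw [← this, h4, mul_one]
  calc g * x = (g * x * g⁻¹) * g := by group
    _ = x * g := by rw [h5]

theorem frob_isZGroup_of_odd [Finite G] {K H : Subgroup G} (hHK : H ≤ normalizer (K : Set G)) (hK : K ≠ ⊥)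
    (hcop : (Nat.card H).Coprime (Nat.card K)) (hfpf : ∀ e ∈ H, e ≠ 1 → ∀ k ∈ K, e * k = k * e → k = 1) 
    (hodd : ¬ 2 ∣ Nat.card H) : IsZGroup H := by
  refine ⟨fun p hp P => ?_⟩
  haveI : Fact p.Prime := ⟨hp⟩
  rcases punique_classification P.2 (frob_sylow_unique hHK hK hcop hfpf P.2) with h | ⟨rfl, -⟩
  · exact h
  · obtain ⟨k, hk⟩ := IsPGroup.iff_card.1 P.2
    have h1 : Nat.card (P : Subgroup H) ∣ Nat.card H := Subgroup.card_subgroup_dvd_card _
    have hk0 : k = 0 := by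
      by_contra h0
      apply hodd
      refine dvd_trans (dvd_pow_self 2 h0) ?_
      rw [← hk]; exact h1
    rw [hk0, pow_zero] at hk
    haveI : Subsingleton (P : Subgroup H) := (Nat.card_eq_one_iff_unique.1 hk).1
    infer_instance

end CfsgH1
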