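import Cfsg.Agent.H1.SSolv3
import Cfsg.Agent.H1.Frat2
import Cfsg.Agent.H1.MinNon
import Cfsg.Agent.H1.SZ3
import Cfsg.Agent.H1.Coprime
import Cfsg.Agent.H1.Fit

set_option autoImplicit false

/-! Huppert's theorem: maximal subgroups of prime index. -/

open scoped Pointwise commutatorElement

namespace CfsgH1

open Subgroup Cfsg

universe u v w
variable {G : Type u} [Group G]

theorem isCoatom_comap_mk {N : Subgroup G} [N.Normal] {L : Subgroup (G ⧸ N)} (hL : IsCoatom L) :
    IsCoatom (L.comap (QuotientGroup.mk' N)) := by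
  refine ⟨?_, ?_⟩
  · intro ht
    apply hL.1
    rw [← map_comap_eq_self_of_surjective (QuotientGroup.mk'_surjective N) L, ht, 
      ← MonoidHom.range_eq_map, MonoidHom.range_eq_top]
    exact QuotientGroup.mk'_surjective N
  · intro K hK
    have h3 : L < K.map (QuotientGroup.mk' N) := by
      rw [← map_comap_eq_self_of_surjective (QuotientGroup.mk'_surjective N) L]
      refine lt_of_le_of_ne (Subgroup.map_mono hK.le) ?_
      intro he
      have hker : (QuotientGroup.mk' N).ker ≤ K := by
        refine le_trans ?_ hK.le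
        intro x hx
        rw [Subgroup.mem_comap, MonoidHom.mem_ker.1 hx]; exact L.one_mem
      apply hK.ne
      rw [← comap_map_eq_self hker, ← he, comap_map_eq_self]
      intro x hx
      rw [Subgroup.mem_comap, MonoidHom.mem_ker.1 hx]; exact L.one_mem
    have h4 := hL.2 _ h3
    have hker : (QuotientGroup.mk' N).ker ≤ K := by
      refine le_trans ?_ hK.le
      intro x hx
      rw [Subgroup.mem_comap, MonoidHom.mem_ker.1 hx]; exact L.one_mem
    rw [← comap_map_eq_self hker, h4, comap_top]

theorem maxprime_quotient {N : Subgroup G} [N.Normal] (h : ∀ M : Subgroup G, IsCoatom M → M.index.Prime) :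
    ∀ M : Subgroup (G ⧸ N), IsCoatom M → M.index.Prime := by
  intro L hL
  have := h _ (isCoatom_comap_mk hL)
  rwa [Subgroup.index_comap_of_surjective L (QuotientGroup.mk'_surjective N)] at this

/-- Sylow subgroup for the largest prime is normal when all maximal subgroups have prime index -/
theorem sylow_normal_of_maxprime [Finite G] (h : ∀ M : Subgroup G, IsCoatom M → M.index.Prime) {p : ℕ} [hp : Fact p.Prime]
    (hmax : ∀ q : ℕ, q.Prime → q ∣ Nat.card G → q ≤ p) (P : Sylow p G) : (P : Subgroup G).Normal := by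
  rw [← normalizer_eq_top_iff]
  by_contra hne
  obtain ⟨M, hM, hPM⟩ := (eq_top_or_exists_le_coatom (normalizer ((P : Subgroup G) : Set G))).resolve_left hne
  have hMp := h M hM
  have hPM' : (P : Subgroup G) ≤ M := le_normalizer.trans hPM
  have h1 : (normalizer ((P : Subgroup G) : Set G)).index ≡ 1 [MOD p] := by
    have h01 : (normalizer ((P : Subgroup G) : Set G)).index = Nat.card (Sylow p G) := P.card_eq_index_normalizer.symm
    rw [h01]; exact card_sylow_modEq_one p G
  have h2 : (normalizer ((P : Subgroup G) : Set G)).relIndex M ≡ 1 [MOD p] := by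
    have h3 := (P.subtype hPM').card_eq_index_normalizer
    have h4 : (normalizer ((P.subtype hPM' : Subgroup M) : Set M)) = (normalizer ((P : Subgroup G) : Set G)).subgroupOf M := by
      ext x
      rw [Subgroup.mem_subgroupOf, mem_normalizer_iff, mem_normalizer_iff]
      constructor
      · intro hx y
        constructor
        · intro hy
          exact (hx ⟨y, hPM' hy⟩).1 hy
        · intro hy
          have hyM : y ∈ M := by
            have := M.mul_mem (M.mul_mem (M.inv_mem x.2) (hPM' hy)) x.2
            have e : (x : G)⁻¹ * ((x : G) * y * (x : G)⁻¹) * x = y := by group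
            rwa [e] at this
          exact (hx ⟨y, hyM⟩).2 hy
      · intro hx y
        exact hx y
    have h5 : Nat.card (Sylow p M) ≡ 1 [MOD p] := card_sylow_modEq_one p M
    rw [h3] at h5
    have h6 : (normalizer ((P.subtype hPM' : Subgroup M) : Set M)).index = (normalizer ((P : Subgroup G) : Set G)).relIndex M := by
      rw [h4]; rfl
    rw [← h6]; exact h5
  have h3 : M.index ≡ 1 [MOD p] := by
    have h4 := Subgroup.relIndex_mul_index hPM
    rw [← h4] at h1
    have h5 : (normalizer ((P : Subgroup G) : Set G)).relIndex M * M.index ≡ 1 * M.index [MOD p] := h2.mul_right _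
    rw [one_mul] at h5
    exact h5.symm.trans h1
  have hle := hmax _ hMp (Subgroup.index_dvd_card M)
  have h4 : p ∣ M.index - 1 := (Nat.modEq_iff_dvd' hMp.one_lt.le).1 h3.symm
  have h5 := hMp.one_lt
  have := Nat.le_of_dvd (by omega) h4
  omega

theorem solvable_of_maxprime (n : ℕ) : ∀ (G : Type u) [Group G] [Finite G], Nat.card G = n → 
    (∀ M : Subgroup G, IsCoatom M → M.index.Prime) → Group.IsSolvable G := by
  induction n using Nat.strong_induction_on with
  | _ n IH =>
  intro G _ _ hn h
  rcases subsingleton_or_nontrivial G with hsub | hnt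
  · infer_instance
  obtain ⟨p, hp, hpd, hmax⟩ := exists_max_prime (G := G)
  haveI : Fact p.Prime := ⟨hp⟩
  obtain ⟨P⟩ := (inferInstance : Nonempty (Sylow p G))
  haveI hPn := sylow_normal_of_maxprime h hmax P
  have hPne := sylow_ne_bot hpd P
  exact isSolvable_of_normal_quotient (P : Subgroup G) (isSolvable_of_isPGroup P.2) 
    (IH _ (hn ▸ card_quotient_lt hPne) _ rfl (maxprime_quotient h))

section Eigen

theorem exists_eigen_add {V : Type v} [AddCommGroup V] [Finite V] [Nontrivial V] {p : ℕ} [hp : Fact p.Prime] (hV : ∀ v : V, p • v = 0)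
    (T : V →+ V) (hT : ∀ v, T^[p] v = T v) : ∃ v : V, v ≠ 0 ∧ ∃ c : ℕ, T v = c • v := by
  letI : Module (ZMod p) V := AddCommGroup.zmodModule (n := p) hV
  let T' : V →ₗ[ZMod p] V := T.toZModLinearMap p
  have hT' : ∀ v : V, T' v = T v := fun _ => rfl
  have hpow : ∀ (k : ℕ) (v : V), (T' ^ k) v = T^[k] v := by
    intro k
    induction k with
    | zero => intro v; rfl
    | succ k ih =>
      intro v
      rw [pow_succ, Module.End.mul_apply, hT', ih, Function.iterate_succ_apply]
  have h1 : T' ^ p = T' := by
    apply LinearMap.ext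
    intro x
    rw [hpow, hT, hT']
  haveI : FiniteDimensional (ZMod p) V := Module.Finite.of_finite
  have h2 : minpoly (ZMod p) T' ∣ (Polynomial.X ^ p - Polynomial.X : Polynomial (ZMod p)) := by
    apply minpoly.dvd
    rw [map_sub, map_pow, Polynomial.aeval_X, h1, sub_self]
  have h3 : (Polynomial.X ^ p - Polynomial.X : Polynomial (ZMod p)).Splits := by
    rw [Polynomial.splits_iff_card_roots]
    have e1 := FiniteField.roots_X_pow_card_sub_X (ZMod p)
    rw [ZMod.card] at e1
    rw [e1, FiniteField.X_pow_card_sub_X_natDegree_eq (ZMod p) hp.out.one_lt]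
    change Finset.card Finset.univ = p
    rw [Finset.card_univ, ZMod.card]
  have h4 : (minpoly (ZMod p) T').Splits := h3.of_dvd (FiniteField.X_pow_card_sub_X_ne_zero (ZMod p) hp.out.one_lt) h2
  have hint : IsIntegral (ZMod p) T' := Algebra.IsIntegral.isIntegral T'
  obtain ⟨c, hc⟩ := h4.exists_eval_eq_zero (by
    intro h
    exact (minpoly.degree_pos hint).ne' h)
  have h5 := Module.End.hasEigenvalue_of_isRoot (f := T') (μ := c) hc
  obtain ⟨v, hv⟩ := h5.exists_hasEigenvector
  refine ⟨v, fun h => hv.2 h, c.val, ?_⟩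
  have h6 := hv.apply_eq_smul
  have h7 : c • v = c.val • v := by
    conv_lhs => rw [← ZMod.natCast_zmod_val c]
    rw [Nat.cast_smul_eq_nsmul]
  rw [h7] at h6
  exact h6

/-- an operator `T` with `T^p = T` on an elementary abelian `p`-group has an eigenvector -/
theorem exists_eigen {V : Type v} [CommGroup V] [Finite V] [Nontrivial V] {p : ℕ} [hp : Fact p.Prime] (hV : ∀ v : V, v ^ p = 1)
    (T : V →* V) (hT : ∀ v, T^[p] v = T v) : ∃ v : V, v ≠ 1 ∧ ∃ c : ℕ, T v = v ^ c := by
  haveI : Finite (Additive V) := inferInstanceAs (Finite V)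
  haveI : Nontrivial (Additive V) := inferInstanceAs (Nontrivial V)
  exact exists_eigen_add (V := Additive V) (p := p) hV (MonoidHom.toAdditive T) hT

end Eigen

theorem ker_conjNormal (N : Subgroup G) [N.Normal] : (MulAut.conjNormal (H := N) : G →* MulAut N).ker = centralizer (N : Set G) := by
  ext x
  rw [MonoidHom.mem_ker, mem_centralizer_iff]
  constructor
  · intro h n hn
    have h6 := congrArg (fun f : MulAut N => ((f ⟨n, hn⟩ : N) : G)) h
    simp only [MulAut.conjNormal_apply, MulAut.one_apply] at h6
    exact (mul_inv_eq_iff_eq_mul.1 h6).symm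
  · intro h
    apply MulEquiv.ext
    intro n
    apply Subtype.ext
    rw [MulAut.conjNormal_apply, MulAut.one_apply, ← h n n.2, mul_inv_cancel_right]

theorem commutator_le_centralizer_of_cyclic (N : Subgroup G) [N.Normal] [IsCyclic N] :
    commutator G ≤ centralizer (N : Set G) := by
  rw [← ker_conjNormal, _root_.commutator_def, commutator_le]
  intro a _ b _
  rw [MonoidHom.mem_ker, map_commutatorElement, commutatorElement_eq_one_iff_mul_comm]
  exact (IsCyclic.mulAutMulEquiv N).injective (by rw [map_mul, map_mul, mul_comm])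

theorem pow_mem_centralizer_of_card_prime [Finite G] (N : Subgroup G) [N.Normal] (hN : (Nat.card N).Prime) (x : G) :
    x ^ (Nat.card N - 1) ∈ centralizer (N : Set G) := by
  haveI := isCyclic_of_card_prime hN
  rw [← ker_conjNormal, MonoidHom.mem_ker, map_pow]
  have h1 : Nat.card (MulAut N) = Nat.card N - 1 := by
    rw [IsCyclic.card_mulAut, Nat.totient_prime hN]
  rw [← h1]
  exact pow_card_eq_one'

/-- in a supersolvable group, `p'`-elements of the derived subgroup and `(p-1)`-th powers centralize normal `p`-subgroups -/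
theorem ss_centralizes (n : ℕ) : ∀ (G : Type u) [Group G] [Finite G], Nat.card G = n → IsSupersolvable G →
    ∀ (p : ℕ) [Fact p.Prime] (Q : Subgroup G) [Q.Normal], IsPGroup p Q → ∀ y : G, (orderOf y).Coprime p → 
    (y ∈ commutator G ∨ ∃ x, y = x ^ (p - 1)) → y ∈ centralizer (Q : Set G) := by
  induction n using Nat.strong_induction_on with
  | _ n IH =>
  intro G _ _ hn hG p hp Q _ hQ y hy hyc
  by_cases hQb : Q = ⊥
  · rw [hQb, mem_centralizer_iff]
    intro z hz
    rw [SetLike.mem_coe, mem_bot] at hz
    rw [hz, one_mul, mul_one]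
  obtain ⟨N, hN, hNQ, hNp⟩ := supersolvable_exists_normal_prime_le _ G rfl hG Q hQb
  have hNcard : Nat.card N = p := by
    obtain ⟨k, hk⟩ := IsPGroup.iff_card.1 hQ
    have h1 : Nat.card N ∣ p ^ k := hk ▸ Subgroup.card_dvd_of_le hNQ
    exact (Nat.prime_dvd_prime_iff_eq hNp hp.out).1 (hNp.dvd_of_dvd_pow h1)
  have hNb := ne_bot_of_card_prime hNp
  haveI := isCyclic_of_card_prime hNp
  have hyN : y ∈ centralizer (N : Set G) := by
    rcases hyc with h | ⟨x, rfl⟩
    · exact commutator_le_centralizer_of_cyclic N h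
    · rw [← hNcard]; exact pow_mem_centralizer_of_card_prime N hNp x
  set π := QuotientGroup.mk' N with hπ
  have hπs := QuotientGroup.mk'_surjective N
  haveI : (Q.map π).Normal := Subgroup.Normal.map inferInstance π hπs
  have hbar := IH (Nat.card (G ⧸ N)) (hn ▸ card_quotient_lt hNb) (G ⧸ N) rfl (CfsgH2.IsSupersolvable.quotient hG N) p (Q.map π)
    (hQ.map π) (π y) (Nat.Coprime.coprime_dvd_left (orderOf_map_dvd π y) hy) (by
      rcases hyc with h | ⟨x, rfl⟩
      · left
        have h2 : (commutator G).map π ≤ commutator (G ⧸ N) := by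
          rw [_root_.commutator_def, _root_.commutator_def, map_commutator]
          exact commutator_mono le_top le_top
        exact h2 ⟨y, h, rfl⟩
      · right
        exact ⟨π x, by rw [map_pow]⟩)
  have hcop : (Nat.card (zpowers y)).Coprime (Nat.card Q) := by
    rw [Nat.card_zpowers]
    obtain ⟨k, hk⟩ := IsPGroup.iff_card.1 hQ
    rw [hk]; exact hy.pow_right k
  have h1 : ⁅Q, zpowers y⁆ ≤ N := by
    rw [commutator_le]
    intro q hq z hz
    have hz' : π z ∈ centralizer (Q.map π : Set (G ⧸ N)) := by
      obtain ⟨k, rfl⟩ := mem_zpowers_iff.1 hz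
      rw [map_zpow]
      exact zpow_mem hbar k
    have h2 := mem_centralizer_iff.1 hz' (π q) ⟨q, hq, rfl⟩
    rw [← commutatorElement_eq_one_iff_mul_comm, ← map_commutatorElement] at h2
    exact (QuotientGroup.eq_one_iff _).1 h2
  have h2 : ⁅⁅Q, zpowers y⁆, zpowers y⁆ = ⊥ := by
    rw [eq_bot_iff]
    refine (commutator_mono h1 le_rfl).trans ?_
    rw [le_bot_iff, commutator_eq_bot_iff_le_centralizer, le_centralizer_iff, zpowers_le]
    exact hyN
  have h3 := coprime_commutator_eq_bot (le_normalizer_of_normal (zpowers y) Q) hcop (Or.inr (isSolvable_of_isPGroup hQ)) h2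
  rw [commutator_eq_bot_iff_le_centralizer, le_centralizer_iff, zpowers_le] at h3
  exact h3

/-- **Huppert** -/
theorem huppert_maxprime (n : ℕ) : ∀ (G : Type u) [Group G] [Finite G], Nat.card G = n → 
    (∀ M : Subgroup G, IsCoatom M → M.index.Prime) → IsSupersolvable G := by
  induction n using Nat.strong_induction_on with
  | _ n IH =>
  intro G _ _ hn h
  rcases subsingleton_or_nontrivial G with hsub | hnt
  · exact CfsgH2.isSupersolvable_of_subsingleton
  haveI hs : Group.IsSolvable G := solvable_of_maxprime _ G rfl h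
  have hquo : ∀ N : Subgroup G, ∀ [N.Normal], N ≠ ⊥ → IsSupersolvable (G ⧸ N) := by
    intro N _ hN
    exact IH _ (hn ▸ card_quotient_lt hN) _ rfl (maxprime_quotient h)
  by_cases htwo : ∃ N1 N2 : Subgroup G, N1.Normal ∧ N2.Normal ∧ N1 ≠ ⊥ ∧ N2 ≠ ⊥ ∧ N1 ⊓ N2 = ⊥
  · obtain ⟨N1, N2, hn1, hn2, h1, h2, h12⟩ := htwo
    have hp := supersolvable_prod _ (G ⧸ N1) rfl (hquo N1 h1) (G ⧸ N2) (hquo N2 h2)
    refine supersolvable_injective _ _ rfl hp G ((QuotientGroup.mk' N1).prod (QuotientGroup.mk' N2)) ?_
    rw [injective_iff_map_eq_one]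
    intro x hx
    rw [MonoidHom.prod_apply, Prod.mk_eq_one] at hx
    have : x ∈ N1 ⊓ N2 := ⟨(QuotientGroup.eq_one_iff x).1 hx.1, (QuotientGroup.eq_one_iff x).1 hx.2⟩
    rw [h12, mem_bot] at this
    exact this
  push Not at htwo
  obtain ⟨p, hp, hpd, hmax⟩ := exists_max_prime (G := G)
  haveI : Fact p.Prime := ⟨hp⟩
  obtain ⟨P⟩ := (inferInstance : Nonempty (Sylow p G))
  haveI hPn := sylow_normal_of_maxprime h hmax P
  have hPne := sylow_ne_bot hpd P
  obtain ⟨N, hN, hNP, hNne, hNmin⟩ := exists_minNormal_le (K := (P : Subgroup G)) hPne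
  haveI := hN
  obtain ⟨hNab, q, hq, hNq⟩ := elemAb_of_minNormal hNne hNmin
  have hNqp : q = p := by
    have h1 : IsPGroup p N := P.2.to_le hNP
    obtain ⟨x, hx⟩ := Subgroup.ne_bot_iff_exists_ne_one.1 hNne
    have h2 : orderOf x ∣ q := orderOf_dvd_of_pow_eq_one (Subtype.ext (hNq x x.2))
    obtain ⟨k, hk⟩ := IsPGroup.iff_orderOf.1 h1 x
    rcases (Nat.dvd_prime hq).1 h2 with h3 | h3
    · exact absurd (orderOf_eq_one_iff.1 h3) hx
    · rw [h3] at hk
      have h4 : q ∣ p ^ k := hk ▸ dvd_rfl
      exact (Nat.prime_dvd_prime_iff_eq hq hp).1 (hq.dvd_of_dvd_pow h4)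
  subst hNqp
  suffices hcyc : IsCyclic N by
    haveI := hcyc
    exact supersolvable_of_cyclic_normal N (hquo N hNne)
  by_cases hNΦ : N ≤ frattini G
  swap
  · -- complemented: index prime
    obtain ⟨M, hM, hNM, hsup⟩ := exists_isCoatom_not_le hNΦ
    have hinf : N ⊓ M = ⊥ := by
      haveI := inf_normal_of_abelian hNab hsup
      rcases hNmin (N ⊓ M) this inf_le_left with h1 | h1
      · exact h1
      · exact absurd (inf_eq_left.1 h1) hNM
    have h1 := index_eq_of_sup hsup
    rw [hinf, Subgroup.card_bot, mul_one] at h1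
    exact isCyclic_of_card_prime (h1 ▸ h M hM)
  -- complement K of P
  have hcopP : (Nat.card (P : Subgroup G)).Coprime (P : Subgroup G).index := P.card_coprime_index
  obtain ⟨K, hK⟩ := Subgroup.exists_right_complement'_of_coprime (N := (P : Subgroup G)) hcopP
  have hPK : (P : Subgroup G) ⊔ K = ⊤ := hK.sup_eq_top
  have hPKd : (P : Subgroup G) ⊓ K = ⊥ := hK.isCompl.inf_eq_bot
  have hKcop : (Nat.card (P : Subgroup G)).Coprime (Nat.card K) := by
    rw [← hK.symm.index_eq_card]; exact hcopP
  -- centralizer of P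
  have hCP : centralizer ((P : Subgroup G) : Set G) ≤ (P : Subgroup G) := by
    have h1 : pPrimeCore q G = ⊥ := by
      by_contra hne
      refine htwo (pPrimeCore q G) P inferInstance inferInstance hne hPne ?_
      apply inf_eq_bot_of_coprime
      obtain ⟨k, hk⟩ := IsPGroup.iff_card.1 P.2
      rw [hk]
      exact (CfsgH2.coprime_card_pPrimeCore q).pow_right k
    have h2 := centralizer_pCore_le_of_solvable h1
    have h3 : pCore q G = (P : Subgroup G) := le_antisymm (pCore_le_sylow P) (CfsgH2.le_pCore hPn P.2)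
    rwa [h3] at h2
  -- X = elements acting trivially on P/N
  let X : Subgroup G := (centralizer ((P : Subgroup G).map (QuotientGroup.mk' N) : Set (G ⧸ N))).comap (QuotientGroup.mk' N)
  haveI : ((P : Subgroup G).map (QuotientGroup.mk' N)).Normal := hPn.map _ (QuotientGroup.mk'_surjective N)
  haveI hXn : X.Normal := inferInstance
  have hXmem : ∀ x ∈ X, ∀ y ∈ (P : Subgroup G), ⁅y, x⁆ ∈ N := by
    intro x hx y hy
    have h2 := mem_centralizer_iff.1 (mem_comap.1 hx) (QuotientGroup.mk' N y) ⟨y, hy, rfl⟩
    rw [← commutatorElement_eq_one_iff_mul_comm, ← map_commutatorElement] at h2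
    exact (QuotientGroup.eq_one_iff _).1 h2
  let A : Subgroup G := X ⊓ K
  have hKA : K ≤ normalizer (A : Set G) := le_normalizer_inf (le_normalizer_of_normal K X) le_normalizer
  have hAcop : (Nat.card (P : Subgroup G)).Coprime (Nat.card A) :=
    Nat.Coprime.coprime_dvd_right (Subgroup.card_dvd_of_le inf_le_right) hKcop
  -- P = N C_P(A)
  have hAbot : A = ⊥ := by
    have h1 : (P : Subgroup G) ≤ N ⊔ normalizer (A : Set G) := by
      intro x hx
      obtain ⟨n, hn, c, hc, rfl⟩ := coprime_eq_commutator_mul (A := A) (K := (P : Subgroup G)) (le_normalizer_of_normal _ _) hAcop.symm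
        (Or.inr (isSolvable_of_isPGroup P.2)) hx
      refine mul_mem ?_ ?_
      · refine le_sup_left (a := N) ?_
        have : ⁅(P : Subgroup G), A⁆ ≤ N := by
          rw [commutator_le]
          intro y hy x hx
          exact hXmem x hx.1 y hy
        exact this hn
      · exact le_sup_right (a := N) (centralizer_le_normalizer _ hc.2)
    -- Frattini
    have hPAn : ((P : Subgroup G) ⊔ A).Normal := by
      rw [← normalizer_eq_top_iff, eq_top_iff, ← hPK]
      apply sup_le
      · exact le_sup_left.trans le_normalizer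
      · exact le_normalizer_sup (le_normalizer_of_normal _ _) hKA
    have h2 : ∀ g : G, g ∈ (P : Subgroup G) ⊔ normalizer (A : Set G) := by
      intro g
      have he : (P : Subgroup G) ⊔ A = (P : Subgroup G) ⊔ (MulAut.conj g • A) := by
        have h3 : MulAut.conj g • ((P : Subgroup G) ⊔ A) = (P : Subgroup G) ⊔ A := conj_smul_of_normal g
        rw [conj_smul_sup, conj_smul_of_normal g] at h3
        exact h3.symm
      have hd : (P : Subgroup G) ⊓ (MulAut.conj g • A) = ⊥ := by
        apply inf_eq_bot_of_coprime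
        rw [card_conj_smul]; exact hAcop
      obtain ⟨x, hx, hxe⟩ := sz_conj_internal (N := (P : Subgroup G)) (H := A) (K := MulAut.conj g • A) (le_normalizer_of_normal _ _)
        (le_normalizer_of_normal _ _) hAcop (Or.inl (isSolvable_of_isPGroup P.2)) he hd
      have h3 : x⁻¹ * g ∈ normalizer (A : Set G) := by
        rw [← conj_smul_eq_self_iff, map_mul, mul_smul, ← hxe, ← mul_smul, ← map_mul, inv_mul_cancel, map_one, one_smul]
      have : g = x * (x⁻¹ * g) := by group
      rw [this]
      exact mul_mem (le_sup_left (a := (P : Subgroup G)) hx) (le_sup_right (a := (P : Subgroup G)) h3)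
    have h3 : N ⊔ normalizer (A : Set G) = ⊤ := by
      rw [eq_top_iff]
      intro g _
      have h4 : (P : Subgroup G) ⊔ normalizer (A : Set G) ≤ N ⊔ normalizer (A : Set G) := sup_le h1 le_sup_right
      exact h4 (h2 g)
    have h4 := eq_top_of_frattini_sup hNΦ h3
    have hAn : A.Normal := normalizer_eq_top_iff.1 h4
    by_contra hne
    exact htwo A P hAn inferInstance hne hPne (inf_eq_bot_of_coprime hAcop.symm)
  -- K is abelian of exponent dividing q - 1
  have hss := hquo N hNne
  have hKX : ∀ y ∈ K, (y ∈ commutator G ∨ ∃ x, y = x ^ (q - 1)) → y = 1 := by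
    intro y hy hyc
    have hyo : (orderOf y).Coprime q := by
      have h1 : orderOf y ∣ Nat.card K := Subgroup.orderOf_dvd_natCard K hy
      have h2 : q ∣ Nat.card (P : Subgroup G) := by
        obtain ⟨k, hk⟩ := IsPGroup.iff_card.1 P.2
        rw [hk]
        apply dvd_pow_self
        rintro rfl
        rw [pow_zero] at hk
        exact hPne (Subgroup.card_eq_one.1 hk)
      exact (Nat.Coprime.coprime_dvd_left h2 (Nat.Coprime.coprime_dvd_right h1 hKcop)).symm
    have h1 : y ∈ X := by
      refine ss_centralizes _ (G ⧸ N) rfl hss q ((P : Subgroup G).map (QuotientGroup.mk' N)) (P.2.map _) (QuotientGroup.mk' N y) 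
        (Nat.Coprime.coprime_dvd_left (orderOf_map_dvd _ y) hyo) ?_
      rcases hyc with h | ⟨x, rfl⟩
      · left
        have h2 : (commutator G).map (QuotientGroup.mk' N) ≤ commutator (G ⧸ N) := by
          rw [_root_.commutator_def, _root_.commutator_def, map_commutator]
          exact commutator_mono le_top le_top
        exact h2 ⟨y, h, rfl⟩
      · right
        exact ⟨QuotientGroup.mk' N x, by rw [map_pow]⟩
    have h2 : y ∈ A := ⟨h1, hy⟩
    rw [hAbot, mem_bot] at h2
    exact h2
  have hKab : ∀ x ∈ K, ∀ y ∈ K, x * y = y * x := by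
    intro x hx y hy
    rw [← commutatorElement_eq_one_iff_mul_comm]
    refine hKX _ ?_ (Or.inl (commutator_mem_commutator (mem_top x) (mem_top y)))
    rw [commutatorElement_def]
    exact K.mul_mem (K.mul_mem (K.mul_mem hx hy) (K.inv_mem hx)) (K.inv_mem hy)
  have hKexp : ∀ x ∈ K, x ^ (q - 1) = 1 := fun x hx => hKX _ (K.pow_mem hx _) (Or.inr ⟨x, rfl⟩)
  -- P centralizes N
  have hPN : (P : Subgroup G) ≤ centralizer (N : Set G) := by
    have h1 : N ⊓ centralizer ((P : Subgroup G) : Set G) ≠ ⊥ :=
      inf_centralizer_ne_bot_of_nilpotent P.2.isNilpotent hNP (le_normalizer_of_normal _ _) hNne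
    rcases hNmin (N ⊓ centralizer ((P : Subgroup G) : Set G)) inferInstance inf_le_left with h2 | h2
    · exact absurd h2 h1
    · rw [le_centralizer_iff]; exact inf_eq_left.1 h2
  haveI : Nontrivial N := (Subgroup.nontrivial_iff_ne_bot N).2 hNne
  letI : CommGroup N := { (inferInstance : Group N) with mul_comm := fun a b => Subtype.ext (hNab a a.2 b b.2) }
  -- every k ∈ K acts as a power
  have hpow : ∀ k ∈ K, ∃ c : ℕ, ∀ x ∈ N, k * x * k⁻¹ = x ^ c := by
    intro k hk
    let T : N →* N := (MulAut.conjNormal k : MulAut N).toMonoidHom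
    have hTc : ∀ x : N, ((T x : N) : G) = k * x * k⁻¹ := fun _ => rfl
    have hTi : ∀ (j : ℕ) (x : N), ((T^[j] x : N) : G) = k ^ j * x * (k ^ j)⁻¹ := by
      intro j
      induction j with
      | zero => intro x; simp
      | succ j ih =>
        intro x
        rw [Function.iterate_succ_apply, ih, hTc, pow_succ]
        group
    obtain ⟨v, hv1, c, hc⟩ := exists_eigen (V := N) (p := q) (fun v => Subtype.ext (hNq v v.2)) T (by
      intro v
      apply Subtype.ext
      have hkq : k ^ q = k := by
        have : q = (q - 1) + 1 := by have := hq.one_lt; omega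
        rw [this, pow_succ, hKexp k hk, one_mul]
      rw [hTi, hkq, hTc])
    have hc' : k * v * k⁻¹ = (v : G) ^ c := congrArg Subtype.val hc
    refine ⟨c, ?_⟩
    let W : Subgroup G :=
      { carrier := {x | x ∈ N ∧ k * x * k⁻¹ = x ^ c}
        one_mem' := ⟨N.one_mem, by simp⟩
        mul_mem' := by
          rintro a b ⟨ha, ha'⟩ ⟨hb, hb'⟩
          refine ⟨N.mul_mem ha hb, ?_⟩
          rw [(show Commute a b from hNab a ha b hb).mul_pow, ← ha', ← hb']
          group
        inv_mem' := by
          rintro a ⟨ha, ha'⟩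
          refine ⟨N.inv_mem ha, ?_⟩
          rw [inv_pow, ← ha']
          group }
    have hWn : W.Normal := by
      rw [← normalizer_eq_top_iff, eq_top_iff, ← hPK]
      apply sup_le
      · refine le_trans ?_ (centralizer_le_normalizer _)
        exact hPN.trans (centralizer_le (fun x hx => hx.1))
      · rw [le_normalizer_iff_conj]
        rintro y hy x ⟨hx, hx'⟩
        refine ⟨hN.conj_mem x hx y, ?_⟩
        rw [conj_pow, ← hx']
        have e1 : k * (y * x * y⁻¹) * k⁻¹ = (k * y) * x * (k * y)⁻¹ := by group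
        have e2 : y * (k * x * k⁻¹) * y⁻¹ = (y * k) * x * (y * k)⁻¹ := by group
        rw [e1, e2, hKab k hk y hy]
    have hWN : W = N := by
      rcases hNmin W hWn (fun x hx => hx.1) with h1 | h1
      · exfalso
        have : (v : G) ∈ W := ⟨v.2, hc'⟩
        rw [h1, mem_bot] at this
        exact hv1 (Subtype.ext this)
      · exact h1
    intro x hx
    rw [← hWN] at hx
    exact hx.2
  obtain ⟨v, hv⟩ := Subgroup.ne_bot_iff_exists_ne_one.1 hNne
  have hvn : (zpowers (v : G)).Normal := by
    rw [← normalizer_eq_top_iff, eq_top_iff, ← hPK]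
    apply sup_le
    · refine le_trans ?_ (centralizer_le_normalizer _)
      rw [le_centralizer_iff, zpowers_le]
      exact (le_centralizer_iff.1 hPN) v.2
    · rw [le_normalizer_iff_conj]
      intro k hk x hx
      obtain ⟨c, hc⟩ := hpow k hk
      rw [hc x ((zpowers_le.2 v.2) hx)]
      exact pow_mem hx c
  rcases hNmin _ hvn (zpowers_le.2 v.2) with h1 | h1
  · exfalso
    rw [zpowers_eq_bot] at h1
    exact hv (Subtype.ext h1)
  · rw [← h1]; infer_instance

end CfsgH1
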