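import Mathlib
import Cfsg.Agent.H1.Basic

set_option autoImplicit false

open Subgroup
open scoped Pointwise commutatorElement

namespace CfsgH1

universe u v

theorem card_field_gen {K : Type u} [Field K] [Finite K] {p q : ℕ} [hp : Fact p.Prime] [hq : Fact q.Prime] [CharP K q] (hpq : p ≠ q) (φ : Polynomial (ZMod q) →+* K) (hφ : Function.Surjective φ)
    (h1 : (φ Polynomial.X) ^ p = 1) (h2 : φ Polynomial.X ≠ 1) : Nat.card K = q ^ orderOf (q : ZMod p) := by
  classical
  haveI := Fintype.ofFinite K
  obtain ⟨n, hnpos, hcard⟩ := FiniteField.card K q |>.choose_spec |> fun h => (⟨(FiniteField.card K q).choose, (FiniteField.card K q).choose.pos, h.2⟩ : ∃ n : ℕ, 0 < n ∧ Fintype.card K = q ^ n)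
  set e := orderOf (q : ZMod p) with he
  have hqe : (q : ZMod p) ^ e = 1 := pow_orderOf_eq_one _
  have hcop : Nat.Coprime q p := (Nat.coprime_primes hq.out hp.out).2 (Ne.symm hpq)
  have hepos : 0 < e := by
    rw [he, orderOf_pos_iff, isOfFinOrder_iff_pow_eq_one]
    refine ⟨p - 1, by have := hp.out.one_lt; omega, ?_⟩
    exact ZMod.pow_card_sub_one_eq_one (by
      intro h
      have := (ZMod.natCast_eq_zero_iff q p).1 h
      exact hp.out.one_lt.ne' (Nat.Coprime.eq_one_of_dvd hcop.symm this))
  have hmod : ∀ m : ℕ, (q : ZMod p) ^ m = 1 ↔ q ^ m ≡ 1 [MOD p] := by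
    intro m
    rw [← ZMod.natCast_eq_natCast_iff]
    push_cast
    rfl
  -- order of ζ
  have hord : orderOf (φ Polynomial.X) = p := orderOf_eq_prime h1 h2
  have hz0 : φ Polynomial.X ≠ 0 := by
    intro h
    rw [h, zero_pow hp.out.ne_zero] at h1
    exact zero_ne_one h1
  -- (a)
  have ha : e ∣ n := by
    rw [he, orderOf_dvd_iff_pow_eq_one, hmod]
    have h3 : orderOf (φ Polynomial.X) ∣ q ^ n - 1 := by
      rw [orderOf_dvd_iff_pow_eq_one, ← hcard]
      exact FiniteField.pow_card_sub_one_eq_one _ hz0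
    rw [hord] at h3
    exact ((Nat.modEq_iff_dvd' (Nat.one_le_pow _ _ hq.out.pos)).2 h3).symm
  -- (b)
  have hb : ∀ y : K, y ^ q ^ e = y := by
    haveI : ExpChar K q := ExpChar.prime hq.out
    have h3 : (iterateFrobenius K q e).comp φ = φ := by
      apply Polynomial.ringHom_ext'
      · exact Subsingleton.elim _ _
      · rw [RingHom.comp_apply, iterateFrobenius_def]
        obtain ⟨m, hm⟩ : ∃ m, q ^ e = 1 + p * m := by
          have h4 := (hmod e).1 hqe
          obtain ⟨m, hm⟩ := (Nat.modEq_iff_dvd' (Nat.one_le_pow _ _ hq.out.pos)).1 h4.symm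
          refine ⟨m, ?_⟩
          have := Nat.one_le_pow e q hq.out.pos
          omega
        rw [hm, pow_add, pow_one, pow_mul, h1, one_pow, mul_one]
    intro y
    obtain ⟨f, rfl⟩ := hφ y
    have h4 := congrArg (fun ψ : Polynomial (ZMod q) →+* K => ψ f) h3
    rwa [RingHom.comp_apply, iterateFrobenius_def] at h4
  -- (c)
  have hc : n ≤ e := by
    obtain ⟨u, hu⟩ := IsCyclic.exists_generator (α := Kˣ)
    have h3 : orderOf u = q ^ n - 1 := by
      rw [orderOf_eq_card_of_forall_mem_zpowers hu, Nat.card_eq_fintype_card, Fintype.card_units, hcard]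
    have h4 : u ^ (q ^ e - 1) = 1 := by
      have h5 := hb (u : K)
      have h6 : u ^ q ^ e = u := Units.ext (by rw [Units.val_pow_eq_pow_val]; exact h5)
      have h7 : u ^ (q ^ e - 1) * u = u := by
        rw [← pow_succ, Nat.sub_add_cancel (Nat.one_le_pow _ _ hq.out.pos)]
        exact h6
      exact mul_eq_right.1 h7
    have h5 := orderOf_dvd_of_pow_eq_one h4
    rw [h3] at h5
    have h6 : 1 < q ^ e := Nat.one_lt_pow hepos.ne' hq.out.one_lt
    have h7 := Nat.le_of_dvd (by omega) h5
    have h8 : q ^ n ≤ q ^ e := by omega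
    exact (Nat.pow_le_pow_iff_right hq.out.one_lt).1 h8
  have hne : n = e := le_antisymm hc (Nat.le_of_dvd hnpos ha)
  rw [Nat.card_eq_fintype_card, hcard, hne]

/-- irreducible cyclic action of prime order -/
theorem card_irr {V : Type u} [AddCommGroup V] [Finite V] {p q : ℕ} [hp : Fact p.Prime] [hq : Fact q.Prime] (hpq : p ≠ q) [Module (ZMod q) V] (T : V →ₗ[ZMod q] V) (hT : T ^ p = 1) (hT1 : T ≠ 1) 
    (hirr : ∀ B : Submodule (ZMod q) V, (∀ x ∈ B, T x ∈ B) → B = ⊥ ∨ B = ⊤) [Nontrivial V] : Nat.card V = q ^ orderOf (q : ZMod p) := by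
  obtain ⟨a, ha⟩ := exists_ne (0 : V)
  let ev : Polynomial (ZMod q) →ₗ[ZMod q] V := 
    { toFun := fun f => (Polynomial.aeval T f) a
      map_add' := fun f g => by rw [map_add, LinearMap.add_apply]
      map_smul' := fun c f => by rw [map_smul, LinearMap.smul_apply, RingHom.id_apply] }
  have hevm : ∀ f g, ev (f * g) = (Polynomial.aeval T f) (ev g) := fun f g => by
    change (Polynomial.aeval T (f * g)) a = _
    rw [map_mul]; rfl
  have hevX : ∀ g, ev (Polynomial.X * g) = T (ev g) := fun g => by rw [hevm, Polynomial.aeval_X]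
  let I : Ideal (Polynomial (ZMod q)) := 
    { carrier := {f | ev f = 0}
      add_mem' := fun {f g} hf hg => by
        change ev (f + g) = 0
        rw [map_add, show ev f = 0 from hf, show ev g = 0 from hg, add_zero]
      zero_mem' := map_zero ev
      smul_mem' := fun c f hf => by
        change ev (c * f) = 0
        rw [hevm, show ev f = 0 from hf, map_zero] }
  have hI : ∀ f, f ∈ I ↔ ev f = 0 := fun _ => Iff.rfl
  have himg : ∀ J : Ideal (Polynomial (ZMod q)), I < J → ∃ f ∈ J, ev f = a := by
    intro J hJ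
    let B : Submodule (ZMod q) V := 
      { carrier := {v | ∃ f ∈ J, ev f = v}
        add_mem' := by
          rintro _ _ ⟨f, hf, rfl⟩ ⟨g, hg, rfl⟩
          exact ⟨f + g, J.add_mem hf hg, map_add _ _ _⟩
        zero_mem' := ⟨0, J.zero_mem, map_zero _⟩
        smul_mem' := by
          rintro c _ ⟨f, hf, rfl⟩
          refine ⟨c • f, ?_, map_smul _ _ _⟩
          rw [Polynomial.smul_eq_C_mul]
          exact J.mul_mem_left _ hf }
    have hBinv : ∀ x ∈ B, T x ∈ B := by
      rintro _ ⟨f, hf, rfl⟩
      exact ⟨Polynomial.X * f, J.mul_mem_left _ hf, hevX f⟩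
    rcases hirr B hBinv with h | h
    · exfalso
      obtain ⟨f, hf, hfI⟩ := SetLike.exists_of_lt hJ
      apply hfI
      rw [hI]
      have : ev f ∈ B := ⟨f, hf, rfl⟩
      rw [h] at this
      exact this
    · have : a ∈ B := by rw [h]; trivial
      exact this
  have hev1 : ev 1 = a := by
    change (Polynomial.aeval T (1 : Polynomial (ZMod q))) a = a
    rw [map_one]; rfl
  have hmax : I.IsMaximal := by
    rw [Ideal.isMaximal_iff]
    refine ⟨fun h => ha (by rw [← hev1]; exact h), ?_⟩
    intro J x hIJ hxI hxJ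
    obtain ⟨f, hf, hfa⟩ := himg J (lt_of_le_of_ne hIJ (by rintro rfl; exact hxI hxJ))
    have h3 : 1 - f ∈ I := by rw [hI, map_sub, hev1, hfa, sub_self]
    have h4 := J.add_mem (hIJ h3) hf
    rwa [sub_add_cancel] at h4
  letI : Field (Polynomial (ZMod q) ⧸ I) := Ideal.Quotient.field I
  -- bijection with V
  have hsurj : Function.Surjective ev := by
    let B : Submodule (ZMod q) V := LinearMap.range ev
    have hBinv : ∀ x ∈ B, T x ∈ B := by
      rintro _ ⟨f, rfl⟩
      exact ⟨Polynomial.X * f, hevX f⟩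
    rcases hirr B hBinv with h | h
    · exfalso
      have : a ∈ B := ⟨1, hev1⟩
      rw [h] at this
      exact ha this
    · intro v
      have : v ∈ B := by rw [h]; trivial
      exact this
  let F : Polynomial (ZMod q) ⧸ I → V := fun x => Quotient.liftOn' x ev (by
    intro f g hfg
    have h3 : f - g ∈ I := by
      have := (Submodule.quotientRel_def I).1 hfg
      exact this
    rw [hI, map_sub, sub_eq_zero] at h3
    exact h3)
  have hF : ∀ f, F (Ideal.Quotient.mk I f) = ev f := fun f => rfl
  have hFb : Function.Bijective F := by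
    constructor
    · intro x y hxy
      obtain ⟨f, rfl⟩ := Ideal.Quotient.mk_surjective x
      obtain ⟨g, rfl⟩ := Ideal.Quotient.mk_surjective y
      rw [hF, hF] at hxy
      rw [Ideal.Quotient.eq, hI, map_sub, hxy, sub_self]
    · intro v
      obtain ⟨f, rfl⟩ := hsurj v
      exact ⟨Ideal.Quotient.mk I f, rfl⟩
  haveI : Finite (Polynomial (ZMod q) ⧸ I) := Finite.of_injective F hFb.1
  haveI : CharP (Polynomial (ZMod q) ⧸ I) q := by
    have : CharP (ZMod q) q := inferInstance
    exact charP_of_injective_ringHom ((Ideal.Quotient.mk I).comp Polynomial.C).injective q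
  rw [← Nat.card_eq_of_bijective F hFb]
  apply card_field_gen hpq (Ideal.Quotient.mk I) Ideal.Quotient.mk_surjective
  · rw [← map_pow, ← map_one (Ideal.Quotient.mk I), Ideal.Quotient.eq, hI, map_sub, hev1]
    change (Polynomial.aeval T (Polynomial.X ^ p)) a - a = 0
    rw [map_pow, Polynomial.aeval_X, hT]
    simp
  · intro h
    rw [← map_one (Ideal.Quotient.mk I), Ideal.Quotient.eq, hI, map_sub, hev1] at h
    have h3 : T a = a := by
      have h4 : ev Polynomial.X = T a := by
        have := hevX 1
        rwa [mul_one, hev1] at this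
      rw [h4] at h
      exact sub_eq_zero.1 h
    let B : Submodule (ZMod q) V := LinearMap.ker (T - 1)
    have hB : ∀ x, x ∈ B ↔ T x = x := by
      intro x
      rw [LinearMap.mem_ker, LinearMap.sub_apply, sub_eq_zero]
      rfl
    rcases hirr B (fun x hx => by rw [hB] at hx ⊢; rw [hx, hx]) with h5 | h5
    · have : a ∈ B := (hB a).2 h3
      rw [h5] at this
      exact ha this
    · apply hT1
      ext x
      have : x ∈ B := by rw [h5]; trivial
      exact (hB x).1 this

end CfsgH1
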