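import Mathlib
import Cfsg.Prelude.Def_Transfer
import Cfsg.Agent.H1.IrrCard
import Cfsg.Agent.H1.Huppert
import Cfsg.Agent.H1.MinNormal
import Cfsg.Agent.H1.CoprimeSylow

set_option autoImplicit false

open Cfsg Subgroup
open scoped Pointwise commutatorElement

namespace CfsgH1

universe u v
variable {G : Type u} [Group G]

theorem card_irr_mul {V : Type u} [CommGroup V] [Finite V] [Nontrivial V] {p q : ℕ} [hp : Fact p.Prime] [hq : Fact q.Prime] (hpq : p ≠ q) 
    (hV : ∀ v : V, v ^ q = 1) (T : V →* V) (hT : ∀ v, T^[p] v = v) (hT1 : ∃ v, T v ≠ v)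
    (hirr : ∀ B : Subgroup V, (∀ x ∈ B, T x ∈ B) → B = ⊥ ∨ B = ⊤) : Nat.card V = q ^ orderOf (q : ZMod p) := by
  haveI : Finite (Additive V) := inferInstanceAs (Finite V)
  haveI : Nontrivial (Additive V) := inferInstanceAs (Nontrivial V)
  letI : Module (ZMod q) (Additive V) := AddCommGroup.zmodModule (n := q) hV
  let T' : Additive V →ₗ[ZMod q] Additive V := (MonoidHom.toAdditive T).toZModLinearMap q
  have hT' : ∀ v : V, T' (Additive.ofMul v) = Additive.ofMul (T v) := fun _ => rfl
  have hpow : ∀ (k : ℕ) (v : V), (T' ^ k) (Additive.ofMul v) = Additive.ofMul (T^[k] v) := by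
    intro k
    induction k with
    | zero => intro v; rfl
    | succ k ih =>
      intro v
      rw [pow_succ, Module.End.mul_apply, hT', ih, Function.iterate_succ_apply]
  have h1 : T' ^ p = 1 := by
    apply LinearMap.ext
    intro x
    obtain ⟨v, rfl⟩ := Additive.ofMul.surjective x
    rw [hpow, hT]
    rfl
  have h2 : T' ≠ 1 := by
    intro h
    obtain ⟨v, hv⟩ := hT1
    apply hv
    have := congrArg (fun f : Additive V →ₗ[ZMod q] Additive V => f (Additive.ofMul v)) h
    exact Additive.ofMul.injective this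
  have h3 : Nat.card V = Nat.card (Additive V) := rfl
  rw [h3]
  apply card_irr hpq T' h1 h2
  intro B hB
  rcases hirr (AddSubgroup.toSubgroup' B.toAddSubgroup) (fun x hx => hB _ hx) with h | h
  · left
    rw [eq_bot_iff]
    intro x hx
    have h4 : x.toMul ∈ AddSubgroup.toSubgroup' B.toAddSubgroup := hx
    rw [h, mem_bot] at h4
    exact h4
  · right
    rw [eq_top_iff]
    intro x _
    have h4 : x.toMul ∈ AddSubgroup.toSubgroup' B.toAddSubgroup := by rw [h]; exact mem_top _
    exact h4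

theorem card_irr_group [Finite G] {p q : ℕ} [hp : Fact p.Prime] [hq : Fact q.Prime] (hpq : p ≠ q) {A : Subgroup G} 
    (hA : IsElementaryAbelian q A) (hne : A ≠ ⊥) {x : G} (hxA : ∀ a ∈ A, x * a * x⁻¹ ∈ A) (hxp : ∀ a ∈ A, x ^ p * a * (x ^ p)⁻¹ = a) (hx1 : ∃ a ∈ A, x * a * x⁻¹ ≠ a) 
    (hirr : ∀ B : Subgroup G, B ≤ A → (∀ b ∈ B, x * b * x⁻¹ ∈ B) → B = ⊥ ∨ B = A) : Nat.card A = q ^ orderOf (q : ZMod p) := by
  letI : CommGroup A := { (inferInstance : Group A) with mul_comm := fun a b => (hA.1.is_comm.comm a b) }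
  haveI : Nontrivial A := (Subgroup.nontrivial_iff_ne_bot A).2 hne
  let T : A →* A := 
    { toFun := fun a => ⟨x * a * x⁻¹, hxA _ a.2⟩
      map_one' := Subtype.ext (by simp)
      map_mul' := fun a b => Subtype.ext (by simp) }
  have hT : ∀ a : A, ((T a : A) : G) = x * a * x⁻¹ := fun _ => rfl
  have hTp : ∀ (k : ℕ) (a : A), ((T^[k] a : A) : G) = x ^ k * a * (x ^ k)⁻¹ := by
    intro k
    induction k with
    | zero => intro a; simp
    | succ k ih =>
      intro a
      rw [Function.iterate_succ_apply, ih, hT, pow_succ]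
      group
  apply card_irr_mul hpq (V := A) (fun v => Subtype.ext (hA.2 _ v.2)) T
  · intro v
    exact Subtype.ext (by rw [hTp, hxp _ v.2])
  · obtain ⟨a, ha, hax⟩ := hx1
    exact ⟨⟨a, ha⟩, fun h => hax (congrArg (fun z : A => (z : G)) h)⟩
  · intro B hB
    rcases hirr (B.map A.subtype) (map_subtype_le _) (by
      rintro _ ⟨b, hb, rfl⟩
      exact ⟨T b, hB b hb, rfl⟩) with h | h
    · left
      rw [eq_bot_iff]
      intro b hb
      have : (b : G) ∈ B.map A.subtype := ⟨b, hb, rfl⟩
      rw [h, mem_bot] at this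
      exact Subtype.ext this
    · right
      rw [eq_top_iff]
      intro b _
      have : (b : G) ∈ B.map A.subtype := by rw [h]; exact b.2
      obtain ⟨c, hc, hcb⟩ := this
      have : c = b := Subtype.ext hcb
      rw [← this]; exact hc

end CfsgH1
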