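import Cfsg.Agent.H1.Solv
import Cfsg.Agent.H1.SetMul

set_option autoImplicit false

open scoped Pointwise commutatorElement

namespace CfsgH1

universe u v w
variable {G : Type u} [Group G]

open Subgroup Cfsg

theorem le_normalizer_commutator_left (A B : Subgroup G) : A ≤ normalizer ((⁅A, B⁆ : Subgroup G) : Set G) := by
  rw [le_normalizer_iff_conj]
  intro a₀ ha₀ x hx
  have key : ⁅A, B⁆ ≤ (⁅A, B⁆).comap (MulAut.conj a₀).toMonoidHom := by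
    rw [Subgroup.commutator_le]
    intro a ha b hb
    rw [Subgroup.mem_comap]
    change a₀ * ⁅a, b⁆ * a₀⁻¹ ∈ _
    have : a₀ * ⁅a, b⁆ * a₀⁻¹ = ⁅a₀ * a, b⁆ * ⁅a₀, b⁆⁻¹ := by
      simp only [commutatorElement_def]; group
    rw [this]
    exact (⁅A, B⁆).mul_mem (commutator_mem_commutator (A.mul_mem ha₀ ha) hb) 
      ((⁅A, B⁆).inv_mem (commutator_mem_commutator ha₀ hb))
  exact key hx

theorem le_normalizer_commutator_right (A B : Subgroup G) : B ≤ normalizer ((⁅A, B⁆ : Subgroup G) : Set G) := by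
  rw [commutator_comm]; exact le_normalizer_commutator_left B A

theorem normal_commutator_of_sup {A B : Subgroup G} (h : A ⊔ B = ⊤) : (⁅A, B⁆).Normal := by
  rw [← normalizer_eq_top_iff, eq_top_iff, ← h]
  exact sup_le (le_normalizer_commutator_left A B) (le_normalizer_commutator_right A B)

theorem IsFact.sup_eq_top {A B : Subgroup G} (h : IsFact A B) : A ⊔ B = ⊤ := by
  rw [eq_top_iff]
  intro g _
  obtain ⟨a, ha, b, hb, rfl⟩ := h g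
  exact (A ⊔ B).mul_mem (mem_sup_left ha) (mem_sup_right hb)

/-- Itô: `[A,B]` is abelian if `G = AB` with `A`, `B` abelian. -/
theorem ito_commutator {A B : Subgroup G} (hA : ∀ x ∈ A, ∀ y ∈ A, x * y = y * x) (hB : ∀ x ∈ B, ∀ y ∈ B, x * y = y * x)
    (h : IsFact A B) : ∀ x ∈ ⁅A, B⁆, ∀ y ∈ ⁅A, B⁆, x * y = y * x := by
  have e1 : ∀ a ∈ A, ∀ a₂ ∈ A, ∀ x : G, ⁅a, x * a₂⁆ = ⁅a, x⁆ := by
    intro a ha a₂ ha₂ x
    rw [commutatorElement_def, commutatorElement_def]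
    calc a * (x * a₂) * a⁻¹ * (x * a₂)⁻¹ = a * x * (a₂ * a⁻¹) * a₂⁻¹ * x⁻¹ := by group
      _ = a * x * (a⁻¹ * a₂) * a₂⁻¹ * x⁻¹ := by rw [hA _ ha₂ _ (A.inv_mem ha)]
      _ = _ := by group
  have e2 : ∀ b ∈ B, ∀ b₂ ∈ B, ∀ x : G, ⁅x * b₂, b⁆ = ⁅x, b⁆ := by
    intro b hb b₂ hb₂ x
    rw [commutatorElement_def, commutatorElement_def]
    calc x * b₂ * b * (x * b₂)⁻¹ * b⁻¹ = x * (b₂ * b) * b₂⁻¹ * x⁻¹ * b⁻¹ := by group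
      _ = x * (b * b₂) * b₂⁻¹ * x⁻¹ * b⁻¹ := by rw [hB _ hb₂ _ hb]
      _ = _ := by group
  have e3 : ∀ g x y : G, g * ⁅x, y⁆ * g⁻¹ = ⁅g * x * g⁻¹, g * y * g⁻¹⁆ := by
    intro g x y; simp only [commutatorElement_def]; group
  have hA' : ∀ a ∈ A, ∀ a₁ ∈ A, a₁ * a * a₁⁻¹ = a := by
    intro a ha a₁ ha₁; rw [hA _ ha₁ _ ha]; group
  have hB' : ∀ b ∈ B, ∀ b₁ ∈ B, b₁ * b * b₁⁻¹ = b := by
    intro b hb b₁ hb₁; rw [hB _ hb₁ _ hb]; group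
  have key : ∀ a ∈ A, ∀ a₁ ∈ A, ∀ b ∈ B, ∀ b₁ ∈ B, 
      b₁ * (a₁ * ⁅a, b⁆ * a₁⁻¹) * b₁⁻¹ = a₁ * (b₁ * ⁅a, b⁆ * b₁⁻¹) * a₁⁻¹ := by
    intro a ha a₁ ha₁ b hb b₁ hb₁
    obtain ⟨b₂, hb₂, a₂, ha₂, h1⟩ := h.symm (a₁ * b * a₁⁻¹)
    obtain ⟨a₃, ha₃, b₃, hb₃, h2⟩ := h (b₁ * a * b₁⁻¹)
    have l1 : a₁ * ⁅a, b⁆ * a₁⁻¹ = ⁅a, b₂⁆ := by
      rw [e3, hA' a ha a₁ ha₁, h1, e1 a ha a₂ ha₂]
    have l2 : b₁ * ⁅a, b₂⁆ * b₁⁻¹ = ⁅a₃, b₂⁆ := by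
      rw [e3, hB' b₂ hb₂ b₁ hb₁, h2, e2 b₂ hb₂ b₃ hb₃]
    have r1 : b₁ * ⁅a, b⁆ * b₁⁻¹ = ⁅a₃, b⁆ := by
      rw [e3, hB' b hb b₁ hb₁, h2, e2 b hb b₃ hb₃]
    have r2 : a₁ * ⁅a₃, b⁆ * a₁⁻¹ = ⁅a₃, b₂⁆ := by
      rw [e3, hA' a₃ ha₃ a₁ ha₁, h1, e1 a₃ ha₃ a₂ ha₂]
    rw [l1, l2, r1, r2]
  have key2 : ∀ a ∈ A, ∀ b ∈ B, ∀ a₁ ∈ A, ∀ b₁ ∈ B, ⁅a₁, b₁⁆ * ⁅a, b⁆ = ⁅a, b⁆ * ⁅a₁, b₁⁆ := by
    intro a ha b hb a₁ ha₁ b₁ hb₁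
    have h1 := key a ha a₁⁻¹ (A.inv_mem ha₁) b hb b₁⁻¹ (B.inv_mem hb₁)
    -- b₁⁻¹ a₁⁻¹ c a₁ b₁ = a₁⁻¹ b₁⁻¹ c b₁ a₁
    rw [inv_inv, inv_inv] at h1
    have h2 : (a₁ * b₁ * a₁⁻¹ * b₁⁻¹) * ⁅a, b⁆ * (a₁ * b₁ * a₁⁻¹ * b₁⁻¹)⁻¹ = ⁅a, b⁆ := by
      calc (a₁ * b₁ * a₁⁻¹ * b₁⁻¹) * ⁅a, b⁆ * (a₁ * b₁ * a₁⁻¹ * b₁⁻¹)⁻¹ 
          = a₁ * b₁ * (a₁⁻¹ * (b₁⁻¹ * ⁅a, b⁆ * b₁) * a₁) * (a₁ * b₁)⁻¹ := by group
        _ = a₁ * b₁ * (b₁⁻¹ * (a₁⁻¹ * ⁅a, b⁆ * a₁) * b₁) * (a₁ * b₁)⁻¹ := by rw [h1]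
        _ = _ := by group
    rw [commutatorElement_def a₁ b₁]
    exact mul_inv_eq_iff_eq_mul.1 h2
  have h1 : ⁅A, B⁆ ≤ centralizer ((⁅A, B⁆ : Subgroup G) : Set G) := by
    rw [Subgroup.commutator_le]
    intro a ha b hb
    rw [mem_centralizer_iff]
    have h2 : ⁅A, B⁆ ≤ centralizer {⁅a, b⁆} := by
      rw [Subgroup.commutator_le]
      intro a₁ ha₁ b₁ hb₁
      rw [mem_centralizer_iff]
      intro y hy
      rw [Set.mem_singleton_iff] at hy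
      subst hy
      exact (key2 a ha b hb a₁ ha₁ b₁ hb₁).symm
    intro y hy
    exact (mem_centralizer_iff.1 (h2 hy) _ (Set.mem_singleton _)).symm
  intro x hx y hy
  exact (mem_centralizer_iff.1 (h1 hy) x hx)

theorem ito_quotient {A B : Subgroup G} (hA : ∀ x ∈ A, ∀ y ∈ A, x * y = y * x) (hB : ∀ x ∈ B, ∀ y ∈ B, x * y = y * x)
    (h : IsFact A B) [(⁅A, B⁆).Normal] : ∀ x y : G ⧸ ⁅A, B⁆, x * y = y * x := by
  have hcom : ∀ a ∈ A, ∀ b ∈ B, ((a : G) : G ⧸ ⁅A, B⁆) * (b : G ⧸ ⁅A, B⁆) = (b : G ⧸ ⁅A, B⁆) * (a : G ⧸ ⁅A, B⁆) := by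
    intro a ha b hb
    rw [← QuotientGroup.mk_mul, ← QuotientGroup.mk_mul, QuotientGroup.eq]
    have : (a * b)⁻¹ * (b * a) = ⁅b⁻¹, a⁻¹⁆ := by rw [commutatorElement_def]; group
    rw [this, commutator_comm]
    exact commutator_mem_commutator (B.inv_mem hb) (A.inv_mem ha)
  intro x y
  obtain ⟨g, rfl⟩ := QuotientGroup.mk_surjective x
  obtain ⟨k, rfl⟩ := QuotientGroup.mk_surjective y
  obtain ⟨a, ha, b, hb, rfl⟩ := h g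
  obtain ⟨a', ha', b', hb', rfl⟩ := h k
  simp only [QuotientGroup.mk_mul]
  calc (a : G ⧸ ⁅A, B⁆) * b * (a' * b') = a * ((b : G ⧸ ⁅A, B⁆) * a') * b' := by group
    _ = a * ((a' : G ⧸ ⁅A, B⁆) * b) * b' := by rw [hcom a' ha' b hb]
    _ = (((a * a' : G) : G ⧸ ⁅A, B⁆)) * ((b * b' : G) : G ⧸ ⁅A, B⁆) := by rw [QuotientGroup.mk_mul, QuotientGroup.mk_mul]; group
    _ = (((a' * a : G) : G ⧸ ⁅A, B⁆)) * ((b' * b : G) : G ⧸ ⁅A, B⁆) := by rw [hA a ha a' ha', hB b hb b' hb']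
    _ = a' * ((a : G ⧸ ⁅A, B⁆) * b') * b := by rw [QuotientGroup.mk_mul, QuotientGroup.mk_mul]; group
    _ = a' * ((b' : G ⧸ ⁅A, B⁆) * a) * b := by rw [hcom a ha b' hb']
    _ = _ := by group

theorem ito_solvable {A B : Subgroup G} (hA : ∀ x ∈ A, ∀ y ∈ A, x * y = y * x) (hB : ∀ x ∈ B, ∀ y ∈ B, x * y = y * x)
    (h : IsFact A B) : Group.IsSolvable G := by
  haveI := normal_commutator_of_sup h.sup_eq_top
  have h1 := ito_commutator hA hB h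
  exact isSolvable_of_normal_quotient ⁅A, B⁆ (Group.isSolvable_of_comm fun a b => Subtype.ext (h1 a a.2 b b.2)) 
    (Group.isSolvable_of_comm (ito_quotient hA hB h))

theorem ito_derived {A B : Subgroup G} (hA : ∀ x ∈ A, ∀ y ∈ A, x * y = y * x) (hB : ∀ x ∈ B, ∀ y ∈ B, x * y = y * x)
    (h : IsFact A B) : derivedSeries G 2 = ⊥ := by
  haveI := normal_commutator_of_sup h.sup_eq_top
  have h1 := ito_commutator hA hB h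
  have h2 : _root_.commutator G ≤ ⁅A, B⁆ := by
    rw [_root_.commutator_def, Subgroup.commutator_le]
    intro x _ y _
    have h3 := ito_quotient hA hB h x y
    rw [← QuotientGroup.mk_mul, ← QuotientGroup.mk_mul] at h3
    have h4 := QuotientGroup.eq.1 h3.symm
    have h5 := (inferInstance : (⁅A, B⁆).Normal).conj_mem _ h4 (y * x)
    have : ⁅x, y⁆ = y * x * ((y * x)⁻¹ * (x * y)) * (y * x)⁻¹ := by rw [commutatorElement_def]; group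
    rw [this]; exact h5
  rw [derivedSeries_succ, derivedSeries_one, eq_bot_iff, Subgroup.commutator_le]
  intro x hx y hy
  rw [Subgroup.mem_bot]
  exact commutatorElement_eq_one_iff_mul_comm.2 (h1 x (h2 hx) y (h2 hy))

end CfsgH1
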