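import Cfsg.Agent.H1.Frat
import Cfsg.Prelude.Def_PLocal

set_option autoImplicit false

/-! Regular p-groups. -/

open Cfsg Subgroup
open scoped Pointwise commutatorElement

namespace CfsgH1

universe u v

variable {G : Type u} [Group G] {p : ℕ}

theorem comm_le_self (K : Subgroup G) : ⁅K, K⁆ ≤ K := by
  rw [Subgroup.commutator_le]
  intro x hx y hy
  rw [commutatorElement_def]
  exact mul_mem (mul_mem (mul_mem hx hy) (inv_mem hx)) (inv_mem hy)

theorem frattini_ne_top_of [Finite G] [Nontrivial G] (h : frattini G = ⊤) : False := by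
  obtain ⟨M, hM, -⟩ := (eq_top_or_exists_le_coatom (⊥ : Subgroup G)).resolve_left (by
    intro h
    exact bot_ne_top h)
  exact hM.1 (top_le_iff.1 (h ▸ frattini_le_coatom hM))

theorem commutator_le_of_gens {S : Set G} {P : Subgroup G} (hP : Subgroup.closure S ≤ normalizer (P : Set G)) (h : ∀ s ∈ S, ∀ t ∈ S, ⁅s, t⁆ ∈ P) : 
    ⁅Subgroup.closure S, Subgroup.closure S⁆ ≤ P := by
  have hc : ∀ g ∈ Subgroup.closure S, ∀ x ∈ P, g * x * g⁻¹ ∈ P := fun g hg x hx => (Subgroup.mem_normalizer_iff.1 (hP hg) x).1 hx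
  have step1 : ∀ s ∈ S, ∀ y ∈ Subgroup.closure S, ⁅s, y⁆ ∈ P := by
    intro s hs y hy
    induction hy using Subgroup.closure_induction with
    | mem y hy => exact h s hs y hy
    | one => rw [commutatorElement_one_right]; exact one_mem _
    | mul y z hy hz h1 h2 =>
      have : ⁅s, y * z⁆ = ⁅s, y⁆ * (y * ⁅s, z⁆ * y⁻¹) := by simp only [commutatorElement_def]; group
      rw [this]; exact mul_mem h1 (hc y hy _ h2)
    | inv y hy h1 =>
      have : ⁅s, y⁻¹⁆ = y⁻¹ * ⁅s, y⁆⁻¹ * y⁻¹⁻¹ := by simp only [commutatorElement_def]; group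
      rw [this]; exact hc _ (inv_mem hy) _ (inv_mem h1)
  rw [Subgroup.commutator_le]
  intro x hx y hy
  induction hx using Subgroup.closure_induction with
  | mem x hx => exact step1 x hx y hy
  | one => rw [commutatorElement_one_left]; exact one_mem _
  | mul x z hx hz h1 h2 =>
    have : ⁅x * z, y⁆ = x * ⁅z, y⁆ * x⁻¹ * ⁅x, y⁆ := by simp only [commutatorElement_def]; group
    rw [this]; exact mul_mem (hc x hx _ h2) h1
  | inv x hx h1 =>
    have : ⁅x⁻¹, y⁆ = x⁻¹ * ⁅x, y⁆⁻¹ * x⁻¹⁻¹ := by simp only [commutatorElement_def]; group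
    rw [this]; exact hc _ (inv_mem hx) _ (inv_mem h1)

theorem le_normalizer_comm (K : Subgroup G) : K ≤ normalizer ((⁅K, K⁆ : Subgroup G) : Set G) := by
  rw [le_normalizer_iff_conj]
  intro g hg x hx
  have h1 : ⁅K, K⁆ ≤ (⁅K, K⁆).comap (MulAut.conj g).toMonoidHom := by
    rw [Subgroup.commutator_le]
    intro a ha b hb
    rw [Subgroup.mem_comap, map_commutatorElement]
    exact Subgroup.commutator_mem_commutator (mul_mem (mul_mem hg ha) (inv_mem hg)) (mul_mem (mul_mem hg hb) (inv_mem hg))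
  exact h1 hx

theorem powerClosure_mono {n : ℕ} {H K : Subgroup G} (h : H ≤ K) : powerClosure p n H ≤ powerClosure p n K := 
  Subgroup.closure_mono fun _ ⟨x, hx, e⟩ => ⟨x, h hx, e⟩

theorem powerClosure_le {n : ℕ} {H : Subgroup G} : powerClosure p n H ≤ H := by
  unfold powerClosure
  rw [Subgroup.closure_le]
  rintro _ ⟨x, hx, rfl⟩
  exact pow_mem hx _

theorem mem_powerClosure {n : ℕ} {H : Subgroup G} {x : G} (hx : x ∈ H) : x ^ p ^ n ∈ powerClosure p n H := 
  Subgroup.subset_closure ⟨x, hx, rfl⟩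

theorem powerClosure_map {G' : Type v} [Group G'] (f : G →* G') (n : ℕ) (H : Subgroup G) : (powerClosure p n H).map f = powerClosure p n (H.map f) := by
  unfold powerClosure
  rw [MonoidHom.map_closure]
  congr 1
  ext y
  constructor
  · rintro ⟨_, ⟨x, hx, rfl⟩, rfl⟩
    exact ⟨f x, ⟨x, hx, rfl⟩, map_pow _ _ _⟩
  · rintro ⟨_, ⟨x, hx, rfl⟩, rfl⟩
    exact ⟨x ^ p ^ n, ⟨x, hx, rfl⟩, map_pow _ _ _⟩

theorem powerClosure_normalized {n : ℕ} {H K : Subgroup G} (h : K ≤ normalizer (H : Set G)) : K ≤ normalizer (powerClosure p n H : Set G) := by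
  rw [le_normalizer_iff_conj]
  intro g hg x hx
  have h1 : powerClosure p n H ≤ (powerClosure p n H).comap (MulAut.conj g).toMonoidHom := by
    conv_lhs => unfold powerClosure
    rw [Subgroup.closure_le]
    rintro _ ⟨x, hx, rfl⟩
    rw [SetLike.mem_coe, Subgroup.mem_comap, map_pow]
    exact mem_powerClosure ((Subgroup.mem_normalizer_iff.1 (h hg) x).1 hx)
  exact h1 hx

/-- regularity at level `n` -/
def RegAt (p n : ℕ) (G : Type u) [Group G] : Prop := ∀ a b : G, ∃ c ∈ powerClosure p n ⁅Subgroup.closure ({a, b} : Set G), Subgroup.closure ({a, b} : Set G)⁆,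
      (a * b) ^ (p ^ n) = a ^ (p ^ n) * b ^ (p ^ n) * c

theorem frattini_like [Finite G] (hG : IsPGroup p G) [hp : Fact p.Prime] {x s : G} {K : Subgroup G} (hs : s ∈ ⁅K, K⁆) (h : Subgroup.closure ({x, s} : Set G) = K) : K = Subgroup.zpowers x := by
  have hx : x ∈ K := by rw [← h]; exact Subgroup.subset_closure (by simp)
  haveI : Group.IsNilpotent K := (hG.to_subgroup K).isNilpotent
  have h1 : (Subgroup.zpowers x).subgroupOf K ⊔ commutator K = ⊤ := by
    apply Subgroup.map_injective K.subtype_injective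
    rw [Subgroup.map_sup, Subgroup.subgroupOf_map_subtype, inf_eq_left.2 (Subgroup.zpowers_le.2 hx), commutator_def, Subgroup.map_commutator,
      ← MonoidHom.range_eq_map, Subgroup.range_subtype]
    apply le_antisymm (sup_le (Subgroup.zpowers_le.2 hx) (comm_le_self K))
    conv_lhs => rw [← h]
    rw [Subgroup.closure_le]
    rintro y (rfl | rfl)
    · exact Subgroup.mem_sup_left (Subgroup.mem_zpowers _)
    · exact Subgroup.mem_sup_right hs
  have h2 := eq_top_of_sup_frattini (commutator_le_frattini (G := K)) h1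
  rw [Subgroup.subgroupOf_eq_top] at h2
  exact le_antisymm h2 (Subgroup.zpowers_le.2 hx)

theorem commutator_lt [Finite G] (hG : IsPGroup p G) [hp : Fact p.Prime] {K : Subgroup G} (hK : K ≠ ⊥) : ⁅K, K⁆ < K := by
  haveI : Group.IsNilpotent K := (hG.to_subgroup K).isNilpotent
  haveI : Nontrivial K := (Subgroup.nontrivial_iff_ne_bot K).2 hK
  refine lt_of_le_of_ne (comm_le_self K) ?_
  intro h
  have h1 : commutator K = ⊤ := by
    apply Subgroup.map_injective K.subtype_injective
    rw [_root_.commutator_def, Subgroup.map_commutator, ← MonoidHom.range_eq_map, Subgroup.range_subtype, h]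
  have h2 := commutator_le_frattini (G := K)
  rw [h1, top_le_iff] at h2
  exact frattini_ne_top_of h2

/-- the power structure for one level -/
theorem reg_powers [Finite G] (hG : IsPGroup p G) [hp : Fact p.Prime] {n : ℕ} (hr : RegAt p n G) (m : ℕ) : 
    ∀ H : Subgroup G, Nat.card H = m → ∀ a ∈ H, ∀ b ∈ H, ∃ c ∈ Subgroup.closure ({a, b} : Set G), a ^ p ^ n * b ^ p ^ n = c ^ p ^ n := by
  induction m using Nat.strong_induction_on with
  | _ m ih =>
  intro H hH a ha b hb
  set K := Subgroup.closure ({a, b} : Set G) with hK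
  have haK : a ∈ K := Subgroup.subset_closure (by simp)
  have hbK : b ∈ K := Subgroup.subset_closure (by simp)
  have hKH : K ≤ H := by
    rw [hK, Subgroup.closure_le]
    rintro y (rfl | rfl)
    · exact ha
    · exact hb
  by_cases hKb : K = ⊥
  · have h1 : a = 1 := by rw [hKb] at haK; exact haK
    have h2 : b = 1 := by rw [hKb] at hbK; exact hbK
    refine ⟨1, one_mem _, ?_⟩
    rw [h1, h2]; simp
  have hlt := commutator_lt hG hKb
  have hcardlt : Nat.card (⁅K, K⁆ : Subgroup G) < m := by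
    rw [← hH]
    refine lt_of_lt_of_le ?_ (Subgroup.card_le_of_le hKH)
    refine lt_of_le_of_ne (Subgroup.card_le_of_le hlt.le) ?_
    intro h
    exact hlt.ne (Subgroup.eq_of_le_of_card_ge hlt.le h.ge)
  -- powerClosure of K' consists of powers
  have hset : ∀ c ∈ powerClosure p n ⁅K, K⁆, ∃ s ∈ ⁅K, K⁆, c = s ^ p ^ n := by
    intro c hc
    unfold powerClosure at hc
    induction hc using Subgroup.closure_induction with
    | mem x hx => obtain ⟨s, hs, rfl⟩ := hx; exact ⟨s, hs, rfl⟩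
    | one => exact ⟨1, one_mem _, by simp⟩
    | mul x y _ _ hx hy => 
      obtain ⟨s, hs, rfl⟩ := hx
      obtain ⟨t, ht, rfl⟩ := hy
      obtain ⟨c, hc, e⟩ := ih _ hcardlt ⁅K, K⁆ rfl s hs t ht
      refine ⟨c, ?_, e⟩
      have : Subgroup.closure ({s, t} : Set G) ≤ ⁅K, K⁆ := by
        rw [Subgroup.closure_le]
        rintro y (rfl | rfl)
        · exact hs
        · exact ht
      exact this hc
    | inv x _ hx => 
      obtain ⟨s, hs, rfl⟩ := hx
      exact ⟨s⁻¹, inv_mem hs, by rw [inv_pow]⟩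
  obtain ⟨c, hc, e⟩ := hr a b
  obtain ⟨s, hs, rfl⟩ := hset c hc
  have e1 : a ^ p ^ n * b ^ p ^ n = (a * b) ^ p ^ n * (s⁻¹) ^ p ^ n := by rw [e, inv_pow]; group
  set L := Subgroup.closure ({a * b, s⁻¹} : Set G) with hL
  have hLK : L ≤ K := by
    rw [hL, Subgroup.closure_le]
    rintro y (rfl | rfl)
    · exact mul_mem haK hbK
    · exact inv_mem (hlt.le hs)
  by_cases hLe : L = K
  · have h3 := frattini_like hG (x := a * b) (s := s⁻¹) (K := K) (inv_mem hs) hLe
    obtain ⟨i, hi⟩ := Subgroup.mem_zpowers_iff.1 (h3 ▸ haK)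
    obtain ⟨j, hj⟩ := Subgroup.mem_zpowers_iff.1 (h3 ▸ hbK)
    refine ⟨a * b, mul_mem haK hbK, ?_⟩
    have hcom : Commute a b := by
      have h5 := (Commute.refl (a * b)).zpow_zpow i j
      rw [hi, hj] at h5
      exact h5
    rw [hcom.mul_pow]
  · have h4 : Nat.card L < m := by
      rw [← hH]
      refine lt_of_lt_of_le ?_ (Subgroup.card_le_of_le hKH)
      refine lt_of_le_of_ne (Subgroup.card_le_of_le hLK) ?_
      intro h
      exact hLe (Subgroup.eq_of_le_of_card_ge hLK h.ge)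
    obtain ⟨c, hc, e2⟩ := ih _ h4 L rfl (a * b) (Subgroup.subset_closure (by simp)) s⁻¹ (Subgroup.subset_closure (by simp))
    exact ⟨c, hLK hc, by rw [e1, e2]⟩

theorem reg_set [Finite G] (hG : IsPGroup p G) [hp : Fact p.Prime] {n : ℕ} (hr : RegAt p n G) {H : Subgroup G} {c : G} (hc : c ∈ powerClosure p n H) : ∃ s ∈ H, c = s ^ p ^ n := by
  unfold powerClosure at hc
  induction hc using Subgroup.closure_induction with
  | mem x hx => obtain ⟨s, hs, rfl⟩ := hx; exact ⟨s, hs, rfl⟩
  | one => exact ⟨1, one_mem _, by simp⟩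
  | mul x y _ _ hx hy => 
    obtain ⟨s, hs, rfl⟩ := hx
    obtain ⟨t, ht, rfl⟩ := hy
    obtain ⟨c, hc, e⟩ := reg_powers hG hr _ H rfl s hs t ht
    refine ⟨c, ?_, e⟩
    have : Subgroup.closure ({s, t} : Set G) ≤ H := by
      rw [Subgroup.closure_le]
      rintro y (rfl | rfl)
      · exact hs
      · exact ht
    exact this hc
  | inv x _ hx => 
    obtain ⟨s, hs, rfl⟩ := hx
    exact ⟨s⁻¹, inv_mem hs, by rw [inv_pow]⟩

theorem closure_pair_le {a b : G} {H : Subgroup G} (ha : a ∈ H) (hb : b ∈ H) : Subgroup.closure ({a, b} : Set G) ≤ H := by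
  rw [Subgroup.closure_le]
  rintro y (rfl | rfl)
  · exact ha
  · exact hb

theorem reg_commutator [Finite G] (hG : IsPGroup p G) [hp : Fact p.Prime] {n : ℕ} (hr : RegAt p n G) (H : Subgroup G) : 
    ⁅powerClosure p n H, H⁆ ≤ powerClosure p n ⁅H, H⁆ := by
  rw [Subgroup.commutator_le]
  intro x hx g hg
  obtain ⟨s, hs, rfl⟩ := reg_set hG hr hx
  rw [commutatorElement_def]
  -- s^q (g s^-q g⁻¹)
  have e0 : s ^ p ^ n * g * (s ^ p ^ n)⁻¹ * g⁻¹ = s ^ p ^ n * (g * s⁻¹ * g⁻¹) ^ p ^ n := by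
    rw [conj_pow, inv_pow]; group
  rw [e0]
  obtain ⟨c, hc, e⟩ := hr s (g * s⁻¹ * g⁻¹)
  have hgs : g * s⁻¹ * g⁻¹ ∈ H := mul_mem (mul_mem hg (inv_mem hs)) (inv_mem hg)
  have hcl := closure_pair_le hs hgs
  have hc' : c ∈ powerClosure p n ⁅H, H⁆ := powerClosure_mono (Subgroup.commutator_mono hcl hcl) hc
  have h1 : (s * (g * s⁻¹ * g⁻¹)) ^ p ^ n ∈ powerClosure p n ⁅H, H⁆ := by
    apply mem_powerClosure
    have : s * (g * s⁻¹ * g⁻¹) = ⁅s, g⁆ := by rw [commutatorElement_def]; group
    rw [this]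
    exact Subgroup.commutator_mem_commutator hs hg
  rw [e] at h1
  have := mul_mem h1 (inv_mem hc')
  rwa [mul_inv_cancel_right] at this

/-- **S0644** -/
theorem reg_main [Finite G] [hp : Fact p.Prime] (hG : IsRegularPGroup p G) (H : Subgroup G) (n : ℕ) : 
    {y : G | ∃ x ∈ H, y = x ^ (p ^ n)} = (powerClosure p n H : Set G) ∧ ⁅powerClosure p n H, powerClosure p n H⁆ ≤ powerClosure p n ⁅H, H⁆ := by
  have hr : RegAt p n G := fun a b => hG.2 a b n
  constructor
  · ext y
    constructor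
    · rintro ⟨x, hx, rfl⟩; exact mem_powerClosure hx
    · intro hy; exact reg_set hG.1 hr hy
  · exact (Subgroup.commutator_mono le_rfl powerClosure_le).trans (reg_commutator hG.1 hr H)

theorem powerClosure_one_succ [Finite G] (hG : IsPGroup p G) [hp : Fact p.Prime] (hr : RegAt p 1 G) (n : ℕ) (H : Subgroup G) : powerClosure p n (powerClosure p 1 H) ≤ powerClosure p (n + 1) H := by
  conv_lhs => unfold powerClosure
  rw [Subgroup.closure_le]
  rintro _ ⟨x, hx, rfl⟩
  obtain ⟨s, hs, rfl⟩ := reg_set hG hr (show x ∈ powerClosure p 1 H from hx)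
  rw [← pow_mul, ← pow_add, SetLike.mem_coe, add_comm 1 n]
  exact mem_powerClosure hs

theorem regAt_succ [Finite G] (hG : IsPGroup p G) [hp : Fact p.Prime] (hr : RegAt p 1 G) (n : ℕ) (hn : RegAt p n G) : RegAt p (n + 1) G := by
  intro a b
  set K := Subgroup.closure ({a, b} : Set G) with hK
  have haK : a ∈ K := Subgroup.subset_closure (by simp)
  have hbK : b ∈ K := Subgroup.subset_closure (by simp)
  obtain ⟨c, hc, e⟩ := hr a b
  obtain ⟨s, hs, rfl⟩ := reg_set hG hr hc
  rw [pow_one] at e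
  obtain ⟨d1, hd1, e1⟩ := hn (a ^ p * b ^ p) (s ^ p)
  obtain ⟨d2, hd2, e2⟩ := hn (a ^ p) (b ^ p)
  have haP : a ^ p ∈ powerClosure p 1 K := by have := mem_powerClosure (p := p) (n := 1) haK; rwa [pow_one] at this
  have hbP : b ^ p ∈ powerClosure p 1 K := by have := mem_powerClosure (p := p) (n := 1) hbK; rwa [pow_one] at this
  have hsP : s ^ p ∈ powerClosure p 1 K := by have := mem_powerClosure (p := p) (n := 1) (comm_le_self K hs); rwa [pow_one] at this
  have hkey : ∀ x ∈ powerClosure p 1 K, ∀ y ∈ powerClosure p 1 K, powerClosure p n ⁅Subgroup.closure ({x, y} : Set G), Subgroup.closure ({x, y} : Set G)⁆ ≤ powerClosure p (n + 1) ⁅K, K⁆ := by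
    intro x hx y hy
    have h1 := closure_pair_le hx hy
    refine le_trans (powerClosure_mono ?_) (powerClosure_one_succ hG hr n _)
    exact (Subgroup.commutator_mono h1 (h1.trans powerClosure_le)).trans (reg_commutator hG hr K)
  have hd1' := hkey _ (mul_mem haP hbP) _ hsP hd1
  have hd2' := hkey _ haP _ hbP hd2
  refine ⟨d2 * s ^ p ^ (n + 1) * d1, mul_mem (mul_mem hd2' (mem_powerClosure hs)) hd1', ?_⟩
  have e3 : ∀ x : G, x ^ p ^ (n + 1) = (x ^ p) ^ p ^ n := by intro x; rw [← pow_mul, pow_succ, mul_comm]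
  rw [e3 (a * b), e3 a, e3 b, e3 s, e, e1, e2]
  group

theorem isRegular_of_one [Finite G] (hG : IsPGroup p G) [hp : Fact p.Prime] (hr : RegAt p 1 G) : IsRegularPGroup p G := by
  refine ⟨hG, fun a b n => ?_⟩
  have : RegAt p n G := by
    induction n with
    | zero => 
      intro a b
      exact ⟨1, one_mem _, by simp⟩
    | succ n ih => exact regAt_succ hG hr n ih
  exact this a b

/-- **S0643** -/
theorem regular_iff_first [Finite G] (hG : IsPGroup p G) [hp : Fact p.Prime] : IsRegularPGroup p G ↔ ∀ a b : G, ∃ c ∈ ⁅Subgroup.closure ({a, b} : Set G), Subgroup.closure ({a, b} : Set G)⁆, (a * b) ^ p = a ^ p * b ^ p * c ^ p := by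
  constructor
  · intro h a b
    have hr : RegAt p 1 G := fun a b => h.2 a b 1
    obtain ⟨c, hc, e⟩ := hr a b
    obtain ⟨s, hs, rfl⟩ := reg_set hG hr hc
    rw [pow_one] at e
    exact ⟨s, hs, e⟩
  · intro h
    apply isRegular_of_one hG
    intro a b
    obtain ⟨c, hc, e⟩ := h a b
    refine ⟨c ^ p ^ 1, mem_powerClosure hc, ?_⟩
    rw [pow_one]; exact e

theorem isRegular_quotient [hp : Fact p.Prime] (hG : IsRegularPGroup p G) (N : Subgroup G) [N.Normal] : IsRegularPGroup p (G ⧸ N) := by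
  refine ⟨hG.1.of_surjective _ (QuotientGroup.mk'_surjective N), ?_⟩
  intro a b n
  obtain ⟨a, rfl⟩ := QuotientGroup.mk'_surjective N a
  obtain ⟨b, rfl⟩ := QuotientGroup.mk'_surjective N b
  obtain ⟨c, hc, e⟩ := hG.2 a b n
  refine ⟨QuotientGroup.mk' N c, ?_, ?_⟩
  · have h1 : Subgroup.closure ({QuotientGroup.mk' N a, QuotientGroup.mk' N b} : Set (G ⧸ N)) = (Subgroup.closure ({a, b} : Set G)).map (QuotientGroup.mk' N) := by
      rw [MonoidHom.map_closure, Set.image_pair]
    rw [h1, ← Subgroup.map_commutator, ← powerClosure_map]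
    exact ⟨c, hc, rfl⟩
  · rw [← map_mul, ← map_pow, e, map_mul, map_mul, map_pow, map_pow]

theorem powerClosure_le_frattini [Finite G] (hG : IsPGroup p G) [hp : Fact p.Prime] {K : Subgroup G} (hK : K ≠ ⊥) : ¬ K ≤ powerClosure p 1 K := by
  intro h
  haveI : Nontrivial K := (Subgroup.nontrivial_iff_ne_bot K).2 hK
  have h1 : powerClosure p 1 K ≤ (frattini K).map K.subtype := by
    unfold powerClosure
    rw [Subgroup.closure_le]
    rintro _ ⟨x, hx, rfl⟩
    rw [pow_one]
    exact ⟨⟨x, hx⟩ ^ p, pow_mem_frattini (hG.to_subgroup K) _, rfl⟩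
  have h2 := h.trans h1
  have h3 : frattini K = ⊤ := by
    rw [eq_top_iff]
    intro x _
    obtain ⟨y, hy, e⟩ := h2 x.2
    have : y = x := Subtype.ext e
    rwa [← this]
  exact frattini_ne_top_of h3

/-- **S0642** -/
theorem two_regular_iff [Finite G] (hG : IsPGroup 2 G) : IsRegularPGroup 2 G ↔ ∀ a b : G, a * b = b * a := by
  haveI : Fact (Nat.Prime 2) := ⟨Nat.prime_two⟩
  constructor
  · intro h a b
    set K := Subgroup.closure ({a, b} : Set G) with hK
    have haK : a ∈ K := Subgroup.subset_closure (by simp)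
    have hbK : b ∈ K := Subgroup.subset_closure (by simp)
    set D := ⁅K, K⁆ with hD
    have hKD : K ≤ normalizer (D : Set G) := le_normalizer_comm K
    have hKP : K ≤ normalizer (powerClosure 2 1 D : Set G) := powerClosure_normalized hKD
    obtain ⟨c, hc, e⟩ := h.2 a b 1
    rw [pow_one] at e
    -- a b = b a modulo the power closure
    have h1 : b⁻¹ * a⁻¹ * b * a ∈ powerClosure 2 1 D := by
      have h2 : b * c * b⁻¹ ∈ powerClosure 2 1 D := (Subgroup.mem_normalizer_iff.1 (hKP hbK) c).1 hc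
      have h3 : b * c * b⁻¹ = b⁻¹ * a⁻¹ * b * a := by
        have e' : c = (b ^ 2)⁻¹ * (a ^ 2)⁻¹ * (a * b) ^ 2 := by rw [e]; group
        rw [e', pow_two, pow_two, pow_two]; group
      rwa [← h3]
    have hcc : ⁅a, b⁆ ∈ powerClosure 2 1 D := by
      have h2 : (b * a) * (b⁻¹ * a⁻¹ * b * a)⁻¹ * (b * a)⁻¹ ∈ powerClosure 2 1 D := (Subgroup.mem_normalizer_iff.1 (hKP (mul_mem hbK haK)) _).1 (inv_mem h1)
      have e2 : (b * a) * (b⁻¹ * a⁻¹ * b * a)⁻¹ * (b * a)⁻¹ = ⁅a, b⁆⁻¹⁻¹ := by
        simp only [commutatorElement_def]; group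
      rw [e2, inv_inv] at h2
      exact h2
    have h4 : D ≤ powerClosure 2 1 D := by
      apply commutator_le_of_gens hKP
      rintro s (rfl | rfl) t (rfl | rfl)
      · rw [commutatorElement_self]; exact one_mem _
      · exact hcc
      · rw [← commutatorElement_inv]; exact inv_mem hcc
      · rw [commutatorElement_self]; exact one_mem _
    by_contra hab
    have hDne : D ≠ ⊥ := by
      intro hbot
      have h5 : ⁅a, b⁆ ∈ D := Subgroup.commutator_mem_commutator haK hbK
      rw [hbot, Subgroup.mem_bot, commutatorElement_eq_one_iff_mul_comm] at h5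
      exact hab h5
    exact powerClosure_le_frattini hG hDne h4
  · intro h
    refine ⟨hG, fun a b n => ⟨1, one_mem _, ?_⟩⟩
    have : Commute a b := h a b
    rw [this.mul_pow, mul_one]

end CfsgH1
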