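import Cfsg.Agent.H1.Meta
import Cfsg.Agent.H1.Regular
import Cfsg.Agent.H1.PUnique
import Cfsg.Agent.H1.PGrp2

set_option autoImplicit false

open Cfsg Subgroup
open scoped Pointwise commutatorElement

namespace CfsgH1

universe u v

variable {G : Type u} [Group G] {p : ℕ}

theorem mem_zpowers_nat [Finite G] {a x : G} (h : x ∈ zpowers a) : ∃ n : ℕ, a ^ n = x := mem_powers_iff_mem_zpowers.2 h

/-- action of a `p`-group on a cyclic normal subgroup -/
theorem exists_exp [Finite G] [hp : Fact p.Prime] (hG : IsPGroup p G) {N : Subgroup G} [hN : N.Normal] (hc : IsCyclic N) (h : G) : 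
    ∃ s : ℕ, s ≡ 1 [MOD p] ∧ ∀ c ∈ N, h * c * h⁻¹ = c ^ s := by
  obtain ⟨a, ha⟩ := (Subgroup.isCyclic_iff_exists_zpowers_eq_top N).1 hc
  have haN : a ∈ N := by rw [← ha]; exact mem_zpowers a
  have h1 : h * a * h⁻¹ ∈ zpowers a := by rw [ha]; exact hN.conj_mem a haN h
  obtain ⟨s, hs⟩ := mem_zpowers_nat h1
  have hall : ∀ c ∈ N, h * c * h⁻¹ = c ^ s := by
    intro c hc
    rw [← ha] at hc
    obtain ⟨i, rfl⟩ := mem_zpowers_nat hc
    rw [← conj_pow, ← hs, ← pow_mul, ← pow_mul, mul_comm]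
  obtain ⟨n, hn⟩ := IsPGroup.iff_orderOf.1 hG a
  rcases Nat.eq_zero_or_pos n with h0 | h0
  · refine ⟨1, rfl, ?_⟩
    intro c hc
    rw [h0, pow_zero, orderOf_eq_one_iff] at hn
    rw [← ha, hn, mem_zpowers_iff] at hc
    obtain ⟨k, rfl⟩ := hc
    simp
  · refine ⟨s, ?_, hall⟩
    obtain ⟨k, hk⟩ := hG h
    have h2 := conj_pow_iter hs.symm (p ^ k)
    rw [hk] at h2
    simp only [one_mul, inv_one, mul_one] at h2
    have h3 : a ^ 1 = a ^ (s ^ p ^ k) := by rw [pow_one]; exact h2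
    rw [pow_eq_pow_iff_modEq, hn] at h3
    have h4 : 1 ≡ s ^ p ^ k [MOD p] := h3.of_dvd (dvd_pow_self p h0.ne')
    rw [← ZMod.natCast_eq_natCast_iff] at h4 ⊢
    push_cast at h4
    rw [ZMod.pow_card_pow] at h4
    rw [← h4]; simp

theorem comm_pow_sum {x y : G} {s : ℕ} (hs : x * ⁅x, y⁆ * x⁻¹ = ⁅x, y⁆ ^ s) (j : ℕ) : ⁅x ^ j, y⁆ = ⁅x, y⁆ ^ (∑ i ∈ Finset.range j, s ^ i) := by
  induction j with
  | zero => simp
  | succ j ih =>
    have e : ⁅x ^ (j + 1), y⁆ = (x * ⁅x ^ j, y⁆ * x⁻¹) * ⁅x, y⁆ := by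
      rw [pow_succ']
      simp only [commutatorElement_def]
      group
    rw [e, ih, ← conj_pow, hs, geom_sum_succ, ← pow_mul, pow_succ]

/-- commutators with `p^k`-th powers -/
theorem comm_pow [Finite G] [hp : Fact p.Prime] (hp2 : p ≠ 2) (hG : IsPGroup p G) {N : Subgroup G} [hN : N.Normal] (hc : IsCyclic N) {x y : G} (hxy : ⁅x, y⁆ ∈ N) (k : ℕ) :
    ∃ u : ℕ, ¬ p ∣ u ∧ ⁅x ^ p ^ k, y⁆ = (⁅x, y⁆ ^ p ^ k) ^ u := by
  have step : ∀ z : G, ⁅z, y⁆ ∈ N → ∃ u : ℕ, ¬ p ∣ u ∧ ⁅z ^ p, y⁆ = (⁅z, y⁆ ^ p) ^ u := by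
    intro z hz
    obtain ⟨s, hs, hs2⟩ := exists_exp hG hc z
    obtain ⟨u, hu, hu2⟩ := geom_sum_odd hp.out hp2 hs
    exact ⟨u, hu, by rw [comm_pow_sum (hs2 _ hz), hu2, pow_mul]⟩
  induction k with
  | zero => exact ⟨1, by intro h; exact hp.out.one_lt.ne' (Nat.dvd_one.1 h), by simp⟩
  | succ k ih =>
    obtain ⟨u, hu, e⟩ := ih
    obtain ⟨v, hv, e2⟩ := step (x ^ p ^ k) (by rw [e]; exact N.pow_mem (N.pow_mem hxy _) _)
    refine ⟨u * v, fun hd => ?_, ?_⟩
    · rcases (Nat.Prime.dvd_mul hp.out).1 hd with h | h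
      · exact hu h
      · exact hv h
    · rw [pow_succ, pow_mul, e2, e, ← pow_mul, ← pow_mul, ← pow_mul, ← pow_mul]
      congr 1
      ring

theorem pow_unit_eq_one_iff [Finite G] [hp : Fact p.Prime] (hG : IsPGroup p G) {c : G} {u : ℕ} (hu : ¬ p ∣ u) : c ^ u = 1 ↔ c = 1 := by
  constructor
  · intro h
    obtain ⟨k, hk⟩ := IsPGroup.iff_orderOf.1 hG c
    have h1 := orderOf_dvd_of_pow_eq_one h
    rw [hk] at h1
    have h2 : Nat.Coprime (p ^ k) u := Nat.Coprime.pow_left k ((Nat.Prime.coprime_iff_not_dvd hp.out).2 hu)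
    have h3 := Nat.Coprime.eq_one_of_dvd h2 h1
    rw [h3] at hk
    exact orderOf_eq_one_iff.1 hk
  · rintro rfl; exact one_pow u

theorem comm_pow_eq_one_iff [Finite G] [hp : Fact p.Prime] (hp2 : p ≠ 2) (hG : IsPGroup p G) {N : Subgroup G} [hN : N.Normal] (hc : IsCyclic N) (hGN : ∀ x y : G, ⁅x, y⁆ ∈ N) (x y : G) (k l : ℕ) :
    ⁅x ^ p ^ k, y ^ p ^ l⁆ = 1 ↔ ⁅x, y⁆ ^ p ^ (k + l) = 1 := by
  obtain ⟨u, hu, e⟩ := comm_pow hp2 hG hc (hGN x (y ^ p ^ l)) k
  obtain ⟨v, hv, e2⟩ := comm_pow hp2 hG hc (hGN y x) l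
  rw [e, pow_unit_eq_one_iff hG hu, ← commutatorElement_inv, inv_pow, inv_eq_one, e2, ← pow_mul, mul_comm v, pow_mul, pow_unit_eq_one_iff hG hv, ← commutatorElement_inv, inv_pow, inv_pow, inv_eq_one, ← pow_mul, ← pow_add, add_comm]

/-- class sizes are bounded by a subgroup containing the commutators -/
theorem index_centralizer_le_card [Finite G] {g : G} {K : Subgroup G} (h : ∀ x : G, ⁅x, g⁆ ∈ K) : (centralizer ({g} : Set G)).index ≤ Nat.card K := by
  rw [Subgroup.index]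
  apply Nat.card_le_card_of_injective (fun q : G ⧸ centralizer ({g} : Set G) => Quotient.liftOn' q (fun x => (⟨⁅x, g⁆, h x⟩ : K)) (by
    intro x y hxy
    replace hxy := QuotientGroup.leftRel_apply.1 hxy
    rw [mem_centralizer_singleton_iff] at hxy
    apply Subtype.ext
    change ⁅x, g⁆ = ⁅y, g⁆
    simp only [commutatorElement_def]
    have : y * g * y⁻¹ = x * g * x⁻¹ := by
      have h1 : x⁻¹ * y * g * y⁻¹ = g * x⁻¹ := by rw [hxy]; group
      calc y * g * y⁻¹ = x * (x⁻¹ * y * g * y⁻¹) := by group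
        _ = _ := by rw [h1]; group
    rw [this]))
  intro q r
  induction q using Quotient.inductionOn' with | _ x =>
  induction r using Quotient.inductionOn' with | _ y =>
  intro hxy
  have h1 : ⁅x, g⁆ = ⁅y, g⁆ := congrArg Subtype.val hxy
  apply Quotient.sound'
  apply QuotientGroup.leftRel_apply.2
  rw [mem_centralizer_singleton_iff]
  simp only [commutatorElement_def] at h1
  have h2 : x * g * x⁻¹ = y * g * y⁻¹ := by
    have := congrArg (· * g) h1
    simpa [mul_assoc] using this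
  calc x⁻¹ * y * g = x⁻¹ * (y * g * y⁻¹) * y := by group
    _ = x⁻¹ * (x * g * x⁻¹) * y := by rw [h2]
    _ = _ := by group

/-- basic data of a metacyclic group -/
theorem mc_data [Finite G] (hm : IsMetacyclic G) : ∃ (N : Subgroup G) (_ : N.Normal), IsCyclic N ∧ (∀ x y : G, ⁅x, y⁆ ∈ N) ∧ 
    ∃ a b : G, zpowers a = N ∧ ∀ g : G, ∃ n ∈ N, ∃ j : ℕ, g = n * b ^ j := by
  obtain ⟨N, hN, hNc, hQ⟩ := hm
  refine ⟨N, hN, hNc, ?_, ?_⟩
  · intro x y
    letI : CommGroup (G ⧸ N) := IsCyclic.commGroup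
    have h1 : (QuotientGroup.mk' N) ⁅x, y⁆ = 1 := by
      rw [map_commutatorElement, commutatorElement_eq_one_iff_mul_comm, mul_comm]
    exact (QuotientGroup.eq_one_iff _).1 h1
  · obtain ⟨a, ha⟩ := (Subgroup.isCyclic_iff_exists_zpowers_eq_top N).1 hNc
    obtain ⟨b', hb'⟩ := hQ.exists_generator
    obtain ⟨b, rfl⟩ := QuotientGroup.mk'_surjective N b'
    refine ⟨a, b, ha, fun g => ?_⟩
    obtain ⟨j, hj⟩ := mem_zpowers_nat (hb' (QuotientGroup.mk' N g))
    refine ⟨g * (b ^ j)⁻¹, ?_, j, by group⟩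
    rw [← map_pow] at hj
    have h1 : QuotientGroup.mk' N (g * (b ^ j)⁻¹) = 1 := by rw [map_mul, map_inv, hj, mul_inv_cancel]
    exact (QuotientGroup.eq_one_iff _).1 h1

theorem mc_sub_normal [Finite G] [hp : Fact p.Prime] (hG : IsPGroup p G) {N : Subgroup G} [hN : N.Normal] (hc : IsCyclic N) {K : Subgroup G} (hK : K ≤ N) : K.Normal := by
  refine ⟨fun k hk g => ?_⟩
  obtain ⟨s, -, hs⟩ := exists_exp hG hc g
  rw [hs k (hK hk)]
  exact K.pow_mem hk s

theorem gen_comm [Finite G] [hp : Fact p.Prime] (hG : IsPGroup p G) {N : Subgroup G} [hN : N.Normal] (hc : IsCyclic N) (hGN : ∀ x y : G, ⁅x, y⁆ ∈ N) {x y : G} (hxy : Subgroup.closure ({x, y} : Set G) = ⊤) : 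
    ∀ g h : G, ⁅g, h⁆ ∈ zpowers ⁅x, y⁆ := by
  have hn : (zpowers ⁅x, y⁆).Normal := mc_sub_normal hG hc (by rw [zpowers_le]; exact hGN x y)
  have h1 : ⁅Subgroup.closure ({x, y} : Set G), Subgroup.closure ({x, y} : Set G)⁆ ≤ zpowers ⁅x, y⁆ := by
    apply commutator_le_of_gens (le_of_le_of_eq le_top (Subgroup.normalizer_eq_top_iff.2 hn).symm)
    intro s hs t ht
    rcases hs with hs | hs <;> rcases ht with ht | ht <;> rw [hs, ht]
    · rw [commutatorElement_self]; exact one_mem _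
    · exact mem_zpowers _
    · rw [← commutatorElement_inv x y]; exact inv_mem (mem_zpowers _)
    · rw [commutatorElement_self]; exact one_mem _
  intro g h
  rw [hxy] at h1
  exact h1 (Subgroup.commutator_mem_commutator (Subgroup.mem_top g) (Subgroup.mem_top h))

theorem le_relIndex_zpowers [Finite G] [hp : Fact p.Prime] (hG : IsPGroup p G) {C : Subgroup G} {y : G} {m : ℕ} (h : ∀ k < m, y ^ p ^ k ∉ C) : p ^ m ≤ C.relIndex (zpowers y) := by
  have h1 : C.relIndex (zpowers y) ∣ Nat.card (zpowers y) := relIndex_dvd_card _ _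
  obtain ⟨k, hk⟩ := IsPGroup.iff_card.1 (hG.to_subgroup (zpowers y))
  rw [hk] at h1
  obtain ⟨j, -, hj⟩ := (Nat.dvd_prime_pow hp.out).1 h1
  rw [hj]
  apply Nat.pow_le_pow_right hp.out.pos
  by_contra hlt
  apply h j (not_le.1 hlt)
  letI : CommGroup (zpowers y) := IsCyclic.commGroup
  have h2 := Subgroup.pow_index_mem (C.subgroupOf (zpowers y)) (⟨y, mem_zpowers y⟩ : zpowers y)
  rw [← Subgroup.relIndex, hj] at h2
  exact h2

/-- class sizes of powers of generators -/
theorem mc_index [Finite G] [hp : Fact p.Prime] (hp2 : p ≠ 2) (hG : IsPGroup p G) {N : Subgroup G} [hN : N.Normal] (hc : IsCyclic N) (hGN : ∀ x y : G, ⁅x, y⁆ ∈ N) {x y : G} (hxy : Subgroup.closure ({x, y} : Set G) = ⊤) (s : ℕ) : 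
    (centralizer ({x ^ p ^ s} : Set G)).index = orderOf (⁅x, y⁆ ^ p ^ s) ∧ (centralizer ({x ^ p ^ s} : Set G)).relIndex (zpowers y) = orderOf (⁅x, y⁆ ^ p ^ s) := by
  have hub : (centralizer ({x ^ p ^ s} : Set G)).index ≤ orderOf (⁅x, y⁆ ^ p ^ s) := by
    rw [← Nat.card_zpowers]
    apply index_centralizer_le_card
    intro h
    obtain ⟨u, -, e⟩ := comm_pow hp2 hG hc (hGN x h) s
    rw [← commutatorElement_inv (x ^ p ^ s) h, e]
    apply inv_mem
    apply pow_mem
    obtain ⟨i, hi⟩ := mem_zpowers_nat (gen_comm hG hc hGN hxy x h)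
    rw [← hi, ← pow_mul, mul_comm, pow_mul]
    exact pow_mem (mem_zpowers _) _
  have hle : (centralizer ({x ^ p ^ s} : Set G)).relIndex (zpowers y) ≤ (centralizer ({x ^ p ^ s} : Set G)).index := by
    rw [← relIndex_top_right]
    exact relIndex_le_of_le_right le_top (by rw [relIndex_top_right]; exact index_ne_zero_of_finite)
  obtain ⟨m, hm⟩ := IsPGroup.iff_orderOf.1 hG (⁅x, y⁆ ^ p ^ s)
  have hlb : orderOf (⁅x, y⁆ ^ p ^ s) ≤ (centralizer ({x ^ p ^ s} : Set G)).relIndex (zpowers y) := by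
    rw [hm]
    apply le_relIndex_zpowers hG
    intro k hk hmem
    rw [mem_centralizer_singleton_iff, ← commutatorElement_eq_one_iff_mul_comm, ← commutatorElement_inv, inv_eq_one, comm_pow_eq_one_iff hp2 hG hc hGN, pow_add, pow_mul] at hmem
    have h1 := orderOf_dvd_of_pow_eq_one hmem
    rw [hm] at h1
    exact absurd ((Nat.pow_dvd_pow_iff_le_right hp.out.one_lt).1 h1) (not_le.2 hk)
  exact ⟨le_antisymm hub (hlb.trans hle), le_antisymm (hle.trans hub) hlb⟩

theorem mc_commutator_eq [Finite G] [hp : Fact p.Prime] (hG : IsPGroup p G) {N : Subgroup G} [hN : N.Normal] (hc : IsCyclic N) (hGN : ∀ x y : G, ⁅x, y⁆ ∈ N) {x y : G} (hxy : Subgroup.closure ({x, y} : Set G) = ⊤) : commutator G = zpowers ⁅x, y⁆ := by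
  apply le_antisymm
  · rw [_root_.commutator_def, Subgroup.commutator_le]
    intro g _ h _
    exact gen_comm hG hc hGN hxy g h
  · rw [zpowers_le, _root_.commutator_def]
    exact Subgroup.commutator_mem_commutator (mem_top _) (mem_top _)

theorem mc_closure {N : Subgroup G} {a b : G} (ha : zpowers a = N) (hb : ∀ g : G, ∃ n ∈ N, ∃ j : ℕ, g = n * b ^ j) : Subgroup.closure ({a, b} : Set G) = ⊤ := by
  rw [eq_top_iff]
  intro g _
  obtain ⟨n, hn, j, rfl⟩ := hb g
  rw [← ha] at hn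
  have h1 : a ∈ Subgroup.closure ({a, b} : Set G) := Subgroup.subset_closure (by simp)
  have h2 : b ∈ Subgroup.closure ({a, b} : Set G) := Subgroup.subset_closure (by simp)
  exact mul_mem ((zpowers_le.2 h1) hn) (pow_mem h2 j)

/-- **S3879** -/
theorem mc_center_index [Finite G] [hp : Fact p.Prime] (hp2 : p ≠ 2) (hG : IsPGroup p G) (hm : IsMetacyclic G) : (center G).index = Nat.card (commutator G) ^ 2 := by
  obtain ⟨N, hN, hc, hGN, a, b, ha, hb⟩ := mc_data hm
  have hab := mc_closure ha hb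
  have hba : Subgroup.closure ({b, a} : Set G) = ⊤ := by rw [Set.pair_comm]; exact hab
  have hNab : ∀ x ∈ N, ∀ y ∈ N, x * y = y * x := by
    intro x hx y hy
    rw [← ha] at hx hy
    obtain ⟨i, rfl⟩ := mem_zpowers_nat hx
    obtain ⟨j, rfl⟩ := mem_zpowers_nat hy
    rw [← pow_add, ← pow_add, add_comm]
  have haN : a ∈ N := by rw [← ha]; exact mem_zpowers a
  have hN' : Nat.card (commutator G) = orderOf ⁅a, b⁆ := by
    rw [mc_commutator_eq hG hc hGN hab, Nat.card_zpowers]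
  have h1 := (mc_index hp2 hG hc hGN hab 0).1
  rw [pow_zero, pow_one, pow_one] at h1
  have h2 := (mc_index hp2 hG hc hGN hba 0).2
  rw [pow_zero, pow_one, pow_one, ← commutatorElement_inv, orderOf_inv, ha] at h2
  -- center membership
  have hZ : ∀ g : G, a * g = g * a → b * g = g * b → g ∈ center G := by
    intro g h3 h4
    rw [mem_center_iff]
    intro x
    have h5 : Subgroup.closure ({a, b} : Set G) ≤ centralizer ({g} : Set G) := by
      rw [Subgroup.closure_le]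
      rintro y (rfl | rfl)
      · exact mem_centralizer_singleton_iff.2 h3
      · exact mem_centralizer_singleton_iff.2 h4
    rw [hab] at h5
    exact mem_centralizer_singleton_iff.1 (h5 (mem_top x))
  have hC : centralizer ({a} : Set G) = center G ⊔ N := by
    apply le_antisymm
    · intro g hg
      rw [mem_centralizer_singleton_iff] at hg
      obtain ⟨n, hn, j, rfl⟩ := hb g
      have h3 : b ^ j ∈ center G := by
        apply hZ
        · have h4 : a * n = n * a := hNab a haN n hn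
          apply mul_left_cancel (a := n)
          calc n * (a * b ^ j) = a * (n * b ^ j) := by rw [← mul_assoc, ← mul_assoc, h4]
            _ = n * (b ^ j * a) := by rw [← hg, mul_assoc]
        · rw [← pow_succ', ← pow_succ]
      exact mul_mem (mem_sup_right hn) (mem_sup_left h3)
    · refine sup_le (center_le_centralizer _) ?_
      intro n hn
      rw [mem_centralizer_singleton_iff]
      exact hNab n hn a haN
  have h3 : (center G).relIndex N = orderOf ⁅a, b⁆ := by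
    rw [← h2, ← inf_relIndex_right, ← inf_relIndex_right (centralizer ({b} : Set G))]
    congr 1
    ext g
    simp only [mem_inf]
    constructor
    · rintro ⟨h, h'⟩
      exact ⟨center_le_centralizer _ h, h'⟩
    · rintro ⟨h, h'⟩
      exact ⟨hZ g (hNab a haN g h') (mem_centralizer_singleton_iff.1 h).symm, h'⟩
  rw [← relIndex_mul_index (center_le_centralizer ({a} : Set G)), h1, hC, relIndex_sup_left, h3, hN', sq]

end CfsgH1
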