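import Cfsg.Agent.H1.MC

set_option autoImplicit false

open Cfsg Subgroup
open scoped Pointwise commutatorElement

namespace CfsgH1

universe u v

variable {G : Type u} [Group G] {p : ℕ}

theorem mc_subgroup (hm : IsMetacyclic G) (K : Subgroup G) : IsMetacyclic K := by
  obtain ⟨N, hN, hNc, hQ⟩ := hm
  refine ⟨N.subgroupOf K, inferInstance, ?_, ?_⟩
  · haveI := hNc
    refine isCyclic_of_injective ((Subgroup.subtype K).subgroupComap N : N.comap K.subtype →* N) ?_
    intro x y hxy
    apply Subtype.ext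
    apply Subtype.ext
    exact congrArg (Subtype.val : N → G) hxy
  · haveI := hQ
    refine isCyclic_of_injective (QuotientGroup.lift (N.subgroupOf K) ((QuotientGroup.mk' N).comp K.subtype) ?_) ?_
    · intro x hx
      exact (QuotientGroup.eq_one_iff _).2 (mem_subgroupOf.1 hx)
    · rw [injective_iff_map_eq_one]
      intro x hx
      obtain ⟨x, rfl⟩ := QuotientGroup.mk'_surjective _ x
      exact (QuotientGroup.eq_one_iff _).2 (mem_subgroupOf.2 ((QuotientGroup.eq_one_iff (x : G)).1 hx))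

theorem mem_zpowers_pow_unit [Finite G] [hp : Fact p.Prime] (hG : IsPGroup p G) {K : Subgroup G} {d : G} {u : ℕ} (hu : ¬ p ∣ u) (h : d ^ u ∈ K) : d ∈ K := by
  obtain ⟨k, hk⟩ := IsPGroup.iff_orderOf.1 hG d
  have h2 : Nat.Coprime u (p ^ k) := (Nat.Coprime.pow_left k ((Nat.Prime.coprime_iff_not_dvd hp.out).2 hu)).symm
  have h1 : d = (d ^ u) ^ (Nat.gcdA u (p ^ k)) * (d ^ p ^ k) ^ (Nat.gcdB u (p ^ k)) := by
    rw [← zpow_natCast, ← zpow_natCast, ← zpow_mul, ← zpow_mul, ← zpow_add, ← Nat.gcd_eq_gcd_ab, h2.gcd_eq_one]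
    simp
  rw [← hk, pow_orderOf_eq_one, one_zpow, mul_one] at h1
  rw [h1]
  exact K.zpow_mem h _

/-- a maximal subgroup and a generating pair -/
theorem mc_pair [Finite G] [hp : Fact p.Prime] (hG : IsPGroup p G) {a b : G} (hab : Subgroup.closure ({a, b} : Set G) = ⊤) {M : Subgroup G} (hM : M.index = p) : 
    ∃ x y : G, x ∈ M ∧ y ∉ M ∧ Subgroup.closure ({x, y} : Set G) = ⊤ := by
  haveI : M.Normal := normal_of_index_prime_pgroup hG hM
  have hcard : Nat.card (G ⧸ M) = p := hM
  have hgen : ∀ y ∉ M, ∀ g : G, ∃ j : ℕ, g * (y ^ j)⁻¹ ∈ M := by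
    intro y hy g
    have h1 : QuotientGroup.mk' M y ≠ 1 := fun h => hy ((QuotientGroup.eq_one_iff y).1 h)
    have h2 := zpowers_eq_top_of_prime_card hcard h1
    have h3 : QuotientGroup.mk' M g ∈ zpowers (QuotientGroup.mk' M y) := by rw [h2]; exact mem_top _
    obtain ⟨j, hj⟩ := mem_zpowers_nat h3
    refine ⟨j, ?_⟩
    rw [← map_pow] at hj
    have h1 : QuotientGroup.mk' M (g * (y ^ j)⁻¹) = 1 := by rw [map_mul, map_inv, hj, mul_inv_cancel]
    exact (QuotientGroup.eq_one_iff _).1 h1
  by_cases hb : b ∈ M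
  · refine ⟨b, a, hb, fun ha => ?_, by rw [Set.pair_comm]; exact hab⟩
    have h1 : Subgroup.closure ({a, b} : Set G) ≤ M := closure_pair_le ha hb
    rw [hab, top_le_iff] at h1
    rw [h1, index_top] at hM
    exact hp.out.one_lt.ne hM
  · obtain ⟨j, hj⟩ := hgen b hb a
    refine ⟨a * (b ^ j)⁻¹, b, hj, hb, ?_⟩
    rw [eq_top_iff, ← hab, Subgroup.closure_le]
    have h1 : a * (b ^ j)⁻¹ ∈ Subgroup.closure ({a * (b ^ j)⁻¹, b} : Set G) := Subgroup.subset_closure (by simp)
    have h2 : b ∈ Subgroup.closure ({a * (b ^ j)⁻¹, b} : Set G) := Subgroup.subset_closure (by simp)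
    have h3 : a ∈ Subgroup.closure ({a * (b ^ j)⁻¹, b} : Set G) := by
      have := mul_mem h1 (pow_mem h2 j)
      rwa [inv_mul_cancel_right] at this
    rintro z hz
    rcases hz with hz | hz <;> rw [hz]
    · exact h3
    · exact h2

theorem mc_max_aux [Finite G] [hp : Fact p.Prime] (hp2 : p ≠ 2) (hG : IsPGroup p G) {N : Subgroup G} [hN : N.Normal] (hc : IsCyclic N) (hGN : ∀ x y : G, ⁅x, y⁆ ∈ N) {x y : G} (hxy : Subgroup.closure ({x, y} : Set G) = ⊤) 
    {M : Subgroup G} (hM : M.index = p) (hx : x ∈ M) (hy : y ∉ M) : ⁅M, M⁆ = zpowers (⁅x, y⁆ ^ p) := by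
  haveI hMn : M.Normal := normal_of_index_prime_pgroup hG hM
  have hcM : ⁅x, y⁆ ∈ M := by
    rw [commutatorElement_def, mul_assoc, mul_assoc]
    exact mul_mem hx (by rw [← mul_assoc]; exact hMn.conj_mem _ (inv_mem hx) y)
  have hypM : y ^ p ∈ M := by rw [← hM]; exact Subgroup.pow_index_mem M y
  obtain ⟨u, hu, eu⟩ := comm_pow hp2 hG hc (hGN y x) 1
  rw [pow_one] at eu
  have hR : Subgroup.closure ({x, y ^ p, ⁅x, y⁆} : Set G) = M := by
    apply le_antisymm
    · rw [Subgroup.closure_le]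
      intro z hz
      simp only [Set.mem_insert_iff, Set.mem_singleton_iff] at hz
      rcases hz with hz | hz | hz <;> rw [hz]
      · exact hx
      · exact hypM
      · exact hcM
    · set R := Subgroup.closure ({x, y ^ p, ⁅x, y⁆} : Set G) with hR
      have hxR : x ∈ R := Subgroup.subset_closure (by simp)
      have hyR : y ^ p ∈ R := Subgroup.subset_closure (by simp)
      have hcR : ⁅x, y⁆ ∈ R := Subgroup.subset_closure (by simp)
      have hRM : R ≤ M := by
        rw [hR, Subgroup.closure_le]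
        intro z hz
        simp only [Set.mem_insert_iff, Set.mem_singleton_iff] at hz
        rcases hz with hz | hz | hz <;> rw [hz]
        · exact hx
        · exact hypM
        · exact hcM
      haveI hRn : R.Normal := by
        refine ⟨fun r hr g => ?_⟩
        have h1 : ⁅g, r⁆ ∈ R := (zpowers_le.2 hcR) (gen_comm hG hc hGN hxy g r)
        have h2 := mul_mem h1 hr
        rwa [commutatorElement_def, inv_mul_cancel_right] at h2
      intro m hm
      have h1 : m ∈ R ⊔ zpowers y := by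
        have h2 : (⊤ : Subgroup G) ≤ R ⊔ zpowers y := by
          rw [← hxy]
          exact closure_pair_le (mem_sup_left hxR) (mem_sup_right (mem_zpowers y))
        exact h2 (Subgroup.mem_top m)
      rw [sup_comm, ← SetLike.mem_coe, Subgroup.mul_normal] at h1
      obtain ⟨z, hz, r, hr, rfl⟩ := h1
      obtain ⟨j, rfl⟩ := mem_zpowers_nat hz
      have h3 : y ^ j ∈ M := by
        have := mul_mem hm (inv_mem (hRM hr))
        rwa [mul_inv_cancel_right] at this
      have h4 : p ∣ j := by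
        by_contra hj
        exact hy (mem_zpowers_pow_unit hG hj h3)
      obtain ⟨i, rfl⟩ := h4
      rw [pow_mul]
      exact mul_mem (pow_mem hyR i) hr
  have hDn : (zpowers (⁅x, y⁆ ^ p)).Normal := mc_sub_normal hG hc (by rw [zpowers_le]; exact pow_mem (hGN x y) p)
  have h0 : ⁅y ^ p, x⁆ ∈ zpowers (⁅x, y⁆ ^ p) := by
    rw [eu]
    apply pow_mem
    rw [← commutatorElement_inv x y, inv_pow]
    exact inv_mem (mem_zpowers _)
  have h1 : ∀ g : G, ⁅g, ⁅x, y⁆⁆ ∈ zpowers (⁅x, y⁆ ^ p) := by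
    intro g
    obtain ⟨s, hs, hs2⟩ := exists_exp hG hc g
    have e : ⁅g, ⁅x, y⁆⁆ = ⁅x, y⁆ ^ ((s : ℤ) - 1) := by
      rw [commutatorElement_def g, hs2 _ (hGN x y), zpow_sub, zpow_natCast, zpow_one]
    rw [e]
    obtain ⟨t, ht⟩ := (Nat.modEq_iff_dvd.1 hs.symm)
    push_cast at ht
    rw [ht, zpow_mul, zpow_natCast]
    exact zpow_mem (mem_zpowers _) t
  apply le_antisymm
  · rw [← hR]
    apply commutator_le_of_gens (le_of_le_of_eq le_top (Subgroup.normalizer_eq_top_iff.2 hDn).symm)
    intro s hs t ht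
    simp only [Set.mem_insert_iff, Set.mem_singleton_iff] at hs ht
    rcases hs with hs | hs | hs <;> rcases ht with ht | ht | ht <;> rw [hs, ht]
    · rw [commutatorElement_self]; exact one_mem _
    · rw [← commutatorElement_inv (y ^ p) x]; exact inv_mem h0
    · exact h1 _
    · exact h0
    · rw [commutatorElement_self]; exact one_mem _
    · exact h1 _
    · rw [← commutatorElement_inv x ⁅x, y⁆]; exact inv_mem (h1 _)
    · rw [← commutatorElement_inv (y ^ p) ⁅x, y⁆]; exact inv_mem (h1 _)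
    · rw [commutatorElement_self]; exact one_mem _
  · rw [zpowers_le]
    have h2 : ⁅y ^ p, x⁆ ∈ ⁅M, M⁆ := Subgroup.commutator_mem_commutator hypM hx
    rw [eu] at h2
    have h3 := mem_zpowers_pow_unit hG hu h2
    rw [← commutatorElement_inv x y, inv_pow] at h3
    exact (inv_mem_iff.1 h3)

theorem mc_max [Finite G] [hp : Fact p.Prime] (hp2 : p ≠ 2) (hG : IsPGroup p G) (hm : IsMetacyclic G) (hne : commutator G ≠ ⊥) {M : Subgroup G} (hM : M.index = p) : Nat.card (⁅M, M⁆ : Subgroup G) * p = Nat.card (commutator G) := by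
  obtain ⟨N, hN, hc, hGN, a, b, ha, hb⟩ := mc_data hm
  obtain ⟨x, y, hx, hy, hxy⟩ := mc_pair hG (mc_closure ha hb) hM
  rw [mc_commutator_eq hG hc hGN hxy] at hne ⊢
  rw [mc_max_aux hp2 hG hc hGN hxy hM hx hy, Nat.card_zpowers, Nat.card_zpowers]
  have h1 : p ∣ orderOf ⁅x, y⁆ := by
    obtain ⟨k, hk⟩ := IsPGroup.iff_orderOf.1 hG ⁅x, y⁆
    rw [hk]
    apply dvd_pow_self
    rintro rfl
    rw [pow_zero, orderOf_eq_one_iff] at hk
    exact hne (by rw [hk, zpowers_one_eq_bot])
  rw [orderOf_pow_of_dvd hp.out.ne_zero h1, Nat.div_mul_cancel h1]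

theorem card_comm_subgroupOf {L K : Subgroup G} (hLK : L ≤ K) : Nat.card (⁅L.subgroupOf K, L.subgroupOf K⁆ : Subgroup K) = Nat.card (⁅L, L⁆ : Subgroup G) := by
  rw [← Subgroup.card_map_of_injective (Subgroup.subtype_injective K), Subgroup.map_commutator, Subgroup.map_subgroupOf_eq_of_le hLK]

theorem card_comm_type {K : Subgroup G} : Nat.card (commutator K) = Nat.card (⁅K, K⁆ : Subgroup G) := by
  rw [← Subgroup.card_map_of_injective (Subgroup.subtype_injective K), Subgroup.map_subtype_commutator]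

theorem mc_all [Finite G] [hp : Fact p.Prime] (hp2 : p ≠ 2) (hG : IsPGroup p G) (hm : IsMetacyclic G) (n : ℕ) : ∀ L : Subgroup G, L.index = n → 
    (⁅L, L⁆ = ⊥ ∧ Nat.card L * Nat.card (commutator G) ≤ Nat.card G) ∨ (⁅L, L⁆ ≠ ⊥ ∧ Nat.card L * Nat.card (commutator G) = Nat.card G * Nat.card (⁅L, L⁆ : Subgroup G)) := by
  induction n using Nat.strong_induction_on with
  | _ n ih =>
  intro L hL
  by_cases hLt : L = ⊤
  · have h1 : Nat.card L * Nat.card (commutator G) = Nat.card G * Nat.card (⁅L, L⁆ : Subgroup G) := by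
      rw [hLt, _root_.commutator_def, Subgroup.card_top]
    by_cases hb : ⁅L, L⁆ = ⊥
    · left
      refine ⟨hb, ?_⟩
      rw [h1, hb, Subgroup.card_bot, mul_one]
    · exact Or.inr ⟨hb, h1⟩
  · obtain ⟨i, hi⟩ := IsPGroup.iff_card.1 (hG.to_subgroup L)
    obtain ⟨m, hm'⟩ := IsPGroup.iff_card.1 hG
    have him : i < m := by
      by_contra hge
      have h1 : Nat.card G ≤ Nat.card L := by rw [hi, hm']; exact Nat.pow_le_pow_right hp.out.pos (not_lt.1 hge)
      exact hLt ((Subgroup.card_eq_iff_eq_top L).1 (le_antisymm (Nat.le_of_dvd Nat.card_pos L.card_subgroup_dvd_card) h1))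
    obtain ⟨K, hKc, hLK⟩ := Sylow.exists_subgroup_card_pow_succ (G := G) (p := p) (n := i) (by rw [hm']; exact pow_dvd_pow p him) hi
    have hKL : Nat.card K = p * Nat.card L := by rw [hKc, hi, pow_succ, mul_comm]
    have hidx : (L.subgroupOf K).index = p := by
      have h1 := (L.subgroupOf K).card_mul_index
      rw [Nat.card_congr (Subgroup.subgroupOfEquivOfLe hLK).toEquiv, hKL, mul_comm p] at h1
      exact Nat.eq_of_mul_eq_mul_left Nat.card_pos h1
    have hlt : K.index < n := by
      have h1 := K.card_mul_index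
      have h2 := L.card_mul_index
      rw [hL] at h2
      rw [← h2, hKL] at h1
      have h3 : p * K.index = n := by
        apply Nat.eq_of_mul_eq_mul_left (Nat.card_pos (α := L))
        rw [← h1]; ring
      have h4 : 0 < K.index := Nat.pos_of_ne_zero index_ne_zero_of_finite
      rw [← h3]
      have := hp.out.one_lt
      nlinarith
    rcases ih _ hlt K rfl with ⟨h1, h2⟩ | ⟨h1, h2⟩
    · left
      refine ⟨le_bot_iff.1 (h1 ▸ Subgroup.commutator_mono hLK hLK), ?_⟩
      exact (Nat.mul_le_mul_right _ (Subgroup.card_le_of_le hLK)).trans h2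
    · have h3 : commutator K ≠ ⊥ := by
        intro hb
        apply h1
        rw [← Subgroup.map_subtype_commutator, hb, Subgroup.map_bot]
      have h4 := mc_max hp2 (hG.to_subgroup K) (mc_subgroup hm K) h3 hidx
      rw [card_comm_subgroupOf hLK, card_comm_type] at h4
      have h5 : Nat.card L * Nat.card (commutator G) = Nat.card G * Nat.card (⁅L, L⁆ : Subgroup G) := by
        apply Nat.eq_of_mul_eq_mul_left hp.out.pos
        calc p * (Nat.card L * Nat.card (commutator G)) = Nat.card K * Nat.card (commutator G) := by rw [hKL, mul_assoc]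
          _ = Nat.card G * (Nat.card (⁅L, L⁆ : Subgroup G) * p) := by rw [h2, h4]
          _ = _ := by ring
      by_cases hb : ⁅L, L⁆ = ⊥
      · left
        refine ⟨hb, ?_⟩
        rw [h5, hb, Subgroup.card_bot, mul_one]
      · exact Or.inr ⟨hb, h5⟩

end CfsgH1
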