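import Cfsg.Agent.H1.MC2
import Cfsg.Prelude.Def_BaumannBlocks

set_option autoImplicit false

open Cfsg Subgroup
open scoped Pointwise commutatorElement

namespace CfsgH1

universe u v

variable {G : Type u} [Group G] {p : ℕ}

theorem comm_eq_bot_iff {L : Subgroup G} : ⁅L, L⁆ = ⊥ ↔ IsMulCommutative L := by
  rw [Subgroup.commutator_eq_bot_iff_le_centralizer]
  constructor
  · intro h
    exact ⟨⟨fun x y => Subtype.ext ((mem_centralizer_iff.1 (h y.2) x x.2))⟩⟩
  · intro h x hx
    rw [mem_centralizer_iff]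
    intro y hy
    exact congrArg Subtype.val (h.is_comm.comm (⟨y, hy⟩ : L) ⟨x, hx⟩)

/-- **S3880** first part -/
theorem mc_comm_iff [Finite G] [hp : Fact p.Prime] (hp2 : p ≠ 2) (hG : IsPGroup p G) (hm : IsMetacyclic G) (L : Subgroup G) : IsMulCommutative L ↔ Nat.card L ≤ (commutator G).index := by
  have h0 := (commutator G).card_mul_index
  have hpos : 0 < Nat.card (commutator G) := Nat.card_pos
  rw [← comm_eq_bot_iff]
  rcases mc_all hp2 hG hm _ L rfl with ⟨h1, h2⟩ | ⟨h1, h2⟩
  · refine ⟨fun _ => ?_, fun _ => h1⟩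
    rw [← h0, mul_comm (Nat.card (commutator G))] at h2
    exact Nat.le_of_mul_le_mul_right h2 hpos
  · refine ⟨fun h => absurd h h1, fun h => ?_⟩
    exfalso
    have h3 : 2 ≤ Nat.card (⁅L, L⁆ : Subgroup G) := by
      by_contra hlt
      have h4 : Nat.card (⁅L, L⁆ : Subgroup G) = 1 := by
        have : 0 < Nat.card (⁅L, L⁆ : Subgroup G) := Nat.card_pos
        omega
      exact h1 (Subgroup.card_eq_one.1 h4)
    have h4 : Nat.card L * Nat.card (commutator G) ≤ Nat.card G := by
      rw [← h0, mul_comm (Nat.card (commutator G))]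
      exact Nat.mul_le_mul_right _ h
    rw [h2] at h4
    have : 0 < Nat.card G := Nat.card_pos
    nlinarith

theorem exists_step [Finite G] [hp : Fact p.Prime] (hG : IsPGroup p G) {R S : Subgroup G} (hRS : R < S) : ∃ K : Subgroup G, R ≤ K ∧ K ≤ S ∧ Nat.card K = p * Nat.card R := by
  obtain ⟨i, hi⟩ := IsPGroup.iff_card.1 (hG.to_subgroup R)
  obtain ⟨m, hm'⟩ := IsPGroup.iff_card.1 (hG.to_subgroup S)
  have hlt := card_lt_card_of_lt hRS
  rw [hi, hm'] at hlt
  have him : i < m := (Nat.pow_lt_pow_iff_right hp.out.one_lt).1 hlt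
  obtain ⟨K, hKc, hLK⟩ := Sylow.exists_subgroup_card_pow_succ (G := S) (p := p) (n := i) (H := R.subgroupOf S) (by rw [hm']; exact pow_dvd_pow p him) 
    (by rw [Nat.card_congr (Subgroup.subgroupOfEquivOfLe hRS.le).toEquiv, hi])
  refine ⟨K.map S.subtype, ?_, Subgroup.map_subtype_le K, ?_⟩
  · rw [← Subgroup.map_subgroupOf_eq_of_le hRS.le]
    exact Subgroup.map_mono hLK
  · rw [Subgroup.card_map_of_injective (Subgroup.subtype_injective S), hKc, hi, pow_succ, mul_comm]

/-- **S3880** second part -/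
theorem mc_max_iff [Finite G] [hp : Fact p.Prime] (hp2 : p ≠ 2) (hG : IsPGroup p G) (hm : IsMetacyclic G) (L : Subgroup G) : Maximal (fun K : Subgroup G => IsMulCommutative ↥K) L ↔ Nat.card L = (commutator G).index := by
  constructor
  · rintro ⟨h1, h2⟩
    have h3 := (mc_comm_iff hp2 hG hm L).1 h1
    by_contra hne
    have hlt : Nat.card L < (commutator G).index := lt_of_le_of_ne h3 hne
    have hLt : L < ⊤ := by
      rw [lt_top_iff_ne_top]
      rintro rfl
      rw [Subgroup.card_top] at hlt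
      exact absurd (Nat.le_of_dvd Nat.card_pos (commutator G).index_dvd_card) (not_le.2 hlt)
    obtain ⟨K, hLK, -, hK⟩ := exists_step hG hLt
    have h4 : Nat.card K ≤ (commutator G).index := by
      obtain ⟨i, hi⟩ := IsPGroup.iff_card.1 (hG.to_subgroup L)
      obtain ⟨m, hm'⟩ := hG.exists_card_eq
      have h5 := (commutator G).index_dvd_card
      rw [hm'] at h5
      obtain ⟨j, -, hj⟩ := (Nat.dvd_prime_pow hp.out).1 h5
      rw [hK, hj, hi, ← pow_succ']
      rw [hj, hi] at hlt
      exact Nat.pow_le_pow_right hp.out.pos ((Nat.pow_lt_pow_iff_right hp.out.one_lt).1 hlt)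
    have h5 := h2 ((mc_comm_iff hp2 hG hm K).2 h4) hLK
    have h6 := Subgroup.card_le_of_le h5
    rw [hK] at h6
    have : 0 < Nat.card L := Nat.card_pos
    have := hp.out.one_lt
    nlinarith
  · intro h
    refine ⟨(mc_comm_iff hp2 hG hm L).2 h.le, fun K hK hLK => ?_⟩
    have h1 := (mc_comm_iff hp2 hG hm K).1 hK
    rw [← h] at h1
    exact (Subgroup.eq_of_le_of_card_ge hLK h1).ge

/-- index of centralizers -/
theorem mc_cent_step [Finite G] [hp : Fact p.Prime] (hp2 : p ≠ 2) (hG : IsPGroup p G) (hm : IsMetacyclic G) {R S : Subgroup G} (hRS : R ≤ S) (hS : Nat.card S = p * Nat.card R) : 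
    Nat.card (centralizer (R : Set G)) ≤ p * Nat.card (centralizer (S : Set G)) := by
  obtain ⟨N, hN, hc, hGN, a, b, ha, hb⟩ := mc_data hm
  have hidx : (R.subgroupOf S).index = p := by
    have h1 := (R.subgroupOf S).card_mul_index
    rw [Nat.card_congr (Subgroup.subgroupOfEquivOfLe hRS).toEquiv, hS, mul_comm p] at h1
    exact Nat.eq_of_mul_eq_mul_left Nat.card_pos h1
  have hne : R ≠ S := by
    rintro rfl
    have : 0 < Nat.card R := Nat.card_pos
    have := hp.out.one_lt
    nlinarith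
  obtain ⟨x, hxS, hxR⟩ := SetLike.exists_of_lt (lt_of_le_of_ne hRS hne)
  haveI hn : (R.subgroupOf S).Normal := normal_of_index_prime_pgroup (hG.to_subgroup S) hidx
  have hxp : x ^ p ∈ R := by
    have := Subgroup.pow_index_mem (R.subgroupOf S) (⟨x, hxS⟩ : S)
    rw [hidx] at this
    exact this
  have hSgen : ∀ s ∈ S, ∃ r ∈ R, ∃ j : ℕ, s = r * x ^ j := by
    intro s hs
    have h1 : QuotientGroup.mk' (R.subgroupOf S) (⟨x, hxS⟩ : S) ≠ 1 := fun h => hxR (mem_subgroupOf.1 ((QuotientGroup.eq_one_iff (N := R.subgroupOf S) (⟨x, hxS⟩ : S)).1 h))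
    have hcard : Nat.card (S ⧸ R.subgroupOf S) = p := hidx
    have h2 := zpowers_eq_top_of_prime_card hcard h1
    have h3 : QuotientGroup.mk' (R.subgroupOf S) (⟨s, hs⟩ : S) ∈ zpowers (QuotientGroup.mk' (R.subgroupOf S) (⟨x, hxS⟩ : S)) := by rw [h2]; exact Subgroup.mem_top _
    obtain ⟨j, hj⟩ := mem_zpowers_nat h3
    refine ⟨s * (x ^ j)⁻¹, ?_, j, by group⟩
    rw [← map_pow] at hj
    have h1 : QuotientGroup.mk' (R.subgroupOf S) ((⟨s, hs⟩ : S) * ((⟨x, hxS⟩ : S) ^ j)⁻¹) = 1 := by rw [map_mul, map_inv, hj, mul_inv_cancel]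
    exact mem_subgroupOf.1 ((QuotientGroup.eq_one_iff (N := R.subgroupOf S) ((⟨s, hs⟩ : S) * ((⟨x, hxS⟩ : S) ^ j)⁻¹)).1 h1)
  -- elements of order p in N
  haveI := hc
  obtain ⟨Ω', hΩc, hΩ⟩ := zpowers_card_le_of_cyclic (R := N) (p := p) hp.out.pos
  set Ω := Ω'.map N.subtype with hΩdef
  have hΩcard : Nat.card Ω ≤ p := by rw [hΩdef, Subgroup.card_map_of_injective (Subgroup.subtype_injective N)]; exact hΩc
  have hcen : ∀ t ∈ N, t ^ p = 1 → ∀ h : G, h * t * h⁻¹ = t := by
    intro t ht htp h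
    obtain ⟨s, hs, hs2⟩ := exists_exp hG hc h
    rw [hs2 t ht]
    have h1 : t ^ s = t ^ 1 := by
      rw [pow_eq_pow_iff_modEq]
      exact hs.of_dvd (orderOf_dvd_of_pow_eq_one htp)
    rw [h1, pow_one]
  have hmem : ∀ h ∈ centralizer (R : Set G), ⁅x, h⁆ ^ p = 1 := by
    intro h hh
    have h1 : ⁅x ^ p ^ 1, h ^ p ^ 0⁆ = 1 := by
      rw [pow_one, pow_zero, pow_one, commutatorElement_eq_one_iff_mul_comm]
      exact mem_centralizer_iff.1 hh _ hxp
    rw [comm_pow_eq_one_iff hp2 hG hc hGN] at h1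
    simpa using h1
  let φ : centralizer (R : Set G) →* Ω := 
    { toFun := fun h => ⟨⁅x, (h : G)⁆, ⟨⟨⁅x, (h : G)⁆, hGN _ _⟩, hΩ _ (Subtype.ext (hmem h h.2)), rfl⟩⟩
      map_one' := Subtype.ext (commutatorElement_one_right x)
      map_mul' := by
        intro h k
        apply Subtype.ext
        change ⁅x, (h : G) * k⁆ = ⁅x, (h : G)⁆ * ⁅x, (k : G)⁆
        have e : ⁅x, (h : G) * k⁆ = ⁅x, (h : G)⁆ * ((h : G) * ⁅x, (k : G)⁆ * (h : G)⁻¹) := by simp only [commutatorElement_def]; group
        rw [e, hcen _ (hGN _ _) (hmem k k.2)] }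
  have hker : φ.ker.map (centralizer (R : Set G)).subtype ≤ centralizer (S : Set G) := by
    rintro _ ⟨h, hh, rfl⟩
    rw [mem_centralizer_iff]
    intro s hs
    obtain ⟨r, hr, j, rfl⟩ := hSgen s hs
    have h1 : ⁅x, (h : G)⁆ = 1 := congrArg Subtype.val hh
    rw [commutatorElement_eq_one_iff_mul_comm] at h1
    have h2 : Commute x (h : G) := h1
    have h3 : Commute r (h : G) := mem_centralizer_iff.1 h.2 r hr
    exact (h3.mul_left (h2.pow_left j))
  have h1 := φ.ker.card_mul_index
  rw [Subgroup.index_ker] at h1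
  rw [← h1, mul_comm]
  have h2 : Nat.card φ.ker ≤ Nat.card (centralizer (S : Set G)) := by
    rw [← Subgroup.card_map_of_injective (Subgroup.subtype_injective (centralizer (R : Set G)))]
    exact Subgroup.card_le_of_le hker
  have h3 : Nat.card φ.range ≤ p := (Subgroup.card_le_card_group _).trans hΩcard
  exact Nat.mul_le_mul h3 h2

theorem mc_cent_mono [Finite G] [hp : Fact p.Prime] (hp2 : p ≠ 2) (hG : IsPGroup p G) (hm : IsMetacyclic G) {S : Subgroup G} (n : ℕ) : ∀ R : Subgroup G, R ≤ S → Nat.card S - Nat.card R = n → 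
    Nat.card R * Nat.card (centralizer (R : Set G)) ≤ Nat.card S * Nat.card (centralizer (S : Set G)) := by
  induction n using Nat.strong_induction_on with
  | _ n ih =>
  intro R hRS hn
  by_cases he : R = S
  · rw [he]
  · obtain ⟨K, hRK, hKS, hK⟩ := exists_step hG (lt_of_le_of_ne hRS he)
    have h1 := mc_cent_step hp2 hG hm hRK hK
    have hR : 0 < Nat.card R := Nat.card_pos
    have hlt : Nat.card R < Nat.card K := by
      rw [hK]
      have := hp.out.one_lt
      nlinarith
    have h2 := ih (Nat.card S - Nat.card K) (by have := Subgroup.card_le_of_le hKS; omega) K hKS rfl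
    calc Nat.card R * Nat.card (centralizer (R : Set G)) ≤ Nat.card R * (p * Nat.card (centralizer (K : Set G))) := Nat.mul_le_mul_left _ h1
      _ = Nat.card K * Nat.card (centralizer (K : Set G)) := by rw [hK]; ring
      _ ≤ _ := h2

theorem mc_cent_le [Finite G] [hp : Fact p.Prime] (hp2 : p ≠ 2) (hG : IsPGroup p G) (hm : IsMetacyclic G) (R : Subgroup G) : 
    Nat.card R * Nat.card (centralizer (R : Set G)) ≤ Nat.card G * Nat.card (center G) := by
  have := mc_cent_mono hp2 hG hm (S := ⊤) _ R le_top rfl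
  rwa [Subgroup.card_top, Subgroup.coe_top, Subgroup.centralizer_univ] at this

theorem mc_cent_eq [Finite G] [hp : Fact p.Prime] (hp2 : p ≠ 2) (hG : IsPGroup p G) (hm : IsMetacyclic G) (R : Subgroup G) (hZ : center G ≤ R) : 
    Nat.card R * Nat.card (centralizer (R : Set G)) = Nat.card G * Nat.card (center G) := by
  refine le_antisymm (mc_cent_le hp2 hG hm R) ?_
  have := mc_cent_mono hp2 hG hm (S := R) _ (center G) hZ rfl
  have h2 : centralizer (center G : Set G) = ⊤ := by
    rw [eq_top_iff]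
    intro x _
    rw [mem_centralizer_iff]
    intro z hz
    exact (mem_center_iff.1 hz x).symm
  rw [h2, Subgroup.card_top, mul_comm] at this
  exact this

theorem mc_cent_iff [Finite G] [hp : Fact p.Prime] (hp2 : p ≠ 2) (hG : IsPGroup p G) (hm : IsMetacyclic G) (R : Subgroup G) : 
    Nat.card R * Nat.card (centralizer (R : Set G)) = Nat.card G * Nat.card (center G) ↔ center G ≤ R := by
  refine ⟨fun h => ?_, fun h => mc_cent_eq hp2 hG hm R h⟩
  have h1 := mc_cent_eq hp2 hG hm (R ⊔ center G) le_sup_right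
  have h2 : centralizer ((R ⊔ center G : Subgroup G) : Set G) = centralizer (R : Set G) := by
    apply le_antisymm (centralizer_le (le_sup_left (a := R)))
    intro x hx
    rw [← SetLike.mem_coe, ← Set.singleton_subset_iff]
    have h3 : R ⊔ center G ≤ centralizer ({x} : Set G) := by
      refine sup_le ?_ (center_le_centralizer _)
      intro r hr
      rw [mem_centralizer_singleton_iff]
      exact mem_centralizer_iff.1 hx r hr
    rw [Set.singleton_subset_iff, SetLike.mem_coe, mem_centralizer_iff]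
    intro r hr
    exact mem_centralizer_singleton_iff.1 (h3 hr)
  rw [h2, ← h] at h1
  have h3 : Nat.card (R ⊔ center G : Subgroup G) = Nat.card R := Nat.eq_of_mul_eq_mul_right Nat.card_pos h1
  have h4 := Subgroup.eq_of_le_of_card_ge (le_sup_left : R ≤ R ⊔ center G) h3.le
  rw [h4]; exact le_sup_right

theorem sSup_eq_of {S : Set ℕ} {m : ℕ} (h : m ∈ S) (h' : ∀ k ∈ S, k ≤ m) : sSup S = m := by
  apply le_antisymm
  · exact csSup_le ⟨m, h⟩ h'
  · exact le_csSup ⟨m, h'⟩ h

theorem mc_maxCentralizer [Finite G] [hp : Fact p.Prime] (hp2 : p ≠ 2) (hG : IsPGroup p G) (hm : IsMetacyclic G) : maxCentralizerProduct G = Nat.card G * Nat.card (center G) := by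
  apply sSup_eq_of
  · exact ⟨⊤, by rw [Subgroup.card_top, Subgroup.coe_top, Subgroup.centralizer_univ]⟩
  · rintro k ⟨R, rfl⟩
    exact mc_cent_le hp2 hG hm R

/-- **S3885** -/
theorem mc_bicomm [Finite G] [hp : Fact p.Prime] (hp2 : p ≠ 2) (hG : IsPGroup p G) (hm : IsMetacyclic G) (K : Subgroup G) (hK : IsMulCommutative K) (hZ : center G ≤ K) : 
    K = centralizer (K : Set G) ⊓ centralizer (centralizer (K : Set G) : Set G) := by
  have h1 := mc_cent_eq hp2 hG hm K hZ
  have h2 := mc_cent_eq hp2 hG hm (centralizer (K : Set G)) (center_le_centralizer _)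
  have h3 : K ≤ centralizer (centralizer (K : Set G) : Set G) := by
    rw [Subgroup.le_centralizer_iff]
  have h4 : centralizer (centralizer (K : Set G) : Set G) = K := by
    symm
    apply Subgroup.eq_of_le_of_card_ge h3
    rw [← h1, mul_comm] at h2
    exact (Nat.eq_of_mul_eq_mul_right Nat.card_pos h2).le
  have h5 : K ≤ centralizer (K : Set G) := by
    rw [← Subgroup.commutator_eq_bot_iff_le_centralizer]
    exact comm_eq_bot_iff.2 hK
  rw [h4, inf_eq_right.2 h5]

theorem card_center_of_comm {R : Subgroup G} (h : IsMulCommutative R) : Nat.card (center R) = Nat.card R := by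
  have : center R = ⊤ := by
    rw [eq_top_iff]
    intro x _
    rw [mem_center_iff]
    intro y
    exact h.is_comm.comm y x
  rw [this, Subgroup.card_top]

theorem mc_exists_card [Finite G] [hp : Fact p.Prime] (hG : IsPGroup p G) : ∃ L : Subgroup G, Nat.card L = (commutator G).index := by
  obtain ⟨m, hm'⟩ := hG.exists_card_eq
  have h5 := (commutator G).index_dvd_card
  have h6 := h5
  rw [hm'] at h5
  obtain ⟨j, -, hj⟩ := (Nat.dvd_prime_pow hp.out).1 h5
  rw [hj] at h6 ⊢
  exact Sylow.exists_subgroup_card_pow_prime p h6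

theorem mc_prod [Finite G] [hp : Fact p.Prime] (hp2 : p ≠ 2) (hG : IsPGroup p G) (hm : IsMetacyclic G) (R : Subgroup G) : 
    (¬ IsMulCommutative R ∧ Nat.card R * Nat.card (center R) = (commutator G).index ^ 2) ∨ (IsMulCommutative R ∧ Nat.card R * Nat.card (center R) = Nat.card R ^ 2 ∧ Nat.card R ≤ (commutator G).index) := by
  by_cases hR : IsMulCommutative R
  · right
    exact ⟨hR, by rw [card_center_of_comm hR, sq], (mc_comm_iff hp2 hG hm R).1 hR⟩
  · left
    refine ⟨hR, ?_⟩
    rcases mc_all hp2 hG hm _ R rfl with ⟨h1, h2⟩ | ⟨h1, h2⟩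
    · exact absurd (comm_eq_bot_iff.1 h1) hR
    · have h3 := mc_center_index hp2 (hG.to_subgroup R) (mc_subgroup hm R)
      rw [card_comm_type] at h3
      have h4 := (center R).card_mul_index
      have h0 := (commutator G).card_mul_index
      rw [h3] at h4
      have hpos : 0 < Nat.card (commutator G) := Nat.card_pos
      have hpos2 : 0 < Nat.card (⁅R, R⁆ : Subgroup G) := Nat.card_pos
      have h5 : Nat.card R = (commutator G).index * Nat.card (⁅R, R⁆ : Subgroup G) := by
        apply Nat.eq_of_mul_eq_mul_left hpos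
        calc Nat.card (commutator G) * Nat.card R = Nat.card R * Nat.card (commutator G) := mul_comm _ _
          _ = Nat.card (commutator G) * ((commutator G).index * Nat.card (⁅R, R⁆ : Subgroup G)) := by rw [h2, ← h0]; ring
      apply Nat.eq_of_mul_eq_mul_right (pow_pos hpos2 2)
      calc Nat.card R * Nat.card (center R) * Nat.card (⁅R, R⁆ : Subgroup G) ^ 2 = Nat.card R * (Nat.card (center R) * Nat.card (⁅R, R⁆ : Subgroup G) ^ 2) := by ring
        _ = Nat.card R * Nat.card R := by rw [h4]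
        _ = _ := by rw [h5]; ring

/-- **S3886** -/
theorem mc_central [Finite G] [hp : Fact p.Prime] (hp2 : p ≠ 2) (hG : IsPGroup p G) (hm : IsMetacyclic G) : maxCentralProduct G = (commutator G).index ^ 2 ∧
    ∀ R : Subgroup G, IsCentrallyLarge R ↔ (¬ IsMulCommutative R ∨ Maximal (fun K : Subgroup G => IsMulCommutative K) R) := by
  have h0 : maxCentralProduct G = (commutator G).index ^ 2 := by
    apply sSup_eq_of
    · obtain ⟨L, hL⟩ := mc_exists_card hG
      have h1 := (mc_comm_iff hp2 hG hm L).2 hL.le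
      exact ⟨L, by rw [card_center_of_comm h1, hL, sq]⟩
    · rintro k ⟨R, rfl⟩
      rcases mc_prod hp2 hG hm R with ⟨-, h⟩ | ⟨-, h, h'⟩
      · exact h.le
      · rw [h]; exact Nat.pow_le_pow_left h' 2
  refine ⟨h0, fun R => ?_⟩
  unfold IsCentrallyLarge
  rw [h0, mc_max_iff hp2 hG hm]
  rcases mc_prod hp2 hG hm R with ⟨h1, h⟩ | ⟨h1, h, h'⟩
  · exact ⟨fun _ => Or.inl h1, fun _ => h⟩
  · rw [h]
    constructor
    · intro h2
      right
      exact Nat.pow_left_injective (two_ne_zero) h2
    · rintro (h2 | h2)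
      · exact absurd h1 h2
      · rw [h2]

/-- **S3887** -/
theorem mc_centlarge [Finite G] [hp : Fact p.Prime] (hp2 : p ≠ 2) (hG : IsPGroup p G) (hm : IsMetacyclic G) (R : Subgroup G) : IsCentralizerLarge R ↔ center G ≤ R := by
  unfold IsCentralizerLarge
  rw [mc_maxCentralizer hp2 hG hm]
  exact mc_cent_iff hp2 hG hm R

end CfsgH1
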