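import Cfsg.Agent.H1.MC3

set_option autoImplicit false

open Cfsg Subgroup
open scoped Pointwise commutatorElement

namespace CfsgH1

universe u v

variable {G : Type u} [Group G] {p : ℕ}

theorem mc_regular [Finite G] [hp : Fact p.Prime] (hp2 : p ≠ 2) (hG : IsPGroup p G) (hm : IsMetacyclic G) : IsRegularPGroup p G := by
  rw [regular_iff_first hG]
  obtain ⟨N, hN, hc, hGN, -⟩ := mc_data hm
  intro a b
  set c := ⁅b⁻¹, a⁻¹⁆ with hcdef
  have hDn : (zpowers (c ^ p)).Normal := mc_sub_normal hG hc (by rw [zpowers_le]; exact pow_mem (hGN _ _) p)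
  have h1 : ∀ g : G, ⁅c, g⁆ ∈ zpowers (c ^ p) := by
    intro g
    obtain ⟨s, hs, hs2⟩ := exists_exp hG hc g
    rw [← commutatorElement_inv]
    apply inv_mem
    have e : ⁅g, c⁆ = c ^ ((s : ℤ) - 1) := by
      rw [commutatorElement_def g, hs2 _ (hGN _ _), zpow_sub, zpow_natCast, zpow_one]
    rw [e]
    obtain ⟨t, ht⟩ := (Nat.modEq_iff_dvd.1 hs.symm)
    push_cast at ht
    rw [ht, zpow_mul, zpow_natCast]
    exact zpow_mem (mem_zpowers _) t
  have h2 := pow_p_class_two (X := G ⧸ zpowers (c ^ p)) hp.out hp2 (x := QuotientGroup.mk' (zpowers (c ^ p)) a) (y := QuotientGroup.mk' (zpowers (c ^ p)) b) (by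
      intro z
      obtain ⟨z, rfl⟩ := QuotientGroup.mk'_surjective _ z
      rw [← map_inv, ← map_inv, ← map_commutatorElement]
      rw [← commutatorElement_eq_one_iff_commute, ← map_commutatorElement]
      exact (QuotientGroup.eq_one_iff _).2 (h1 z)) (by
      rw [← map_inv, ← map_inv, ← map_commutatorElement, ← map_pow]
      exact (QuotientGroup.eq_one_iff _).2 (mem_zpowers _))
  rw [← map_mul, ← map_pow, ← map_pow, ← map_pow, ← map_mul] at h2
  have h3 : (a ^ p * b ^ p)⁻¹ * (a * b) ^ p ∈ zpowers (c ^ p) := QuotientGroup.eq.1 h2.symm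
  obtain ⟨j, hj⟩ := mem_zpowers_nat h3
  refine ⟨c ^ j, pow_mem (Subgroup.commutator_mem_commutator (inv_mem (Subgroup.subset_closure (by simp))) (inv_mem (Subgroup.subset_closure (by simp)))) j, ?_⟩
  rw [← pow_mul, mul_comm j, pow_mul, hj]
  group

theorem le_relIndex_of_lt [Finite G] [hp : Fact p.Prime] (hG : IsPGroup p G) {H K : Subgroup G} (h : H < K) : p ≤ H.relIndex K := by
  obtain ⟨k, hk⟩ := IsPGroup.iff_card.1 (hG.to_subgroup K)
  have h1 : H.relIndex K ∣ Nat.card K := relIndex_dvd_card _ _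
  rw [hk] at h1
  obtain ⟨j, -, hj⟩ := (Nat.dvd_prime_pow hp.out).1 h1
  rcases Nat.eq_zero_or_pos j with h0 | h0
  · rw [h0, pow_zero, relIndex_eq_one] at hj
    exact absurd hj (not_le_of_gt h)
  · rw [hj]
    calc p = p ^ 1 := (pow_one p).symm
      _ ≤ p ^ j := Nat.pow_le_pow_right hp.out.pos h0

theorem exists_index_p_ge [Finite G] [hp : Fact p.Prime] (hG : IsPGroup p G) {H : Subgroup G} (h : H ≠ ⊤) : ∃ M : Subgroup G, H ≤ M ∧ M.index = p := by
  obtain ⟨i, hi⟩ := IsPGroup.iff_card.1 (hG.to_subgroup H)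
  obtain ⟨m, hm⟩ := IsPGroup.iff_card.1 hG
  have hlt : Nat.card H < Nat.card G := by
    refine lt_of_le_of_ne (Nat.le_of_dvd Nat.card_pos H.card_subgroup_dvd_card) fun he => h ((Subgroup.card_eq_iff_eq_top H).1 he)
  rw [hi, hm] at hlt
  have him : i < m := (Nat.pow_lt_pow_iff_right hp.out.one_lt).1 hlt
  obtain ⟨M, hM, hHM⟩ := Sylow.exists_subgroup_card_pow_prime_le (G := G) (p := p) (n := i) (m := m - 1) (by rw [hm]; exact pow_dvd_pow p (by omega)) H hi (by omega)
  refine ⟨M, hHM, ?_⟩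
  have h1 := M.card_mul_index
  rw [hM, hm] at h1
  have h2 : p ^ m = p ^ (m - 1) * p := by rw [← pow_succ]; congr 1; omega
  rw [h2] at h1
  exact Nat.eq_of_mul_eq_mul_left (pow_pos hp.out.pos _) h1

/-- power subgroups -/
def PW (p j : ℕ) (G : Type u) [Group G] : Subgroup G := powerClosure p j ⊤

theorem mem_PW [Finite G] [hp : Fact p.Prime] (hr : IsRegularPGroup p G) {j : ℕ} {g : G} : g ∈ PW p j G ↔ ∃ w : G, w ^ p ^ j = g := by
  have h1 := (reg_main hr ⊤ j).1
  have h2 : g ∈ (powerClosure p j (⊤ : Subgroup G) : Set G) ↔ g ∈ {y : G | ∃ x ∈ (⊤ : Subgroup G), y = x ^ (p ^ j)} := by rw [h1]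
  refine Iff.trans h2 ⟨?_, ?_⟩
  · rintro ⟨x, -, rfl⟩; exact ⟨x, rfl⟩
  · rintro ⟨x, rfl⟩; exact ⟨x, Subgroup.mem_top _, rfl⟩

theorem pow_mem_PW {j : ℕ} (w : G) : w ^ p ^ j ∈ PW p j G := mem_powerClosure (Subgroup.mem_top w)

theorem PW_le {j : ℕ} {H : Subgroup G} (h : ∀ w : G, w ^ p ^ j ∈ H) : PW p j G ≤ H := by
  unfold PW powerClosure
  rw [Subgroup.closure_le]
  rintro _ ⟨x, -, rfl⟩
  exact h x

theorem PW_zero [Finite G] [hp : Fact p.Prime] (hr : IsRegularPGroup p G) : PW p 0 G = ⊤ := by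
  rw [eq_top_iff]
  intro x _
  rw [mem_PW hr]
  exact ⟨x, by simp⟩

theorem PW_succ_le [Finite G] [hp : Fact p.Prime] (hr : IsRegularPGroup p G) (j i : ℕ) : PW p (j + i) G ≤ PW p j G := by
  intro x hx
  rw [mem_PW hr] at hx ⊢
  obtain ⟨w, rfl⟩ := hx
  exact ⟨w ^ p ^ i, by rw [← pow_mul, ← pow_add, add_comm]⟩

theorem PW_normal [Finite G] [hp : Fact p.Prime] (hr : IsRegularPGroup p G) (j : ℕ) : (PW p j G).Normal := by
  refine ⟨fun x hx g => ?_⟩
  rw [mem_PW hr] at hx ⊢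
  obtain ⟨w, rfl⟩ := hx
  exact ⟨g * w * g⁻¹, conj_pow⟩

/-- the index of the first power subgroup -/
theorem mc_index_PW_one [Finite G] [hp : Fact p.Prime] (hp2 : p ≠ 2) (hG : IsPGroup p G) (hm : IsMetacyclic G) : (PW p 1 G).index ≤ p ^ 2 := by
  obtain ⟨N, hN, hc, hGN, a, b, ha, hb⟩ := mc_data hm
  haveI := PW_normal (mc_regular hp2 hG hm) 1
  rw [Subgroup.index]
  have hpw : ∀ (x : G) (i : ℕ), (QuotientGroup.mk' (PW p 1 G) x) ^ i = (QuotientGroup.mk' (PW p 1 G) x) ^ (i % p) := by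
    intro x i
    have h1 : (QuotientGroup.mk' (PW p 1 G) x) ^ p = 1 := by
      rw [← map_pow]
      apply (QuotientGroup.eq_one_iff _).2
      have := pow_mem_PW (p := p) (j := 1) x
      rwa [pow_one] at this
    conv_lhs => rw [← Nat.div_add_mod i p, pow_add, pow_mul, h1, one_pow, one_mul]
  have h2 : Nat.card (G ⧸ PW p 1 G) ≤ Nat.card (Fin p × Fin p) := by
    apply Nat.card_le_card_of_surjective (fun x : Fin p × Fin p => QuotientGroup.mk' (PW p 1 G) (a ^ (x.1 : ℕ) * b ^ (x.2 : ℕ)))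
    intro q
    obtain ⟨g, rfl⟩ := QuotientGroup.mk'_surjective _ q
    obtain ⟨n, hn, j, rfl⟩ := hb g
    rw [← ha] at hn
    obtain ⟨i, rfl⟩ := mem_zpowers_nat hn
    refine ⟨(⟨i % p, Nat.mod_lt _ hp.out.pos⟩, ⟨j % p, Nat.mod_lt _ hp.out.pos⟩), ?_⟩
    simp only [map_mul, map_pow]
    rw [hpw a i, hpw b j]
  rw [Nat.card_prod, Nat.card_fin] at h2
  rw [sq]; exact h2

theorem mc_relIndex_PW [Finite G] [hp : Fact p.Prime] (hp2 : p ≠ 2) (hG : IsPGroup p G) (hm : IsMetacyclic G) (j i : ℕ) : (PW p (j + i) G).relIndex (PW p j G) ≤ p ^ (2 * i) := by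
  have hr := mc_regular hp2 hG hm
  induction i with
  | zero => simp
  | succ i ih =>
    have h1 : (PW p (j + i + 1) G).relIndex (PW p (j + i) G) ≤ p ^ 2 := by
      have h2 := mc_index_PW_one hp2 (hG.to_subgroup (PW p (j + i) G)) (mc_subgroup hm _)
      refine le_trans ?_ h2
      rw [Subgroup.relIndex]
      apply Nat.le_of_dvd (Nat.pos_of_ne_zero index_ne_zero_of_finite)
      apply Subgroup.index_dvd_of_le
      apply PW_le
      intro x
      rw [mem_subgroupOf]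
      have h3 : (x : G) ∈ PW p (j + i) G := x.2
      rw [mem_PW hr] at h3
      obtain ⟨w, hw⟩ := h3
      have : ((x ^ p ^ 1 : PW p (j + i) G) : G) = w ^ p ^ (j + i + 1) := by
        rw [SubgroupClass.coe_pow, ← hw, ← pow_mul, ← pow_add]
      exact this ▸ pow_mem_PW w
    have h2 := Subgroup.relIndex_mul_relIndex (PW p (j + i + 1) G) (PW p (j + i) G) (PW p j G) (PW_succ_le hr _ 1) (PW_succ_le hr _ i)
    rw [← add_assoc, ← h2]
    calc _ ≤ p ^ 2 * p ^ (2 * i) := Nat.mul_le_mul h1 ih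
      _ = _ := by rw [← pow_add]; congr 1; ring

theorem mc_gen_of_not_mem [Finite G] [hp : Fact p.Prime] (hp2 : p ≠ 2) (hG : IsPGroup p G) (hm : IsMetacyclic G) {w : G} (hw : w ∉ PW p 1 G) : ∃ y : G, Subgroup.closure ({w, y} : Set G) = ⊤ := by
  have hr := mc_regular hp2 hG hm
  haveI := PW_normal hr 1
  have key : ∀ H : Subgroup G, H ⊔ PW p 1 G = ⊤ → H = ⊤ := by
    intro H hH
    by_contra hne
    obtain ⟨M, hHM, hM⟩ := exists_index_p_ge hG hne
    haveI := normal_of_index_prime_pgroup hG hM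
    have h1 : PW p 1 G ≤ M := by
      intro x hx
      rw [mem_PW hr] at hx
      obtain ⟨v, rfl⟩ := hx
      rw [pow_one, ← hM]
      exact Subgroup.pow_index_mem M v
    have h2 := sup_le hHM h1
    rw [hH, top_le_iff] at h2
    rw [h2, index_top] at hM
    exact hp.out.one_lt.ne hM
  have hidx := mc_index_PW_one hp2 hG hm
  by_cases hA : zpowers w ⊔ PW p 1 G = ⊤
  · refine ⟨1, key _ ?_⟩
    rw [eq_top_iff, ← hA]
    exact sup_le_sup_right (by rw [zpowers_le]; exact Subgroup.subset_closure (by simp)) _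
  · obtain ⟨y, hy⟩ : ∃ y, y ∉ zpowers w ⊔ PW p 1 G := by
      by_contra hcon
      push_neg at hcon
      exact hA (eq_top_iff.2 fun x _ => hcon x)
    refine ⟨y, key _ ?_⟩
    set A := zpowers w ⊔ PW p 1 G with hAdef
    set B := Subgroup.closure ({w, y} : Set G) ⊔ PW p 1 G with hBdef
    have hwB : w ∈ B := mem_sup_left (Subgroup.subset_closure (by simp))
    have hyB : y ∈ B := mem_sup_left (Subgroup.subset_closure (by simp))
    have h1 : PW p 1 G < A := lt_of_le_of_ne le_sup_right (fun he => hw (he ▸ mem_sup_left (mem_zpowers w)))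
    have h2 : A < B := lt_of_le_of_ne (sup_le (zpowers_le.2 hwB) le_sup_right) (fun he => hy (he ▸ hyB))
    have h3 := le_relIndex_of_lt hG h1
    have h4 := le_relIndex_of_lt hG h2
    have h5 := relIndex_mul_index h1.le
    have h6 := relIndex_mul_index h2.le
    rw [← Subgroup.index_eq_one]
    have hpos : 0 < B.index := Nat.pos_of_ne_zero index_ne_zero_of_finite
    by_contra hne
    have hB2 : 2 ≤ B.index := by omega
    have hp1 := hp.out.one_lt
    have h7 : p * 2 ≤ A.index := by rw [← h6]; exact Nat.mul_le_mul h4 hB2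
    have h8 : p * (p * 2) ≤ (PW p 1 G).index := by rw [← h5]; exact Nat.mul_le_mul h3 h7
    nlinarith

end CfsgH1
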