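import Cfsg.Agent.H1.MC4

set_option autoImplicit false

open Cfsg Subgroup
open scoped Pointwise commutatorElement

namespace CfsgH1

universe u v

variable {G : Type u} [Group G] {p : ℕ}

theorem mc_index_pow_le [Finite G] [hp : Fact p.Prime] (hp2 : p ≠ 2) (hG : IsPGroup p G) (hm : IsMetacyclic G) {n : ℕ} (hn : Nat.card (commutator G) = p ^ n) {s : ℕ} (hs : s ≤ n) (w : G) : 
    (centralizer ({w ^ p ^ s} : Set G)).index ≤ p ^ (n - s) := by
  obtain ⟨N, hN, hc, hGN, a, b, ha, hb⟩ := mc_data hm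
  have hab := mc_closure ha hb
  rw [mc_commutator_eq hG hc hGN hab, Nat.card_zpowers] at hn
  have h1 : orderOf (⁅a, b⁆ ^ p ^ s) = p ^ (n - s) := by
    rw [orderOf_pow_of_dvd (pow_pos hp.out.pos s).ne' (by rw [hn]; exact pow_dvd_pow p hs), hn, Nat.pow_div hs hp.out.pos]
  rw [← h1, ← Nat.card_zpowers]
  apply index_centralizer_le_card
  intro h
  obtain ⟨u, -, e⟩ := comm_pow hp2 hG hc (hGN w h) s
  rw [← commutatorElement_inv (w ^ p ^ s) h, e]
  apply inv_mem
  apply pow_mem
  obtain ⟨i, hi⟩ := mem_zpowers_nat (gen_comm hG hc hGN hab w h)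
  rw [← hi, ← pow_mul, mul_comm, pow_mul]
  exact pow_mem (mem_zpowers _) _

theorem mc_index_gen [Finite G] [hp : Fact p.Prime] (hp2 : p ≠ 2) (hG : IsPGroup p G) (hm : IsMetacyclic G) {n : ℕ} (hn : Nat.card (commutator G) = p ^ n) {s : ℕ} (hs : s ≤ n) {w : G} (hw : w ∉ PW p 1 G) : 
    (centralizer ({w ^ p ^ s} : Set G)).index = p ^ (n - s) := by
  obtain ⟨N, hN, hc, hGN, a, b, ha, hb⟩ := mc_data hm
  obtain ⟨y, hy⟩ := mc_gen_of_not_mem hp2 hG hm hw
  rw [mc_commutator_eq hG hc hGN hy, Nat.card_zpowers] at hn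
  rw [(mc_index hp2 hG hc hGN hy s).1, orderOf_pow_of_dvd (pow_pos hp.out.pos s).ne' (by rw [hn]; exact pow_dvd_pow p hs), hn, Nat.pow_div hs hp.out.pos]

/-- **S3882**, first part -/
theorem mc_mem_PW_iff [Finite G] [hp : Fact p.Prime] (hp2 : p ≠ 2) (hG : IsPGroup p G) (hm : IsMetacyclic G) {n : ℕ} (hn : Nat.card (commutator G) = p ^ n) {s : ℕ} (hs : s ≤ n) (g : G) : 
    g ∈ PW p s G ↔ (centralizer ({g} : Set G)).index ≤ p ^ (n - s) := by
  classical
  have hr := mc_regular hp2 hG hm
  constructor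
  · intro h
    rw [mem_PW hr] at h
    obtain ⟨w, rfl⟩ := h
    exact mc_index_pow_le hp2 hG hm hn hs w
  · intro h
    by_contra hg
    have hex : ∃ k, g ∉ PW p k G := ⟨s, hg⟩
    set k := Nat.find hex with hk
    have hk1 : g ∉ PW p k G := Nat.find_spec hex
    have hks : k ≤ s := Nat.find_min' hex hg
    have hk0 : k ≠ 0 := by
      intro h0
      rw [h0, PW_zero hr] at hk1
      exact hk1 (Subgroup.mem_top g)
    have hj : g ∈ PW p (k - 1) G := by
      by_contra hcon
      have := Nat.find_min' hex hcon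
      omega
    rw [mem_PW hr] at hj
    obtain ⟨w, hw⟩ := hj
    have hw1 : w ∉ PW p 1 G := by
      intro hw1
      rw [mem_PW hr] at hw1
      obtain ⟨v, rfl⟩ := hw1
      apply hk1
      rw [mem_PW hr]
      refine ⟨v, ?_⟩
      rw [← hw, ← pow_mul, ← pow_add]
      congr 2
      omega
    have h1 := mc_index_gen hp2 hG hm hn (s := k - 1) (by omega) hw1
    rw [hw] at h1
    rw [h1] at h
    have := (Nat.pow_le_pow_iff_right hp.out.one_lt).1 h
    omega

theorem mc_PW_center [Finite G] [hp : Fact p.Prime] (hp2 : p ≠ 2) (hG : IsPGroup p G) (hm : IsMetacyclic G) {n : ℕ} (hn : Nat.card (commutator G) = p ^ n) : PW p n G = center G := by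
  ext g
  rw [mc_mem_PW_iff hp2 hG hm hn le_rfl, Nat.sub_self, pow_zero]
  constructor
  · intro h
    have h1 : (centralizer ({g} : Set G)).index = 1 := le_antisymm h (Nat.pos_of_ne_zero index_ne_zero_of_finite)
    rw [Subgroup.index_eq_one] at h1
    rw [mem_center_iff]
    intro x
    have h2 : x ∈ centralizer ({g} : Set G) := by rw [h1]; exact Subgroup.mem_top x
    exact mem_centralizer_singleton_iff.1 h2
  · intro h
    have h1 : centralizer ({g} : Set G) = ⊤ := by
      rw [eq_top_iff]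
      intro x _
      rw [mem_centralizer_singleton_iff]
      exact mem_center_iff.1 h x
    rw [h1, index_top]

theorem mc_card_PW [Finite G] [hp : Fact p.Prime] (hp2 : p ≠ 2) (hG : IsPGroup p G) (hm : IsMetacyclic G) {n : ℕ} (hn : Nat.card (commutator G) = p ^ n) {j : ℕ} (hj : j ≤ n) : 
    Nat.card (PW p j G) = Nat.card (center G) * p ^ (2 * (n - j)) := by
  have hr := mc_regular hp2 hG hm
  have h1 := mc_relIndex_PW hp2 hG hm 0 j
  rw [zero_add, PW_zero hr, relIndex_top_right] at h1
  have h2 := mc_relIndex_PW hp2 hG hm j (n - j)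
  rw [Nat.add_sub_cancel' hj, mc_PW_center hp2 hG hm hn] at h2
  have h3 := mc_center_index hp2 hG hm
  rw [hn] at h3
  have hle : center G ≤ PW p j G := by
    rw [← mc_PW_center hp2 hG hm hn]
    have := PW_succ_le hr j (n - j)
    rwa [Nat.add_sub_cancel' hj] at this
  have h4 := relIndex_mul_index hle
  rw [h3, ← pow_mul] at h4
  have h5 : (center G).relIndex (PW p j G) = p ^ (2 * (n - j)) := by
    apply le_antisymm h2
    by_contra hlt
    rw [not_le] at hlt
    have h6 : (center G).relIndex (PW p j G) * (PW p j G).index < p ^ (2 * (n - j)) * p ^ (2 * j) := 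
      lt_of_lt_of_le (Nat.mul_lt_mul_of_pos_right hlt (Nat.pos_of_ne_zero index_ne_zero_of_finite)) (Nat.mul_le_mul_left _ h1)
    rw [h4, ← pow_add] at h6
    have h7 : n * 2 = 2 * (n - j) + 2 * j := by omega
    rw [h7] at h6
    exact lt_irrefl _ h6
  have h6 := ((center G).subgroupOf (PW p j G)).card_mul_index
  rw [Nat.card_congr (Subgroup.subgroupOfEquivOfLe hle).toEquiv] at h6
  rw [← h6, ← h5]
  rfl

/-- **S3881** -/
theorem mc_count [Finite G] [hp : Fact p.Prime] (hp2 : p ≠ 2) (hG : IsPGroup p G) (hm : IsMetacyclic G) {n : ℕ} (hn : Nat.card (commutator G) = p ^ n) {i : ℕ} (hi : 1 ≤ i) (hin : i ≤ n) : 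
    Nat.card {g : G // (centralizer ({g} : Set G)).index = p ^ i} = Nat.card (center G) * (p ^ (2 * i) - p ^ (2 * i - 2)) := by
  classical
  have hr := mc_regular hp2 hG hm
  have h1 := mc_card_PW hp2 hG hm hn (j := n - i) (by omega)
  have h2 := mc_card_PW hp2 hG hm hn (j := n - i + 1) (by omega)
  have e1 : n - (n - i) = i := by omega
  have e2 : 2 * (n - (n - i + 1)) = 2 * i - 2 := by omega
  rw [e1] at h1
  rw [e2] at h2
  have hset : {g : G | (centralizer ({g} : Set G)).index = p ^ i} = (PW p (n - i) G : Set G) \ (PW p (n - i + 1) G : Set G) := by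
    ext g
    rw [Set.mem_setOf_eq, Set.mem_diff, SetLike.mem_coe, SetLike.mem_coe, mc_mem_PW_iff hp2 hG hm hn (by omega), mc_mem_PW_iff hp2 hG hm hn (by omega)]
    have e3 : n - (n - i + 1) = i - 1 := by omega
    rw [e1, e3]
    constructor
    · intro h
      rw [h]
      refine ⟨le_rfl, not_le.2 (Nat.pow_lt_pow_right hp.out.one_lt (by omega))⟩
    · rintro ⟨h3, h4⟩
      have h5 := (centralizer ({g} : Set G)).index_dvd_card
      obtain ⟨m, hm'⟩ := IsPGroup.iff_card.1 hG
      rw [hm'] at h5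
      obtain ⟨t, -, ht⟩ := (Nat.dvd_prime_pow hp.out).1 h5
      rw [ht] at h3 h4 ⊢
      have h6 := (Nat.pow_le_pow_iff_right hp.out.one_lt).1 h3
      rw [Nat.pow_le_pow_iff_right hp.out.one_lt] at h4
      congr 1
      omega
  have h3 : Nat.card {g : G // (centralizer ({g} : Set G)).index = p ^ i} = Set.ncard {g : G | (centralizer ({g} : Set G)).index = p ^ i} := rfl
  rw [h3, hset, Set.ncard_diff (PW_succ_le hr _ 1) (Set.toFinite _), Nat.mul_sub]
  change Nat.card (PW p (n - i) G) - Nat.card (PW p (n - i + 1) G) = _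
  rw [h1, h2]

/-- **S3883** -/
theorem mc_frattini_iff [Finite G] [hp : Fact p.Prime] (hp2 : p ≠ 2) (hG : IsPGroup p G) (hm : IsMetacyclic G) (hna : ¬ IsMulCommutative G) (g : G) : g ∉ frattini G ↔ IsMulCommutative (centralizer ({g} : Set G)) := by
  have hr := mc_regular hp2 hG hm
  obtain ⟨n, hn⟩ := IsPGroup.iff_card.1 (hG.to_subgroup (commutator G))
  have hn1 : 1 ≤ n := by
    rw [Nat.one_le_iff_ne_zero]
    rintro rfl
    rw [pow_zero, Subgroup.card_eq_one, _root_.commutator_def, Subgroup.commutator_eq_bot_iff_le_centralizer] at hn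
    apply hna
    refine ⟨⟨fun x y => ?_⟩⟩
    exact mem_centralizer_iff.1 (hn (Subgroup.mem_top y)) x (Subgroup.mem_top x)
  have h1 : g ∉ frattini G ↔ g ∉ PW p 1 G := by
    constructor
    · intro h h'
      apply h
      rw [mem_PW hr] at h'
      obtain ⟨v, rfl⟩ := h'
      rw [frattini, Order.radical, Subgroup.mem_iInf]
      intro M
      rw [Subgroup.mem_iInf]
      intro hM
      obtain ⟨M', hMM', hM'⟩ := exists_index_p_ge hG hM.1
      have h2 : M = M' := by
        by_contra hne
        have h3 := hM.2 M' (lt_of_le_of_ne hMM' hne)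
        rw [h3, index_top] at hM'
        exact hp.out.one_lt.ne hM'
      rw [← h2] at hM'
      haveI := normal_of_index_prime_pgroup hG hM'
      rw [pow_one, ← hM']
      exact Subgroup.pow_index_mem M v
    · intro h h'
      obtain ⟨y, hy⟩ := mc_gen_of_not_mem hp2 hG hm h
      have h2 : zpowers y ≠ ⊤ := by
        intro h3
        apply hna
        haveI : IsCyclic G := isCyclic_iff_exists_zpowers_eq_top.2 ⟨y, h3⟩
        letI : CommGroup G := IsCyclic.commGroup
        exact ⟨⟨fun a b => mul_comm a b⟩⟩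
      obtain ⟨M, hyM, hM⟩ := exists_index_p_ge hG h2
      have hMne : M ≠ ⊤ := by
        rintro rfl
        rw [index_top] at hM
        exact hp.out.one_lt.ne hM
      obtain ⟨M', hM', hMM'⟩ := (eq_top_or_exists_le_coatom M).resolve_left hMne
      have h3 : g ∈ M' := by
        rw [frattini, Order.radical, Subgroup.mem_iInf] at h'
        have := h' M'
        rw [Subgroup.mem_iInf] at this
        exact this hM'
      have h4 : Subgroup.closure ({g, y} : Set G) ≤ M' := closure_pair_le h3 (hMM' (hyM (mem_zpowers y)))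
      rw [hy, top_le_iff] at h4
      exact hM'.1 h4
  rw [h1, mc_mem_PW_iff hp2 hG hm hn hn1, mc_comm_iff hp2 hG hm]
  have h2 := (centralizer ({g} : Set G)).card_mul_index
  have h3 := (commutator G).card_mul_index
  have h4 := (centralizer ({g} : Set G)).index_dvd_card
  obtain ⟨m, hm'⟩ := IsPGroup.iff_card.1 hG
  rw [hm'] at h4
  obtain ⟨t, -, ht⟩ := (Nat.dvd_prime_pow hp.out).1 h4
  rw [hn, ← h2, ht, mul_comm (p ^ n)] at h3
  rw [ht, Nat.pow_le_pow_iff_right hp.out.one_lt]
  have hpos : 0 < Nat.card (centralizer ({g} : Set G)) := Nat.card_pos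
  have hpt : 0 < p ^ t := pow_pos hp.out.pos t
  constructor
  · intro h
    have h5 : p ^ n ≤ p ^ t := Nat.pow_le_pow_right hp.out.pos (by omega)
    by_contra hlt
    rw [not_le] at hlt
    have h6 : (commutator G).index * p ^ n < Nat.card (centralizer ({g} : Set G)) * p ^ t := lt_of_lt_of_le (Nat.mul_lt_mul_of_pos_right hlt (pow_pos hp.out.pos n)) (Nat.mul_le_mul_left _ h5)
    rw [h3] at h6
    exact lt_irrefl _ h6
  · intro h h'
    have h5 : p ^ t < p ^ n := Nat.pow_lt_pow_right hp.out.one_lt (by omega)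
    have h6 : Nat.card (centralizer ({g} : Set G)) * p ^ t < (commutator G).index * p ^ n := lt_of_lt_of_le (Nat.mul_lt_mul_of_pos_left h5 hpos) (Nat.mul_le_mul_right _ h)
    rw [h3] at h6
    exact lt_irrefl _ h6

end CfsgH1
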