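import Cfsg.Agent.H1.MC5

set_option autoImplicit false

open Cfsg Subgroup
open scoped Pointwise commutatorElement

namespace CfsgH1

universe u v

variable {G : Type u} [Group G] {p : ℕ}

theorem card_mul_le_of_inf_bot [Finite G] {A B : Subgroup G} (h : A ⊓ B = ⊥) : Nat.card A * Nat.card B ≤ Nat.card G := by
  rw [← Nat.card_prod]
  apply Nat.card_le_card_of_injective (fun x : A × B => (x.1 : G) * (x.2 : G))
  rintro ⟨a, b⟩ ⟨c, d⟩ hxy
  have h1 : (a : G) * b = c * d := hxy
  have h2 : (c : G)⁻¹ * a = d * (b : G)⁻¹ := by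
    rw [inv_mul_eq_iff_eq_mul, ← mul_assoc, ← h1, mul_inv_cancel_right]
  have h3 : (c : G)⁻¹ * a ∈ A ⊓ B := ⟨A.mul_mem (A.inv_mem c.2) a.2, by rw [h2]; exact B.mul_mem d.2 (B.inv_mem b.2)⟩
  rw [h, Subgroup.mem_bot] at h3
  have h4 : (a : G) = c := (inv_mul_eq_one.1 h3).symm
  rw [h3] at h2
  have h5 : (d : G) = b := mul_inv_eq_one.1 h2.symm
  exact Prod.ext (Subtype.ext h4) (Subtype.ext h5.symm)

theorem cyclic_unique {C : Type u} [Group C] [Finite C] [IsCyclic C] {p : ℕ} (hp : 0 < p) {H K : Subgroup C} (hH : Nat.card H = p) (hK : Nat.card K = p) : H = K := by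
  obtain ⟨A, hA, hA2⟩ := zpowers_card_le_of_cyclic (R := C) hp
  have key : ∀ H : Subgroup C, Nat.card H = p → H = A := by
    intro H hH
    apply Subgroup.eq_of_le_of_card_ge _ (by rw [hH]; exact hA)
    intro h hh
    apply hA2
    have := pow_card_eq_one' (x := (⟨h, hh⟩ : H))
    rw [hH] at this
    exact congrArg Subtype.val this
  rw [key H hH, key K hK]

/-- **S3884** -/
theorem mc_factor [Finite G] [hp : Fact p.Prime] (hp2 : p ≠ 2) (hG : IsPGroup p G) (hm : IsMetacyclic G) : ∃ A B : Subgroup G, IsCyclic A ∧ IsCyclic B ∧ A ⊓ B = ⊥ ∧ Nat.card A * Nat.card B = Nat.card G := by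
  classical
  have hr := mc_regular hp2 hG hm
  by_cases hcyc : IsCyclic G
  · refine ⟨⊤, ⊥, ?_, ?_, ?_, ?_⟩
    · exact isCyclic_of_surjective (Subgroup.topEquiv (G := G)).symm (Subgroup.topEquiv (G := G)).symm.surjective
    · exact isCyclic_of_subsingleton
    · rw [inf_bot_eq]
    · rw [Subgroup.card_top, Subgroup.card_bot, mul_one]
  -- element of maximal order
  obtain ⟨x, hx⟩ := Finite.exists_max (fun g : G => orderOf g)
  obtain ⟨e, he⟩ := IsPGroup.iff_orderOf.1 hG x
  have hexp : ∀ g : G, g ^ p ^ e = 1 := by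
    intro g
    obtain ⟨k, hk⟩ := IsPGroup.iff_orderOf.1 hG g
    have h1 := hx g
    rw [hk, he] at h1
    have h2 := (Nat.pow_le_pow_iff_right hp.out.one_lt).1 h1
    rw [← orderOf_dvd_iff_pow_eq_one, hk]
    exact pow_dvd_pow p h2
  have hex : ∃ k, IsCyclic (PW p k G) := by
    refine ⟨e, ?_⟩
    have : PW p e G = ⊥ := by
      rw [← le_bot_iff]
      apply PW_le
      intro w
      rw [hexp w]; exact one_mem _
    rw [this]
    exact isCyclic_of_subsingleton
  set f := Nat.find hex with hf
  have hf1 : IsCyclic (PW p f G) := Nat.find_spec hex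
  have hf0 : f ≠ 0 := by
    intro h0
    rw [h0, PW_zero hr] at hf1
    exact hcyc (isCyclic_of_surjective (Subgroup.topEquiv (G := G)) (Subgroup.topEquiv (G := G)).surjective)
  have hf2 : ¬ IsCyclic (PW p (f - 1) G) := Nat.find_min hex (by omega)
  have hfe : f ≤ e := by
    apply Nat.find_min' hex
    have : PW p e G = ⊥ := by
      rw [← le_bot_iff]
      apply PW_le
      intro w
      rw [hexp w]; exact one_mem _
    rw [this]
    exact isCyclic_of_subsingleton
  -- card of PW f
  have hcf : Nat.card (PW p f G) ≤ p ^ (e - f) := by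
    obtain ⟨z, hz⟩ := (Subgroup.isCyclic_iff_exists_zpowers_eq_top _).1 hf1
    have hzm : z ∈ PW p f G := by rw [← hz]; exact mem_zpowers z
    rw [mem_PW hr] at hzm
    obtain ⟨v, hv⟩ := hzm
    rw [← hz, Nat.card_zpowers]
    apply Nat.le_of_dvd (pow_pos hp.out.pos _)
    rw [orderOf_dvd_iff_pow_eq_one, ← hv, ← pow_mul, ← pow_add, Nat.add_sub_cancel' hfe]
    exact hexp v
  have hcG : Nat.card G ≤ p ^ (e + f) := by
    have h1 := mc_relIndex_PW hp2 hG hm 0 f
    rw [zero_add, PW_zero hr, relIndex_top_right] at h1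
    rw [← (PW p f G).card_mul_index]
    calc _ ≤ p ^ (e - f) * p ^ (2 * f) := Nat.mul_le_mul hcf h1
      _ = p ^ (e + f) := by rw [← pow_add]; congr 1; omega
  -- element of order p outside zpowers x
  obtain ⟨u, huW, hup, hux⟩ : ∃ u ∈ PW p (f - 1) G, u ^ p = 1 ∧ u ∉ zpowers x := by
    by_contra hcon
    push_neg at hcon
    apply hf2
    rcases punique_classification (hG.to_subgroup (PW p (f - 1) G)) (by
      intro H K hH hK
      have key : ∀ H : Subgroup (PW p (f - 1) G), Nat.card H = p → ∀ T : Subgroup G, Nat.card T = p → T ≤ zpowers x → H.map (PW p (f - 1) G).subtype = T := by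
        intro H hH T hT hTx
        have h1 : H.map (PW p (f - 1) G).subtype ≤ zpowers x := by
          rintro _ ⟨h, hh, rfl⟩
          apply hcon _ h.2
          have := pow_card_eq_one' (x := (⟨h, hh⟩ : H))
          rw [hH] at this
          exact congrArg (fun y : H => ((y : PW p (f - 1) G) : G)) this
        have h2 : Nat.card (H.map (PW p (f - 1) G).subtype) = p := by
          rw [Subgroup.card_map_of_injective (Subgroup.subtype_injective _), hH]
        -- both are subgroups of order p of the cyclic group zpowers x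
        have h3 : (H.map (PW p (f - 1) G).subtype).subgroupOf (zpowers x) = T.subgroupOf (zpowers x) := by
          apply cyclic_unique hp.out.pos
          · rw [Nat.card_congr (Subgroup.subgroupOfEquivOfLe h1).toEquiv, h2]
          · rw [Nat.card_congr (Subgroup.subgroupOfEquivOfLe hTx).toEquiv, hT]
        rw [← Subgroup.map_subgroupOf_eq_of_le h1, h3, Subgroup.map_subgroupOf_eq_of_le hTx]
      have hH1 : H.map (PW p (f - 1) G).subtype ≤ zpowers x := by
        rintro _ ⟨h, hh, rfl⟩
        apply hcon _ h.2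
        have := pow_card_eq_one' (x := (⟨h, hh⟩ : H))
        rw [hH] at this
        exact congrArg (fun y : H => ((y : PW p (f - 1) G) : G)) this
      have h4 := key K hK (H.map (PW p (f - 1) G).subtype) (by rw [Subgroup.card_map_of_injective (Subgroup.subtype_injective _), hH]) hH1
      exact Subgroup.map_injective (Subgroup.subtype_injective _) h4.symm) with h | ⟨h, -⟩
    · exact h
    · exact absurd h hp2
  rw [mem_PW hr] at huW
  obtain ⟨y, hy⟩ := huW
  have hu1 : u ≠ 1 := by rintro rfl; exact hux (one_mem _)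
  have hyo : orderOf y = p ^ f := by
    obtain ⟨k, hk⟩ := IsPGroup.iff_orderOf.1 hG y
    rw [hk]
    congr 1
    apply le_antisymm
    · have h1 : orderOf y ∣ p ^ f := by
        rw [orderOf_dvd_iff_pow_eq_one]
        have : p ^ f = p ^ (f - 1) * p := by rw [← pow_succ]; congr 1; omega
        rw [this, pow_mul, hy, hup]
      rw [hk] at h1
      exact (Nat.pow_dvd_pow_iff_le_right hp.out.one_lt).1 h1
    · by_contra hlt
      apply hu1
      rw [← hy, ← orderOf_dvd_iff_pow_eq_one, hk]
      exact pow_dvd_pow p (by omega)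
  have hinf : zpowers x ⊓ zpowers y = ⊥ := by
    by_contra hne
    obtain ⟨t, ht, ht1⟩ := (Subgroup.ne_bot_iff_exists_ne_one).1 hne |> fun ⟨t, ht⟩ => (⟨t, t.2, fun h => ht (Subtype.ext h)⟩ : ∃ t, t ∈ zpowers x ⊓ zpowers y ∧ t ≠ 1)
    obtain ⟨k, hk⟩ := mem_zpowers_nat ht.2
    have hk0 : k ≠ 0 := by
      rintro rfl
      rw [pow_zero] at hk
      exact ht1 hk.symm
    obtain ⟨i, m, hm', rfl⟩ := Nat.exists_eq_pow_mul_and_not_dvd hk0 p hp.out.ne_one
    have h1 : y ^ p ^ i ∈ zpowers x := by
      apply mem_zpowers_pow_unit hG hm'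
      rw [← pow_mul, hk]
      exact ht.1
    have hif : i < f := by
      by_contra hge
      apply ht1
      rw [← hk, pow_mul]
      have : y ^ p ^ i = 1 := by
        rw [← orderOf_dvd_iff_pow_eq_one, hyo]
        exact pow_dvd_pow p (not_lt.1 hge)
      rw [this, one_pow]
    apply hux
    rw [← hy]
    have : p ^ (f - 1) = p ^ i * p ^ (f - 1 - i) := by rw [← pow_add]; congr 1; omega
    rw [this, pow_mul]
    exact pow_mem h1 _
  refine ⟨zpowers x, zpowers y, inferInstance, inferInstance, hinf, le_antisymm (card_mul_le_of_inf_bot hinf) ?_⟩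
  rw [Nat.card_zpowers, Nat.card_zpowers, he, hyo, ← pow_add]
  exact hcG

end CfsgH1
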