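import Cfsg.Agent.H1.CountP
import Cfsg.Agent.H3.MaxCl2

set_option autoImplicit false

/-! Maximal class p-groups. -/

open Cfsg Subgroup
open scoped Pointwise commutatorElement

namespace CfsgH1

universe u v

variable {X : Type u} [Group X] [Finite X] {p : ℕ} [hp : Fact p.Prime]

theorem class_le_pred {r : ℕ} (hr : 2 ≤ r) (hX : Nat.card X = p ^ r) : Group.nilpotencyClass X ≤ r - 1 := by
  have hXp : IsPGroup p X := IsPGroup.of_card hX
  haveI : Group.IsNilpotent X := hXp.isNilpotent
  rcases Nat.eq_zero_or_pos (Group.nilpotencyClass X) with h | h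
  · omega
  · have h1 := CfsgH3.card_lcs_ge hXp (Group.nilpotencyClass X - 1) 1 (by omega)
    rw [Subgroup.top_lowerCentralSeries_one] at h1
    have h2 : (_root_.commutator X).index ∣ p ^ r := by rw [← hX]; exact Subgroup.index_dvd_card _
    obtain ⟨j, hj, hj2⟩ := (Nat.dvd_prime_pow hp.out).1 h2
    have hj3 : 2 ≤ j := by
      by_contra hlt
      have h3 : (_root_.commutator X).index ≤ p := by
        rw [hj2]
        calc p ^ j ≤ p ^ 1 := Nat.pow_le_pow_right hp.out.pos (by omega)
          _ = p := pow_one p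
      haveI := CfsgH3.cyclic_of_index_commutator_le hXp h3
      letI : CommGroup X := IsCyclic.commGroup
      have h4 : (_root_.commutator X) = ⊥ := by
        rw [_root_.commutator_def, Subgroup.commutator_eq_bot_iff_le_centralizer]
        intro x _
        rw [Subgroup.mem_centralizer_iff]
        intro y _
        exact mul_comm y x
      rw [h4, Subgroup.index_bot, hX] at hj2
      have := Nat.pow_right_injective hp.out.two_le hj2
      omega
    have h5 := Subgroup.card_mul_index (_root_.commutator X)
    rw [hj2, hX] at h5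
    have h6 : p ^ (Group.nilpotencyClass X - 1) * p ^ j ≤ p ^ r := by
      rw [← h5]; exact Nat.mul_le_mul_right _ h1
    rw [← pow_add] at h6
    have := (Nat.pow_le_pow_iff_right hp.out.one_lt).1 h6
    omega

theorem lcs_le_of_quot {N : Subgroup X} [N.Normal] {k : ℕ} (h : Subgroup.lowerCentralSeries (⊤ : Subgroup (X ⧸ N)) k = ⊥) : Subgroup.lowerCentralSeries (⊤ : Subgroup X) k ≤ N := by
  have h1 : (Subgroup.lowerCentralSeries (⊤ : Subgroup X) k).map (QuotientGroup.mk' N) ≤ Subgroup.lowerCentralSeries (⊤ : Subgroup (X ⧸ N)) k := 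
    Subgroup.lowerCentralSeries.map _ k
  rw [h, le_bot_iff, Subgroup.map_eq_bot_iff, QuotientGroup.ker_mk'] at h1
  exact h1

theorem maxcl_normal (n : ℕ) (hG : Nat.card X = p ^ n) (hcl : Group.nilpotencyClass X = n - 1) (hn : 3 ≤ n) (N : Subgroup X) [N.Normal] (r : ℕ) (hr : 2 ≤ r) (hN : N.index = p ^ r) : 
    N = Subgroup.lowerCentralSeries (⊤ : Subgroup X) (r - 1) := by
  have hXp : IsPGroup p X := IsPGroup.of_card hG
  have h1 : Nat.card (X ⧸ N) = p ^ r := by rw [← Subgroup.index_eq_card]; exact hN
  have h2 := class_le_pred hr h1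
  haveI : Group.IsNilpotent (X ⧸ N) := (IsPGroup.of_card h1).isNilpotent
  rw [← Subgroup.lowerCentralSeries_eq_bot_iff_nilpotencyClass_le] at h2
  have h3 := lcs_le_of_quot h2
  have hrn : r ≤ n := by
    have : p ^ r ∣ p ^ n := by rw [← hN, ← hG]; exact Subgroup.index_dvd_card _
    exact (Nat.pow_dvd_pow_iff_le_right hp.out.one_lt).1 this
  have h4 := CfsgH3.card_lcs_ge hXp (n - r) (r - 1) (by omega)
  symm
  apply Subgroup.eq_of_le_of_card_ge h3
  have h5 := Subgroup.card_mul_index N
  rw [hN, hG] at h5
  have h6 : p ^ n = p ^ (n - r) * p ^ r := by rw [← pow_add]; congr 1; omega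
  rw [h6] at h5
  rw [Nat.eq_of_mul_eq_mul_right (pow_pos hp.out.pos _) h5]
  exact h4

theorem maxcl_count (n : ℕ) (hG : Nat.card X = p ^ n) (hcl : Group.nilpotencyClass X = n - 1) (hn : 3 ≤ n) : Nat.card {N : Subgroup X // N.Normal ∧ N.index = p} = p + 1 := by
  have hXp : IsPGroup p X := IsPGroup.of_card hG
  haveI : Group.IsNilpotent X := hXp.isNilpotent
  have h1 := CfsgH3.index_commutator_of_maxcl n hn hG hcl
  set D := _root_.commutator X with hD
  have hQ : Nat.card (X ⧸ D) = p ^ 2 := by rw [← Subgroup.index_eq_card]; exact h1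
  have hQc : ∀ a b : X ⧸ D, a * b = b * a := by
    intro a b
    obtain ⟨a, rfl⟩ := QuotientGroup.mk'_surjective D a
    obtain ⟨b, rfl⟩ := QuotientGroup.mk'_surjective D b
    rw [← map_mul, ← map_mul]
    have : (a * b)⁻¹ * (b * a) ∈ D := by
      have e : (a * b)⁻¹ * (b * a) = ⁅b⁻¹, a⁻¹⁆ := by rw [commutatorElement_def]; group
      rw [e]
      exact Subgroup.commutator_mem_commutator (Subgroup.mem_top _) (Subgroup.mem_top _)
    exact QuotientGroup.eq.2 this
  have hexp : ∀ x : X ⧸ D, x ^ p = 1 := by
    -- otherwise cyclic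
    by_contra hcon
    push Not at hcon
    obtain ⟨x, hx⟩ := hcon
    have h2 : orderOf x = p ^ 2 := by
      have h3 : orderOf x ∣ p ^ 2 := by rw [← hQ]; exact orderOf_dvd_natCard x
      obtain ⟨j, hj, hj2⟩ := (Nat.dvd_prime_pow hp.out).1 h3
      have : j = 2 := by
        by_contra hne
        apply hx
        apply orderOf_dvd_iff_pow_eq_one.1
        rw [hj2]
        calc p ^ j ∣ p ^ 1 := pow_dvd_pow p (by omega)
          _ = p := pow_one p
      rw [hj2, this]
    have hcyc : IsCyclic (X ⧸ D) := isCyclic_of_orderOf_eq_card x (by rw [h2, hQ])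
    -- then X is cyclic
    obtain ⟨g, hg⟩ := QuotientGroup.mk'_surjective D x
    have htop : Subgroup.zpowers g ⊔ frattini X = ⊤ := by
      rw [eq_top_iff]
      intro y _
      have hy : QuotientGroup.mk' D y ∈ Subgroup.zpowers x := by
        have : Subgroup.zpowers x = ⊤ := by
          rw [← Subgroup.card_eq_iff_eq_top, Nat.card_zpowers, h2, hQ]
        rw [this]; exact Subgroup.mem_top _
      obtain ⟨i, hi⟩ := Subgroup.mem_zpowers_iff.1 hy
      rw [← hg, ← map_zpow] at hi
      have h3 : (g ^ i)⁻¹ * y ∈ D := QuotientGroup.eq.1 hi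
      have e : y = g ^ i * ((g ^ i)⁻¹ * y) := by group
      rw [e]
      exact Subgroup.mul_mem_sup (Subgroup.zpow_mem_zpowers g i) (commutator_le_frattini h3)
    have h4 := eq_top_of_sup_frattini le_rfl htop
    have hXc : IsCyclic X := ⟨⟨g, fun y => by
      have hy : y ∈ Subgroup.zpowers g := by rw [h4]; exact Subgroup.mem_top _
      exact Subgroup.mem_zpowers_iff.1 hy⟩⟩
    letI : CommGroup X := IsCyclic.commGroup
    have h5 : D = ⊥ := by
      rw [hD, _root_.commutator_def, Subgroup.commutator_eq_bot_iff_le_centralizer]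
      intro x _
      rw [Subgroup.mem_centralizer_iff]
      intro y _
      exact mul_comm y x
    rw [h5, Subgroup.index_bot, hG] at h1
    have := Nat.pow_right_injective hp.out.two_le h1
    omega
  have hcount := card_subgroups_order_p hexp
  rw [hQ] at hcount
  have hDN : ∀ N : Subgroup X, N.Normal → N.index = p → D ≤ N := by
    intro N hN hi
    have : Nat.card (X ⧸ N) = p := by rw [← Subgroup.index_eq_card]; exact hi
    haveI := isCyclic_of_prime_card this
    letI : CommGroup (X ⧸ N) := IsCyclic.commGroup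
    rw [hD, _root_.commutator_def, Subgroup.commutator_le]
    intro a _ b _
    rw [← QuotientGroup.eq_one_iff]
    change QuotientGroup.mk' N ⁅a, b⁆ = 1
    rw [map_commutatorElement, commutatorElement_eq_one_iff_mul_comm]
    exact mul_comm _ _
  let e : {N : Subgroup X // N.Normal ∧ N.index = p} ≃ {H : Subgroup (X ⧸ D) // Nat.card H = p} := 
    { toFun := fun N => ⟨N.1.map (QuotientGroup.mk' D), by
        have h2 := Subgroup.index_map_eq (H := N.1) (QuotientGroup.mk'_surjective D) (by rw [QuotientGroup.ker_mk']; exact hDN N.1 N.2.1 N.2.2)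
        have h3 := Subgroup.card_mul_index (N.1.map (QuotientGroup.mk' D))
        rw [h2, N.2.2, hQ, pow_two] at h3
        exact Nat.eq_of_mul_eq_mul_right hp.out.pos h3⟩
      invFun := fun H => ⟨H.1.comap (QuotientGroup.mk' D), by
        haveI : H.1.Normal := ⟨fun n hn g => by rw [hQc g n, mul_inv_cancel_right]; exact hn⟩
        infer_instance, by
        rw [Subgroup.index_comap_of_surjective _ (QuotientGroup.mk'_surjective D)]
        have h3 := Subgroup.card_mul_index H.1
        rw [H.2, hQ, pow_two] at h3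
        exact Nat.eq_of_mul_eq_mul_left hp.out.pos h3⟩
      left_inv := by
        rintro ⟨N, hN, hi⟩
        apply Subtype.ext
        change (N.map (QuotientGroup.mk' D)).comap (QuotientGroup.mk' D) = N
        rw [Subgroup.comap_map_eq, QuotientGroup.ker_mk', sup_eq_left]
        exact hDN N hN hi
      right_inv := by
        rintro ⟨H, hH⟩
        apply Subtype.ext
        exact Subgroup.map_comap_eq_self_of_surjective (QuotientGroup.mk'_surjective D) H }
  rw [Nat.card_congr e]
  have h2 : p ^ 2 - 1 = (p + 1) * (p - 1) := by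
    have := Nat.sq_sub_sq p 1
    rw [one_pow] at this; exact this
  rw [h2] at hcount
  exact Nat.eq_of_mul_eq_mul_right (by have := hp.out.two_le; omega) hcount

end CfsgH1
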