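import Cfsg.Agent.H1.MaxClass
import Cfsg.Agent.H1.Regular
import Cfsg.Agent.H3.Rank2
import Cfsg.Prelude.Def_OddOrderLocal

set_option autoImplicit false

/-! Metacyclic p-groups and Huppert's criterion. -/

open Cfsg Subgroup
open scoped Pointwise commutatorElement

namespace CfsgH1

universe u v

theorem noncyclic_normal {R : Type u} [Group R] [Finite R] {p : ℕ} [hp : Fact p.Prime] (hp2 : p ≠ 2) (hR : IsPGroup p R) (n : ℕ) : 
    ∀ S : Subgroup R, S.Normal → Nat.card S = n → ¬ IsCyclic S → ∃ A : Subgroup R, A ≤ S ∧ A.Normal ∧ IsElementaryAbelian p A ∧ Nat.card A = p ^ 2 := by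
  induction n using Nat.strong_induction_on with
  | _ n ih =>
  intro S hSn hS hnc
  obtain ⟨m, hm⟩ := IsPGroup.iff_card.1 (hR.to_subgroup S)
  rcases Nat.eq_zero_or_pos m with h0 | h0
  · exfalso
    apply hnc
    rw [h0, pow_zero] at hm
    have := Subgroup.eq_bot_of_card_eq S hm
    rw [this]; infer_instance
  obtain ⟨M, hMS, hMn, hM⟩ := CfsgH3.exists_normal_card hR S (m - 1) (by rw [hm]; exact Nat.pow_le_pow_right hp.out.pos (by omega))
  by_cases hMc : IsCyclic M
  · have hidx : (M.subgroupOf S).index = p := by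
      have h1 := Subgroup.card_mul_index (M.subgroupOf S)
      rw [Nat.card_congr (Subgroup.subgroupOfEquivOfLe hMS).toEquiv, hM, hm] at h1
      have h2 : p ^ m = p ^ (m - 1) * p := by rw [← pow_succ]; congr 1; omega
      rw [h2] at h1
      exact Nat.eq_of_mul_eq_mul_left (pow_pos hp.out.pos _) h1
    have hcyc : IsCyclic (M.subgroupOf S) := isCyclic_of_surjective (Subgroup.subgroupOfEquivOfLe hMS).symm.toMonoidHom (Subgroup.subgroupOfEquivOfLe hMS).symm.surjective
    obtain ⟨h1, h2⟩ := CfsgH3.cyclic_index hp2 (hR.to_subgroup S) hnc (M.subgroupOf S) hcyc hidx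
    set Ω := closure {x : S | x ^ p = 1} with hΩ
    have hchar : Ω.Characteristic := by
      rw [Subgroup.characteristic_iff_map_le]
      intro φ
      rw [Subgroup.map_le_iff_le_comap, hΩ, Subgroup.closure_le]
      intro x hx
      apply Subgroup.subset_closure
      change (φ x) ^ p = 1
      rw [← map_pow, show x ^ p = 1 from hx, map_one]
    refine ⟨Ω.map S.subtype, Subgroup.map_subtype_le _, ?_, ?_, ?_⟩
    · rw [← Subgroup.normalizer_eq_top_iff, eq_top_iff, ← Subgroup.normalizer_eq_top_iff.2 hSn]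
      exact normalizer_le_map_characteristic Ω
    · rw [CfsgH3.isElementaryAbelian_iff']
      constructor
      · rintro _ ⟨a, ha, rfl⟩ _ ⟨b, hb, rfl⟩
        have h3 := (IsPGroup.isMulCommutative_of_card_eq_prime_sq h2).is_comm.comm (⟨a, ha⟩ : Ω) ⟨b, hb⟩
        have h4 : a * b = b * a := congrArg Subtype.val h3
        rw [← map_mul, ← map_mul, h4]
      · rintro _ ⟨a, ha, rfl⟩
        rw [← map_pow, h1 a ha, map_one]
    · rw [Subgroup.card_map_of_injective (Subgroup.subtype_injective _), h2]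
  · have hlt : Nat.card M < n := by
      rw [← hS, hM, hm]
      exact Nat.pow_lt_pow_right hp.out.one_lt (by omega)
    obtain ⟨A, hA1, hA2, hA3, hA4⟩ := ih _ hlt M hMn rfl hMc
    exact ⟨A, hA1.trans hMS, hA2, hA3, hA4⟩

theorem omegaOne_top {R : Type u} [Group R] (p : ℕ) : omegaOne p (⊤ : Subgroup R) = closure {x : R | x ^ p = 1} := by
  unfold omegaOne
  congr 1
  ext x
  simp

theorem zpowers_card_le_of_cyclic {R : Type u} [Group R] [Finite R] [hc : IsCyclic R] {p : ℕ} (hp : 0 < p) : ∃ A : Subgroup R, Nat.card A ≤ p ∧ ∀ x : R, x ^ p = 1 → x ∈ A := by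
  classical
  letI : CommGroup R := IsCyclic.commGroup
  let A : Subgroup R := (powMonoidHom p : R →* R).ker
  refine ⟨A, ?_, fun x hx => hx⟩
  haveI := Fintype.ofFinite R
  have h1 := IsCyclic.card_pow_eq_one_le (α := R) hp
  have h2 : Nat.card A = (Finset.univ.filter fun a : R => a ^ p = 1).card := by
    rw [Nat.card_eq_fintype_card, Fintype.card_subtype]
    apply congrArg
    ext a
    simp only [Finset.mem_filter, Finset.mem_univ, true_and]
    exact Iff.rfl
  rw [h2]; exact h1

/-- **S0638** -/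
theorem metacyclic_omega {R : Type u} [Group R] [Finite R] {p : ℕ} [hp : Fact p.Prime] (hp2 : p ≠ 2) (hR : IsPGroup p R) (hm : IsMetacyclic R) (hnc : ¬ IsCyclic R) : 
    IsElementaryAbelian p (omegaOne p (⊤ : Subgroup R)) ∧ Nat.card (omegaOne p (⊤ : Subgroup R)) = p ^ 2 := by
  obtain ⟨N, hNn, hNc, hQc⟩ := hm
  obtain ⟨Ω, hΩc, hΩ⟩ := zpowers_card_le_of_cyclic (R := R ⧸ N) (p := p) hp.out.pos
  set M := Ω.comap (QuotientGroup.mk' N) with hM
  have hNM : N ≤ M := by
    intro x hx
    rw [hM, Subgroup.mem_comap, show QuotientGroup.mk' N x = 1 from (QuotientGroup.eq_one_iff x).2 hx]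
    exact one_mem _
  have hxM : ∀ x : R, x ^ p = 1 → x ∈ M := by
    intro x hx
    apply hΩ
    rw [← map_pow, hx, map_one]
  have hcardM : Nat.card M = Nat.card Ω * Nat.card N := by
    have := card_map_mul_card_ker_of_le (QuotientGroup.mk' N) M (by rw [QuotientGroup.ker_mk']; exact hNM)
    rw [QuotientGroup.ker_mk', hM, Subgroup.map_comap_eq_self_of_surjective (QuotientGroup.mk'_surjective N)] at this
    exact this.symm
  have hidx : (N.subgroupOf M).index = Nat.card Ω := by
    have h1 := Subgroup.card_mul_index (N.subgroupOf M)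
    rw [Nat.card_congr (Subgroup.subgroupOfEquivOfLe hNM).toEquiv, hcardM, mul_comm] at h1
    exact Nat.eq_of_mul_eq_mul_right Nat.card_pos h1
  have hMnc : ¬ IsCyclic M := by
    intro hMc
    obtain ⟨A, hA, hA2⟩ := zpowers_card_le_of_cyclic (R := M) (p := p) hp.out.pos
    apply hnc
    apply CfsgH3.cyclic_of_unique hp2 (Nat.card R) R rfl hR (A.map M.subtype)
    · rw [Subgroup.card_map_of_injective (Subgroup.subtype_injective _)]; exact hA
    · intro x hx
      exact ⟨⟨x, hxM x hx⟩, hA2 _ (Subtype.ext hx), rfl⟩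
  have hidxp : (N.subgroupOf M).index = p := by
    obtain ⟨k, hk⟩ := IsPGroup.iff_card.1 ((hR.to_quotient N).to_subgroup Ω)
    rw [hidx]
    rw [hk] at hΩc ⊢
    have h2 : k ≤ 1 := by
      by_contra h
      have : p ^ 1 < p ^ k := Nat.pow_lt_pow_right hp.out.one_lt (by omega)
      rw [pow_one] at this
      omega
    rcases Nat.eq_zero_or_pos k with h0 | h0
    · exfalso
      rw [h0, pow_zero] at hk
      rw [hk, one_mul] at hcardM
      have h3 : N = M := Subgroup.eq_of_le_of_card_ge hNM hcardM.le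
      rw [← h3] at hMnc
      exact hMnc hNc
    · have : k = 1 := by omega
      rw [this, pow_one]
  have hcyc : IsCyclic (N.subgroupOf M) := isCyclic_of_surjective (Subgroup.subgroupOfEquivOfLe hNM).symm.toMonoidHom (Subgroup.subgroupOfEquivOfLe hNM).symm.surjective
  obtain ⟨h1, h2⟩ := CfsgH3.cyclic_index hp2 (hR.to_subgroup M) hMnc (N.subgroupOf M) hcyc hidxp
  have hom : omegaOne p (⊤ : Subgroup R) = (closure {x : M | x ^ p = 1}).map M.subtype := by
    rw [omegaOne_top, MonoidHom.map_closure]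
    congr 1
    ext x
    constructor
    · intro hx
      exact ⟨⟨x, hxM x hx⟩, Subtype.ext hx, rfl⟩
    · rintro ⟨y, hy, rfl⟩
      exact congrArg Subtype.val hy
  rw [hom]
  refine ⟨?_, by rw [Subgroup.card_map_of_injective (Subgroup.subtype_injective _), h2]⟩
  rw [CfsgH3.isElementaryAbelian_iff']
  constructor
  · rintro _ ⟨a, ha, rfl⟩ _ ⟨b, hb, rfl⟩
    have h3 := (IsPGroup.isMulCommutative_of_card_eq_prime_sq h2).is_comm.comm (⟨a, ha⟩ : closure {x : M | x ^ p = 1}) ⟨b, hb⟩
    have h4 : a * b = b * a := congrArg Subtype.val h3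
    rw [← map_mul, ← map_mul, h4]
  · rintro _ ⟨a, ha, rfl⟩
    rw [← map_pow, h1 a ha, map_one]

theorem class_two_central {X : Type u} [Group X] [Group.IsNilpotent X] (h : Group.nilpotencyClass X ≤ 2) (x y z : X) : Commute ⁅x, y⁆ z := by
  rw [← Subgroup.lowerCentralSeries_eq_bot_iff_nilpotencyClass_le] at h
  have h1 : ⁅⁅x, y⁆, z⁆ ∈ Subgroup.lowerCentralSeries (⊤ : Subgroup X) 2 := by
    rw [Subgroup.lowerCentralSeries_succ, Subgroup.top_lowerCentralSeries_one]
    exact Subgroup.commutator_mem_commutator (Subgroup.commutator_mem_commutator (Subgroup.mem_top _) (Subgroup.mem_top _)) (Subgroup.mem_top _)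
  rw [h, Subgroup.mem_bot] at h1
  exact commutatorElement_eq_one_iff_mul_comm.1 h1

theorem class_three_central {X : Type u} [Group X] [Group.IsNilpotent X] (h : Group.nilpotencyClass X ≤ 3) (x y z w : X) : Commute ⁅⁅x, y⁆, z⁆ w := by
  rw [← Subgroup.lowerCentralSeries_eq_bot_iff_nilpotencyClass_le] at h
  have h1 : ⁅⁅⁅x, y⁆, z⁆, w⁆ ∈ Subgroup.lowerCentralSeries (⊤ : Subgroup X) 3 := by
    rw [Subgroup.lowerCentralSeries_succ, Subgroup.lowerCentralSeries_succ, Subgroup.top_lowerCentralSeries_one]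
    exact Subgroup.commutator_mem_commutator (Subgroup.commutator_mem_commutator (Subgroup.commutator_mem_commutator (Subgroup.mem_top _) (Subgroup.mem_top _)) (Subgroup.mem_top _)) (Subgroup.mem_top _)
  rw [h, Subgroup.mem_bot] at h1
  exact commutatorElement_eq_one_iff_mul_comm.1 h1

/-- p-power map in class two with commutators of exponent p. -/
theorem pow_p_class_two {X : Type u} [Group X] {p : ℕ} (hp : p.Prime) (hp2 : p ≠ 2) {x y : X} (hc : ∀ z, Commute ⁅y⁻¹, x⁻¹⁆ z) (hcp : ⁅y⁻¹, x⁻¹⁆ ^ p = 1) : (x * y) ^ p = x ^ p * y ^ p := by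
  apply CfsgH3.pow_p_of hp hp2 (c := ⁅y⁻¹, x⁻¹⁆) (u := 1) (v := 1) _ _ _ (Commute.one_left _) (Commute.one_left _) (Commute.one_left _) (Commute.one_left _) (Commute.one_left _) (Commute.one_left _) (Commute.one_left _) (Or.inr ⟨rfl, rfl⟩) hcp
  · have := hc (x * y)
    rw [commutatorElement_def] at this ⊢
    have h1 : x * y * (y⁻¹ * x⁻¹ * y⁻¹⁻¹ * x⁻¹⁻¹) = y * x := by group
    rw [h1]
  · rw [mul_one]; exact hc x
  · rw [mul_one]; exact hc y

theorem omega_sub {X : Type u} [Group X] [Finite X] {p : ℕ} [hp : Fact p.Prime] (h : Nat.card (omegaOne p (⊤ : Subgroup X)) ≤ p ^ 2) (H : Subgroup X) : Nat.card (omegaOne p (⊤ : Subgroup H)) ≤ p ^ 2 := by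
  rw [← Subgroup.card_map_of_injective (Subgroup.subtype_injective H)]
  refine le_trans (Subgroup.card_le_of_le ?_) h
  rw [omegaOne_top, omegaOne_top, MonoidHom.map_closure, Subgroup.closure_le]
  rintro _ ⟨x, hx, rfl⟩
  exact Subgroup.subset_closure (congrArg Subtype.val hx)

theorem card_le_of_exp {X : Type u} [Group X] [Finite X] {p : ℕ} [hp : Fact p.Prime] (h : Nat.card (omegaOne p (⊤ : Subgroup X)) ≤ p ^ 2) {K : Subgroup X} (hK : ∀ x ∈ K, x ^ p = 1) : Nat.card K ≤ p ^ 2 := by
  refine le_trans (Subgroup.card_le_of_le ?_) h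
  intro x hx
  rw [omegaOne_top]
  exact Subgroup.subset_closure (hK x hx)

/-- existence of a subgroup of order `p³` and exponent `p`. -/
theorem exists_cubed {Q : Type u} [Group Q] [Finite Q] {p : ℕ} [hp : Fact p.Prime] (hp2 : p ≠ 2) (hQ : IsPGroup p Q) (h : ¬ Nat.card (omegaOne p (⊤ : Subgroup Q)) ≤ p ^ 2) : 
    ∃ Y : Subgroup Q, Nat.card Y = p ^ 3 ∧ ∀ y ∈ Y, y ^ p = 1 := by
  by_cases hE : ∃ E : Subgroup Q, (∀ a ∈ E, ∀ b ∈ E, a * b = b * a) ∧ (∀ a ∈ E, a ^ p = 1) ∧ ¬ Nat.card E ≤ p ^ 2
  · obtain ⟨E, hEc, hEe, hEn⟩ := hE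
    obtain ⟨m, hm⟩ := IsPGroup.iff_card.1 (hQ.to_subgroup E)
    have hm3 : 3 ≤ m := by
      by_contra hlt
      apply hEn
      rw [hm]
      exact Nat.pow_le_pow_right hp.out.pos (by omega)
    obtain ⟨Y, hY⟩ := Sylow.exists_subgroup_card_pow_prime (G := E) p (n := 3) (by rw [hm]; exact pow_dvd_pow p hm3)
    refine ⟨Y.map E.subtype, ?_, ?_⟩
    · rw [Subgroup.card_map_of_injective (Subgroup.subtype_injective _), hY]
    · rintro _ ⟨y, hy, rfl⟩
      exact hEe _ y.2
  · push Not at hE
    have hnc : ¬ IsCyclic Q := by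
      intro hc
      obtain ⟨A, hA, hA2⟩ := zpowers_card_le_of_cyclic (R := Q) (p := p) hp.out.pos
      apply h
      rw [omegaOne_top]
      have h1 : closure {x : Q | x ^ p = 1} ≤ A := by
        rw [Subgroup.closure_le]; intro x hx; exact hA2 x hx
      have h2 := Subgroup.card_le_of_le h1
      have h3 : p ≤ p ^ 2 := by
        rw [pow_two]; exact Nat.le_mul_of_pos_left p hp.out.pos
      omega
    obtain ⟨A, hAn, hAc, hAe, hA⟩ := CfsgH3.exists_normal_sq hp2 hQ hnc
    haveI := hAn
    obtain ⟨x, hx, hxA⟩ : ∃ x : Q, x ^ p = 1 ∧ x ∉ A := by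
      by_contra hcon
      push Not at hcon
      apply h
      rw [omegaOne_top, ← hA]
      apply Subgroup.card_le_of_le
      rw [Subgroup.closure_le]
      intro x hx
      exact hcon x hx
    have hx1 : x ≠ 1 := fun h => hxA (h ▸ one_mem _)
    have hordx : Nat.card (zpowers x) = p := by rw [Nat.card_zpowers]; exact orderOf_eq_prime hx hx1
    have hinf : A ⊓ zpowers x = ⊥ := by
      have h1 : Nat.card (A ⊓ zpowers x : Subgroup Q) ∣ p := by rw [← hordx]; exact Subgroup.card_dvd_of_le inf_le_right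
      rcases (Nat.dvd_prime hp.out).1 h1 with h2 | h2
      · exact Subgroup.eq_bot_of_card_eq _ h2
      · exfalso
        apply hxA
        have h3 : A ⊓ zpowers x = zpowers x := Subgroup.eq_of_le_of_card_ge inf_le_right (by rw [h2, hordx])
        have h4 : zpowers x ≤ A := by rw [← h3]; exact inf_le_left
        exact h4 (Subgroup.mem_zpowers x)
    set Y := A ⊔ zpowers x with hY
    have hcardY : Nat.card Y = p ^ 3 := by
      have h1 := card_sup_mul_card_inf (H := zpowers x) (K := A) (by rw [Subgroup.normalizer_eq_top_iff.2 hAn]; exact le_top)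
      rw [inf_comm, hinf, Subgroup.card_bot, mul_one, hordx, hA, sup_comm] at h1
      rw [hY, h1]; ring
    have hYcl := class_le_pred (X := Y) (p := p) (r := 3) (by norm_num) hcardY
    haveI : Group.IsNilpotent Y := (hQ.to_subgroup Y).isNilpotent
    refine ⟨Y, hcardY, ?_⟩
    intro y hy
    obtain ⟨a, ha, b, hb, rfl⟩ := (Subgroup.mem_sup_of_normal_left).1 hy
    have haY : a ∈ Y := Subgroup.mem_sup_left ha
    have hbY : b ∈ Y := Subgroup.mem_sup_right hb
    have hbp : b ^ p = 1 := by
      obtain ⟨i, rfl⟩ := Subgroup.mem_zpowers_iff.1 hb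
      rw [← zpow_natCast, ← _root_.zpow_mul, mul_comm, _root_.zpow_mul, zpow_natCast, hx, _root_.one_zpow]
    have key := pow_p_class_two (X := Y) hp.out hp2 (x := ⟨a, haY⟩) (y := ⟨b, hbY⟩) (fun z => class_two_central hYcl _ _ z) (by
      apply Subtype.ext
      change (⁅b⁻¹, a⁻¹⁆) ^ p = 1
      apply hAe
      rw [commutatorElement_def]
      have h1 := hAn.conj_mem a⁻¹ (inv_mem ha) b⁻¹
      exact mul_mem h1 (inv_mem (inv_mem ha)))
    have key2 : (a * b) ^ p = a ^ p * b ^ p := congrArg Subtype.val key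
    rw [key2, hAe a ha, hbp, one_mul]

/-- quotient by a central subgroup of order `p` -/
theorem omega_quot_one {R : Type u} [Group R] [Finite R] {p : ℕ} [hp : Fact p.Prime] (hp3 : 3 < p) (hR : IsPGroup p R) (hO : Nat.card (omegaOne p (⊤ : Subgroup R)) ≤ p ^ 2) 
    (T : Subgroup R) [hTn : T.Normal] (hT : Nat.card T = p) (hTc : T ≤ center R) : Nat.card (omegaOne p (⊤ : Subgroup (R ⧸ T))) ≤ p ^ 2 := by
  have hp2 : p ≠ 2 := by omega
  by_contra hcon
  obtain ⟨Y, hY, hYe⟩ := exists_cubed hp2 (hR.to_quotient T) hcon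
  set W := Y.comap (QuotientGroup.mk' T) with hW
  have hTW : T ≤ W := by
    intro x hx
    rw [hW, Subgroup.mem_comap, show QuotientGroup.mk' T x = 1 from (QuotientGroup.eq_one_iff x).2 hx]
    exact one_mem _
  have hcardW : Nat.card W = p ^ 4 := by
    have := card_map_mul_card_ker_of_le (QuotientGroup.mk' T) W (by rw [QuotientGroup.ker_mk']; exact hTW)
    rw [QuotientGroup.ker_mk', hW, Subgroup.map_comap_eq_self_of_surjective (QuotientGroup.mk'_surjective T), hY, hT] at this
    rw [← this]; ring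
  have hWcl := class_le_pred (X := W) (p := p) (r := 4) (by norm_num) hcardW
  haveI : Group.IsNilpotent W := (hR.to_subgroup W).isNilpotent
  have hpow : ∀ w : W, (w : R) ^ p ∈ T := by
    intro w
    rw [← QuotientGroup.eq_one_iff]
    exact hYe _ w.2
  have hpowc : ∀ w z : W, Commute (w ^ p) z := by
    intro w z
    apply Subtype.ext
    exact ((Subgroup.mem_center_iff.1 (hTc (hpow w))) z).symm
  -- the power map
  have hmul : ∀ x y : W, (x * y) ^ p = x ^ p * y ^ p := by
    intro x y
    set c : W := ⁅y⁻¹, x⁻¹⁆ with hc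
    set u : W := ⁅c⁻¹, x⁻¹⁆ with hu
    set v : W := ⁅c⁻¹, y⁻¹⁆ with hv
    have h0 : y * x = x * y * c := by rw [hc, commutatorElement_def]; group
    have hx : c * x = x * c * u := by rw [hu, commutatorElement_def]; group
    have hy : c * y = y * c * v := by rw [hv, commutatorElement_def]; group
    have hcomm : ∀ z w : W, Commute ⁅c⁻¹, z⁆ w := by
      intro z w
      have e : c⁻¹ = ⁅x⁻¹, y⁻¹⁆ := by rw [hc, commutatorElement_inv]
      rw [e]
      exact class_three_central hWcl _ _ _ _
    have hvp : v ^ p = 1 := by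
      have h1 := CfsgH3.cy_pow hy (hcomm _ _) (hcomm _ _) p
      rw [(hpowc y c).eq] at h1
      exact (left_eq_mul.mp h1)
    have hcp : c ^ p = 1 := by
      have h1 := CfsgH3.yn_x h0 hy (hcomm _ _) (hcomm _ _) p
      rw [CfsgH3.pow_eq_one_of_dvd' hvp (CfsgH3.dvd_choose_two hp.out hp2), mul_one, (hpowc y x).eq] at h1
      exact (left_eq_mul.mp h1)
    exact CfsgH3.pow_p_of hp.out hp2 h0 hx hy (hcomm _ _) (hcomm _ _) (hcomm _ _) (hcomm _ _) (hcomm _ _) (hcomm _ _) (hcomm _ _) (Or.inl hp3) hcp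
  let φ : W →* R := MonoidHom.mk' (fun w => ((w ^ p : W) : R)) (fun x y => by rw [hmul]; rfl)
  have hrange : φ.range ≤ T := by
    rintro _ ⟨w, rfl⟩
    exact hpow w
  have hker : Nat.card φ.ker ≤ p ^ 2 := by
    rw [← Subgroup.card_map_of_injective (Subgroup.subtype_injective W)]
    apply card_le_of_exp hO
    rintro _ ⟨w, hw, rfl⟩
    exact (MonoidHom.mem_ker.1 hw)
  have h1 := Subgroup.card_mul_index φ.ker
  rw [Subgroup.index_ker, hcardW] at h1
  have h2 : Nat.card φ.range ≤ p := by rw [← hT]; exact Subgroup.card_le_of_le hrange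
  have h3 : p ^ 4 ≤ p ^ 2 * p := by rw [← h1]; exact Nat.mul_le_mul hker h2
  rw [← pow_succ] at h3
  have := (Nat.pow_le_pow_iff_right hp.out.one_lt).1 h3
  omega

theorem omega_card_congr {X : Type u} {Y : Type v} [Group X] [Group Y] {p : ℕ} (e : X ≃* Y) : Nat.card (omegaOne p (⊤ : Subgroup X)) = Nat.card (omegaOne p (⊤ : Subgroup Y)) := by
  rw [omegaOne_top, omegaOne_top]
  have h1 : (closure {x : X | x ^ p = 1}).map e.toMonoidHom = closure {x : Y | x ^ p = 1} := by
    rw [MonoidHom.map_closure]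
    congr 1
    ext y
    constructor
    · rintro ⟨x, hx, rfl⟩
      change (e x) ^ p = 1
      rw [← map_pow, show x ^ p = 1 from hx, map_one]
    · intro hy
      refine ⟨e.symm y, ?_, e.apply_symm_apply y⟩
      change (e.symm y) ^ p = 1
      rw [← map_pow, show y ^ p = 1 from hy, map_one]
  rw [← h1]
  exact (Nat.card_congr (Subgroup.equivMapOfInjective _ e.toMonoidHom e.injective).toEquiv)

theorem exists_central_order_p {R : Type u} [Group R] [Finite R] {p : ℕ} [hp : Fact p.Prime] (hR : IsPGroup p R) {T : Subgroup R} [T.Normal] (hT : T ≠ ⊥) : ∃ T₁ : Subgroup R, T₁ ≤ T ∧ T₁.Normal ∧ T₁ ≤ center R ∧ Nat.card T₁ = p := by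
  obtain ⟨z, hz1, hz2, hz3⟩ := CfsgH3.exists_center_mem hR T hT
  refine ⟨zpowers z, Subgroup.zpowers_le.2 hz1, ?_, Subgroup.zpowers_le.2 hz2, by rw [Nat.card_zpowers, hz3]⟩
  refine ⟨fun n hn g => ?_⟩
  have h1 : n ∈ center R := (Subgroup.zpowers_le.2 hz2) hn
  rw [Subgroup.mem_center_iff.1 h1 g, mul_inv_cancel_right]
  exact hn

/-- **S0637** -/
theorem omega_quot {p : ℕ} [hp : Fact p.Prime] (hp3 : 3 < p) (n : ℕ) : ∀ (R : Type u) [Group R] [Finite R], Nat.card R = n → IsPGroup p R → Nat.card (omegaOne p (⊤ : Subgroup R)) ≤ p ^ 2 → 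
    ∀ (T : Subgroup R) [T.Normal], Nat.card (omegaOne p (⊤ : Subgroup (R ⧸ T))) ≤ p ^ 2 := by
  induction n using Nat.strong_induction_on with
  | _ n ih =>
  intro R _ _ hn hR hO T _
  by_cases hT : T = ⊥
  · subst hT
    rw [← omega_card_congr (QuotientGroup.quotientBot (G := R)).symm]
    exact hO
  · obtain ⟨T₁, hT1, hTn, hTc, hTp⟩ := exists_central_order_p hR hT
    have h1 := omega_quot_one hp3 hR hO T₁ hTp hTc
    have hlt : Nat.card (R ⧸ T₁) < n := by
      rw [← hn, ← Subgroup.index_eq_card, ← Subgroup.card_mul_index T₁, hTp]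
      apply lt_mul_of_one_lt_left
      · exact Nat.pos_of_ne_zero Subgroup.FiniteIndex.index_ne_zero
      · exact hp.out.one_lt
    haveI : (T.map (QuotientGroup.mk' T₁)).Normal := Subgroup.Normal.map inferInstance _ (QuotientGroup.mk'_surjective _)
    have h2 := ih _ hlt (R ⧸ T₁) rfl (hR.to_quotient T₁) h1 (T.map (QuotientGroup.mk' T₁))
    rw [omega_card_congr (QuotientGroup.quotientQuotientEquivQuotient T₁ T hT1)] at h2
    exact h2

theorem isMetacyclic_of_cyclic {R : Type u} [Group R] (h : IsCyclic R) : IsMetacyclic R := by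
  refine ⟨⊥, inferInstance, inferInstance, ?_⟩
  exact isCyclic_of_surjective (QuotientGroup.mk' (⊥ : Subgroup R)) (QuotientGroup.mk'_surjective _)

/-- a cyclic normal subgroup generated by a non-Frattini element has cyclic quotient in a two-generator `p`-group -/
theorem cyclic_quot {R : Type u} [Group R] [Finite R] {p : ℕ} [hp : Fact p.Prime] (hR : IsPGroup p R) (hF : (frattini R).index ≤ p ^ 2) {g : R} (hg : g ∉ frattini R) 
    [hn : (zpowers g).Normal] : IsCyclic (R ⧸ zpowers g) := by
  set E := frattini R ⊔ zpowers g with hE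
  have hlt : frattini R < E := by
    refine lt_of_le_of_ne le_sup_left fun h => hg ?_
    rw [h]; exact Subgroup.mem_sup_right (Subgroup.mem_zpowers g)
  have hEi : E.index ≤ p := by
    have h1 := Subgroup.relIndex_mul_index hlt.le
    obtain ⟨k, hk⟩ := IsPGroup.iff_card.1 hR
    have h2 : (frattini R).relIndex E ∣ p ^ k := by
      rw [← hk]
      exact (Dvd.intro _ h1).trans (Subgroup.index_dvd_card _)
    obtain ⟨j, -, hj⟩ := (Nat.dvd_prime_pow hp.out).1 h2
    have h3 : j ≠ 0 := by
      rintro rfl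
      rw [pow_zero, Subgroup.relIndex_eq_one] at hj
      exact absurd hj (not_le_of_gt hlt)
    have h4 : p * E.index ≤ p ^ 2 := by
      refine le_trans ?_ (h1.le.trans hF)
      rw [hj]
      exact Nat.mul_le_mul_right _ (by calc p = p ^ 1 := (pow_one p).symm
        _ ≤ p ^ j := Nat.pow_le_pow_right hp.out.pos (by omega))
    rw [pow_two] at h4
    exact Nat.le_of_mul_le_mul_left h4 hp.out.pos
  -- choose h
  have : ∃ h : R, E ⊔ zpowers h = ⊤ := by
    by_cases hEt : E = ⊤
    · exact ⟨1, by rw [hEt, top_sup_eq]⟩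
    · obtain ⟨h, hh⟩ : ∃ h : R, h ∉ E := by
        by_contra hcon
        push Not at hcon
        exact hEt (eq_top_iff.2 fun x _ => hcon x)
      refine ⟨h, ?_⟩
      have hlt2 : E < E ⊔ zpowers h := by
        refine lt_of_le_of_ne le_sup_left fun e => hh ?_
        rw [e]; exact Subgroup.mem_sup_right (Subgroup.mem_zpowers h)
      have h1 := Subgroup.relIndex_mul_index hlt2.le
      obtain ⟨k, hk⟩ := IsPGroup.iff_card.1 hR
      have h2 : E.relIndex (E ⊔ zpowers h) ∣ p ^ k := by
        rw [← hk]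
        exact (Dvd.intro _ h1).trans (Subgroup.index_dvd_card _)
      obtain ⟨j, -, hj⟩ := (Nat.dvd_prime_pow hp.out).1 h2
      have h3 : j ≠ 0 := by
        rintro rfl
        rw [pow_zero, Subgroup.relIndex_eq_one] at hj
        exact absurd hj (not_le_of_gt hlt2)
      rw [← Subgroup.index_eq_one]
      have h4 : p ≤ E.relIndex (E ⊔ zpowers h) := by
        rw [hj]
        calc p = p ^ 1 := (pow_one p).symm
          _ ≤ p ^ j := Nat.pow_le_pow_right hp.out.pos (by omega)
      have h5 : p * (E ⊔ zpowers h).index ≤ p * 1 := by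
        rw [mul_one]
        exact (Nat.mul_le_mul_right _ h4).trans (h1.le.trans hEi)
      have h6 := Nat.le_of_mul_le_mul_left h5 hp.out.pos
      have h7 : (E ⊔ zpowers h).index ≠ 0 := Subgroup.FiniteIndex.index_ne_zero
      omega
  obtain ⟨h, hh⟩ := this
  have h1 : zpowers g ⊔ zpowers h = ⊤ := by
    apply eq_top_of_frattini_sup (F := frattini R) le_rfl
    rw [← sup_assoc]; exact hh
  refine ⟨⟨QuotientGroup.mk' _ h, ?_⟩⟩
  intro x
  obtain ⟨x, rfl⟩ := QuotientGroup.mk'_surjective _ x
  have hx : x ∈ zpowers g ⊔ zpowers h := by rw [h1]; exact Subgroup.mem_top _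
  obtain ⟨a, ha, b, hb, rfl⟩ := (Subgroup.mem_sup_of_normal_left).1 hx
  obtain ⟨i, rfl⟩ := Subgroup.mem_zpowers_iff.1 hb
  refine ⟨i, ?_⟩
  change (QuotientGroup.mk' (zpowers g) h) ^ i = _
  rw [map_mul, map_zpow, show QuotientGroup.mk' (zpowers g) a = 1 from (QuotientGroup.eq_one_iff a).2 ha, one_mul]

/-- index of the Frattini subgroup and of the power subgroup. -/
theorem index_frattini_le {R : Type u} [Group R] [Finite R] {p : ℕ} [hp : Fact p.Prime] (hp3 : 3 < p) (hR : IsPGroup p R) (hO : Nat.card (omegaOne p (⊤ : Subgroup R)) ≤ p ^ 2) (N : Subgroup R) [N.Normal] 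
    (hN : ∀ x : R, x ^ p ∈ N) : N.index ≤ p ^ 2 := by
  have h1 := omega_quot hp3 (Nat.card R) R rfl hR hO N
  have h2 : omegaOne p (⊤ : Subgroup (R ⧸ N)) = ⊤ := by
    rw [eq_top_iff, omegaOne_top]
    intro x _
    apply Subgroup.subset_closure
    obtain ⟨x, rfl⟩ := QuotientGroup.mk'_surjective N x
    change (QuotientGroup.mk' N x) ^ p = 1
    rw [← map_pow]
    exact (QuotientGroup.eq_one_iff _).2 (hN x)
  rw [h2, Subgroup.card_top] at h1
  exact h1

/-- **S0639** Huppert's criterion. -/
theorem huppert_metacyclic {p : ℕ} [hp : Fact p.Prime] (hp3 : 3 < p) (n : ℕ) : ∀ (R : Type u) [Group R] [Finite R], Nat.card R = n → IsPGroup p R → Nat.card (omegaOne p (⊤ : Subgroup R)) ≤ p ^ 2 → IsMetacyclic R := by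
  induction n using Nat.strong_induction_on with
  | _ n ih =>
  intro R _ _ hn hR hO
  have hp2 : p ≠ 2 := by omega
  haveI : Group.IsNilpotent R := hR.isNilpotent
  have hF : (frattini R).index ≤ p ^ 2 := index_frattini_le hp3 hR hO (frattini R) (pow_mem_frattini hR)
  by_cases hcyc : IsCyclic R
  · exact isMetacyclic_of_cyclic hcyc
  haveI : Nontrivial R := by
    by_contra h
    rw [not_nontrivial_iff_subsingleton] at h
    exact hcyc inferInstance
  by_cases hab : commutator R = ⊥
  · -- abelian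
    have hcomm : ∀ x y : R, x * y = y * x := by
      intro x y
      have h1 : ⁅x, y⁆ ∈ commutator R := Subgroup.commutator_mem_commutator (Subgroup.mem_top _) (Subgroup.mem_top _)
      rw [hab, Subgroup.mem_bot] at h1
      exact commutatorElement_eq_one_iff_mul_comm.1 h1
    obtain ⟨g, hg⟩ : ∃ g : R, g ∉ frattini R := by
      by_contra hcon
      push Not at hcon
      exact frattini_ne_top_of (eq_top_iff.2 fun x _ => hcon x)
    haveI hn' : (zpowers g).Normal := ⟨fun n hn h => by rw [hcomm h n, mul_inv_cancel_right]; exact hn⟩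
    exact ⟨zpowers g, hn', inferInstance, cyclic_quot hR hF hg⟩
  · obtain ⟨T, hTR, hTn, hTc, hT⟩ := exists_central_order_p hR hab
    have hTb : T ≠ ⊥ := by rintro rfl; rw [Subgroup.card_bot] at hT; exact hp.out.one_lt.ne hT
    have hlt : Nat.card (R ⧸ T) < n := by
      rw [← hn, ← Subgroup.index_eq_card, ← Subgroup.card_mul_index T, hT]
      apply lt_mul_of_one_lt_left
      · exact Nat.pos_of_ne_zero Subgroup.FiniteIndex.index_ne_zero
      · exact hp.out.one_lt
    obtain ⟨Nb, hNbn, hNbc, hQc⟩ := ih _ hlt (R ⧸ T) rfl (hR.to_quotient T) (omega_quot_one hp3 hR hO T hT hTc)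
    set N := Nb.comap (QuotientGroup.mk' T) with hN
    haveI hNn : N.Normal := hNbn.comap _
    have hTN : T ≤ N := by
      intro x hx
      rw [hN, Subgroup.mem_comap, show QuotientGroup.mk' T x = 1 from (QuotientGroup.eq_one_iff x).2 hx]
      exact one_mem _
    -- R/N is cyclic
    have hRN : IsCyclic (R ⧸ N) := by
      let g : R →* (R ⧸ T) ⧸ Nb := (QuotientGroup.mk' Nb).comp (QuotientGroup.mk' T)
      have hg : Function.Surjective g := (QuotientGroup.mk'_surjective _).comp (QuotientGroup.mk'_surjective _)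
      have hgk : g.ker = N := by
        ext x
        rw [MonoidHom.mem_ker, hN, Subgroup.mem_comap, ← QuotientGroup.eq_one_iff]
        rfl
      let e := (QuotientGroup.quotientMulEquivOfEq hgk.symm).trans (QuotientGroup.quotientKerEquivOfSurjective g hg)
      exact isCyclic_of_surjective e.symm.toMonoidHom e.symm.surjective
    by_cases hNc : IsCyclic N
    · exact ⟨N, hNn, hNc, hRN⟩
    obtain ⟨⟨yb, hyb⟩⟩ := hRN
    obtain ⟨y, rfl⟩ := QuotientGroup.mk'_surjective N yb
    obtain ⟨⟨⟨xb, hxb⟩, hxg⟩⟩ := hNbc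
    obtain ⟨x, rfl⟩ := QuotientGroup.mk'_surjective T xb
    have hxN : x ∈ N := hxb
    have hNgen : ∀ a ∈ N, ∃ t ∈ T, ∃ i : ℤ, a = t * x ^ i := by
      intro a ha
      obtain ⟨i, hi⟩ := hxg ⟨QuotientGroup.mk' T a, ha⟩
      have h1 : QuotientGroup.mk' T (x ^ i) = QuotientGroup.mk' T a := by rw [map_zpow]; exact congrArg Subtype.val hi
      have h2 : (x ^ i)⁻¹ * a ∈ T := QuotientGroup.eq.1 h1
      refine ⟨(x ^ i)⁻¹ * a, h2, i, ?_⟩
      have h3 := Subgroup.mem_center_iff.1 (hTc h2) (x ^ i)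
      rw [← h3]; group
    have hTcomm : ∀ t ∈ T, ∀ z : R, z * t = t * z := fun t ht z => Subgroup.mem_center_iff.1 (hTc ht) z
    have hNab : ∀ a ∈ N, ∀ b ∈ N, a * b = b * a := by
      intro a ha b hb
      obtain ⟨t, ht, i, rfl⟩ := hNgen a ha
      obtain ⟨s, hs, j, rfl⟩ := hNgen b hb
      have h1 : Commute t (s * x ^ j) := (hTcomm t ht _).symm
      have h2 : Commute (x ^ i) (s * x ^ j) := by
        apply Commute.mul_right (hTcomm s hs _)
        exact (Commute.refl x).zpow_zpow i j
      exact (h1.mul_left h2)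
    have hRgen : ∀ r : R, ∃ a ∈ N, ∃ j : ℤ, r = y ^ j * a := by
      intro r
      obtain ⟨j, hj⟩ := hyb (QuotientGroup.mk' N r)
      have h1 : QuotientGroup.mk' N (y ^ j) = QuotientGroup.mk' N r := by rw [map_zpow]; exact hj
      exact ⟨(y ^ j)⁻¹ * r, QuotientGroup.eq.1 h1, j, by group⟩
    -- T ∩ ⟨x⟩ = 1
    have hTx : ∀ t ∈ T, t ∈ zpowers x → t = 1 := by
      intro t ht htx
      by_contra ht1
      apply hNc
      have h1 : T = zpowers t := by
        symm
        apply Subgroup.eq_of_le_of_card_ge (Subgroup.zpowers_le.2 ht)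
        rw [hT, Nat.card_zpowers]
        have h2 : orderOf t ∣ p := by
          have := Subgroup.orderOf_dvd_natCard T ht
          rwa [hT] at this
        rcases (Nat.dvd_prime hp.out).1 h2 with h3 | h3
        · exact absurd (orderOf_eq_one_iff.1 h3) ht1
        · exact h3.ge
      have h2 : T ≤ zpowers x := by rw [h1]; exact Subgroup.zpowers_le.2 htx
      refine ⟨⟨⟨x, hxN⟩, ?_⟩⟩
      rintro ⟨a, ha⟩
      obtain ⟨t', ht', i, rfl⟩ := hNgen a ha
      obtain ⟨j, hj⟩ := Subgroup.mem_zpowers_iff.1 (h2 ht')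
      refine ⟨j + i, ?_⟩
      apply Subtype.ext
      change x ^ (j + i) = t' * x ^ i
      rw [_root_.zpow_add, hj]
    -- the commutator subgroup
    set c := ⁅x, y⁆ with hc
    have hcN : c ∈ N := by
      rw [hc, commutatorElement_def]
      have h1 := hNn.conj_mem x⁻¹ (inv_mem hxN) y
      have e : x * y * x⁻¹ * y⁻¹ = x * (y * x⁻¹ * y⁻¹) := by group
      rw [e]; exact mul_mem hxN h1
    obtain ⟨t, ht, i, hci⟩ := hNgen c hcN
    have hyx : y * x * y⁻¹ = x * c⁻¹ := by
      have h1 : c⁻¹ * x = y * x * y⁻¹ := by rw [hc, commutatorElement_def]; group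
      rw [← h1, hNab _ (inv_mem hcN) _ hxN]
    have hycy : y * c * y⁻¹ = c ^ (1 - i) := by
      have h1 : y * c * y⁻¹ = t * (y * x * y⁻¹) ^ i := by
        rw [conj_zpow, hci]
        have := hTcomm t ht y
        calc y * (t * x ^ i) * y⁻¹ = (y * t) * x ^ i * y⁻¹ := by group
          _ = t * (y * x ^ i * y⁻¹) := by rw [this]; group
      have h2 : Commute x c⁻¹ := hNab _ hxN _ (inv_mem hcN)
      rw [h1, hyx, h2.mul_zpow, ← mul_assoc, ← hci, _root_.zpow_sub, zpow_one, _root_.inv_zpow]
    have hnormc : ∀ r : R, ∀ z ∈ zpowers c, r * z * r⁻¹ ∈ zpowers c := by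
      have hyn : y ∈ normalizer ((zpowers c : Subgroup R) : Set R) := by
        have h1 : (zpowers c).map (MulAut.conj y).toMonoidHom ≤ zpowers c := by
          rw [MonoidHom.map_zpowers, Subgroup.zpowers_le]
          change y * c * y⁻¹ ∈ zpowers c
          rw [hycy]; exact Subgroup.zpow_mem_zpowers _ _
        have h2 : (zpowers c).map (MulAut.conj y).toMonoidHom = zpowers c := Subgroup.eq_of_le_of_card_ge h1 (by
          rw [Subgroup.card_map_of_injective (MulAut.conj y).injective])
        rw [Subgroup.mem_normalizer_iff]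
        intro z
        constructor
        · intro hz
          exact h1 ⟨z, hz, rfl⟩
        · intro hz
          change y * z * y⁻¹ ∈ zpowers c at hz
          rw [← h2] at hz
          obtain ⟨w, hw, hwz⟩ := hz
          have : w = z := (MulAut.conj y).injective hwz
          rwa [← this]
      intro r z hz
      obtain ⟨a, ha, j, rfl⟩ := hRgen r
      have hzN : z ∈ N := (Subgroup.zpowers_le.2 hcN) hz
      have h1 : y ^ j * a * z * (y ^ j * a)⁻¹ = y ^ j * z * (y ^ j)⁻¹ := by
        have := hNab a ha z hzN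
        calc y ^ j * a * z * (y ^ j * a)⁻¹ = y ^ j * (a * z) * a⁻¹ * (y ^ j)⁻¹ := by group
          _ = y ^ j * (z * a) * a⁻¹ * (y ^ j)⁻¹ := by rw [this]
          _ = _ := by group
      rw [h1]
      exact (Subgroup.mem_normalizer_iff.1 (zpow_mem hyn j) z).1 hz
    have hRc : commutator R ≤ zpowers c := by
      have htop : (⊤ : Subgroup R) = closure ((T : Set R) ∪ {x, y}) := by
        symm
        rw [eq_top_iff]
        intro r _
        obtain ⟨a, ha, j, rfl⟩ := hRgen r
        obtain ⟨t', ht', i', rfl⟩ := hNgen a ha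
        have hyS : y ∈ closure ((T : Set R) ∪ {x, y}) := Subgroup.subset_closure (Or.inr (Or.inr rfl))
        have hxS : x ∈ closure ((T : Set R) ∪ {x, y}) := Subgroup.subset_closure (Or.inr (Or.inl rfl))
        have htS : t' ∈ closure ((T : Set R) ∪ {x, y}) := Subgroup.subset_closure (Or.inl ht')
        exact Subgroup.mul_mem _ (Subgroup.zpow_mem _ hyS j) (Subgroup.mul_mem _ htS (Subgroup.zpow_mem _ hxS i'))
      rw [_root_.commutator_def, htop]
      apply commutator_le_of_gens
      · rw [le_normalizer_iff_conj]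
        intro r _ z hz
        exact hnormc r z hz
      · have hT1 : ∀ t' ∈ T, ∀ z : R, ⁅t', z⁆ ∈ zpowers c := by
          intro t' ht' z
          rw [commutatorElement_eq_one_iff_mul_comm.2 (hTcomm t' ht' z).symm]; exact one_mem _
        rintro a (ha | rfl | rfl) b (hb | rfl | rfl)
        · exact hT1 a ha b
        · exact hT1 a ha _
        · exact hT1 a ha _
        · rw [← commutatorElement_inv]; exact inv_mem (hT1 b hb _)
        · rw [commutatorElement_self]; exact one_mem _
        · exact Subgroup.mem_zpowers _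
        · rw [← commutatorElement_inv]; exact inv_mem (hT1 b hb _)
        · rw [← commutatorElement_inv]; exact inv_mem (Subgroup.mem_zpowers _)
        · rw [commutatorElement_self]; exact one_mem _
    have hcR : c ∈ commutator R := Subgroup.commutator_mem_commutator (Subgroup.mem_top _) (Subgroup.mem_top _)
    -- c has order p
    have hcp : c ^ p = 1 := by
      by_contra hcp
      obtain ⟨t0, ht0, ht01⟩ : ∃ t0 ∈ T, t0 ≠ 1 := by
        by_contra hcon
        push Not at hcon
        exact hTb (le_bot_iff.1 fun z hz => Subgroup.mem_bot.2 (hcon z hz))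
      have ht0p : t0 ^ p = 1 := by
        have := Subgroup.orderOf_dvd_natCard T ht0
        rw [hT] at this
        exact orderOf_dvd_iff_pow_eq_one.1 this
      obtain ⟨j, hj⟩ := Subgroup.mem_zpowers_iff.1 (hRc (hTR ht0))
      obtain ⟨m, hm⟩ := IsPGroup.iff_orderOf.1 hR c
      have hm2 : 2 ≤ m := by
        by_contra hlt
        apply hcp
        apply orderOf_dvd_iff_pow_eq_one.1
        rw [hm]
        calc p ^ m ∣ p ^ 1 := pow_dvd_pow p (by omega)
          _ = p := pow_one p
      have hpj : (p : ℤ) ∣ j := by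
        have h1 : c ^ (j * p) = 1 := by rw [_root_.zpow_mul, hj, zpow_natCast, ht0p]
        rw [← orderOf_dvd_iff_zpow_eq_one, hm] at h1
        have h2 : (p : ℤ) ^ 2 ∣ j * p := by
          refine dvd_trans ?_ h1
          push_cast
          exact pow_dvd_pow _ hm2
        rw [pow_two] at h2
        exact (Int.dvd_of_mul_dvd_mul_right (by exact_mod_cast hp.out.ne_zero) h2)
      obtain ⟨k, rfl⟩ := hpj
      apply ht01
      apply hTx t0 ht0
      rw [← hj, _root_.zpow_mul, zpow_natCast]
      have h3 : c ^ p = x ^ (i * p) := by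
        have h4 : Commute t (x ^ i) := (hTcomm t ht _).symm
        have h5 : t ^ p = 1 := by
          have := Subgroup.orderOf_dvd_natCard T ht
          rw [hT] at this
          exact orderOf_dvd_iff_pow_eq_one.1 this
        rw [hci, h4.mul_pow, h5, one_mul, _root_.zpow_mul, zpow_natCast]
      rw [h3, ← _root_.zpow_mul]
      exact Subgroup.zpow_mem_zpowers _ _
    have hcT : zpowers c = T := by
      have hc1 : c ≠ 1 := by
        intro h1
        apply hab
        rw [eq_bot_iff]
        refine hRc.trans ?_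
        rw [h1, Subgroup.zpowers_one_eq_bot]
      symm
      apply Subgroup.eq_of_le_of_card_ge (hTR.trans hRc)
      rw [hT, Nat.card_zpowers, orderOf_eq_prime hcp hc1]
    have hcc : ∀ z ∈ commutator R, z ∈ T := fun z hz => by rw [← hcT]; exact hRc hz
    -- the power map
    have hmul : ∀ a b : R, (a * b) ^ p = a ^ p * b ^ p := by
      intro a b
      have h1 : ⁅b⁻¹, a⁻¹⁆ ∈ T := hcc _ (Subgroup.commutator_mem_commutator (Subgroup.mem_top _) (Subgroup.mem_top _))
      apply pow_p_class_two hp.out hp2 (fun z => (hTcomm _ h1 z).symm)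
      have := Subgroup.orderOf_dvd_natCard T h1
      rw [hT] at this
      exact orderOf_dvd_iff_pow_eq_one.1 this
    let π : R →* R := MonoidHom.mk' (fun r => r ^ p) hmul
    set M := π.range with hM
    have hMn : M.Normal := by
      refine ⟨?_⟩
      rintro _ ⟨r, rfl⟩ g
      exact ⟨g * r * g⁻¹, by change (g * r * g⁻¹) ^ p = g * r ^ p * g⁻¹; rw [conj_pow]⟩
    have hMi : M.index ≤ p ^ 2 := index_frattini_le hp3 hR hO M (fun r => ⟨r, rfl⟩)
    have hRM : commutator R ≤ M := by
      -- R/M has order ≤ p², hence abelian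
      obtain ⟨k, hk⟩ := IsPGroup.iff_card.1 (hR.to_quotient M)
      have hk2 : k ≤ 2 := by
        rw [Subgroup.index_eq_card, hk] at hMi
        exact (Nat.pow_le_pow_iff_right hp.out.one_lt).1 hMi
      have hcomm : ∀ a b : R ⧸ M, a * b = b * a := by
        have : k = 0 ∨ k = 1 ∨ k = 2 := by omega
        rcases this with rfl | rfl | rfl
        · rw [pow_zero] at hk
          intro a b
          haveI := (Nat.card_eq_one_iff_unique.1 hk).1
          exact Subsingleton.elim _ _
        · rw [pow_one] at hk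
          haveI := isCyclic_of_prime_card hk
          letI : CommGroup (R ⧸ M) := IsCyclic.commGroup
          exact fun a b => mul_comm a b
        · exact (IsPGroup.isMulCommutative_of_card_eq_prime_sq hk).is_comm.comm
      rw [_root_.commutator_def, Subgroup.commutator_le]
      intro a _ b _
      rw [← QuotientGroup.eq_one_iff]
      change QuotientGroup.mk' M ⁅a, b⁆ = 1
      rw [map_commutatorElement, commutatorElement_eq_one_iff_mul_comm]
      exact hcomm _ _
    have hFM : frattini R ≤ M := frattini_le_of_elementary hRM (fun r => ⟨r, rfl⟩)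
    -- choose g with c = g ^ (p ^ k), k maximal
    have hc1 : c ≠ 1 := by
      intro h1
      rw [h1, Subgroup.zpowers_one_eq_bot] at hcT
      exact hTb hcT.symm
    obtain ⟨K, hK⟩ := IsPGroup.iff_card.1 hR
    have hbound : ∀ k, (∃ g : R, c = g ^ p ^ k) → k < K := by
      rintro k ⟨g, hg⟩
      by_contra hle
      apply hc1
      rw [hg]
      apply orderOf_dvd_iff_pow_eq_one.1
      refine (orderOf_dvd_natCard g).trans ?_
      rw [hK]; exact pow_dvd_pow p (by omega)
    obtain ⟨k, ⟨g, hg⟩, hkmax⟩ : ∃ k, (∃ g : R, c = g ^ p ^ k) ∧ ∀ k', (∃ g : R, c = g ^ p ^ k') → k' ≤ k := by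
      classical
      have h0 : ∃ g : R, c = g ^ p ^ 0 := ⟨c, by simp⟩
      refine ⟨Nat.findGreatest (fun k => ∃ g : R, c = g ^ p ^ k) K, Nat.findGreatest_spec (P := fun k => ∃ g : R, c = g ^ p ^ k) (Nat.zero_le _) h0, ?_⟩
      intro k' hk'
      exact Nat.le_findGreatest (hbound k' hk').le hk'
    have hgM : g ∉ M := by
      rintro ⟨g', hg'⟩
      have h1 : c = g' ^ p ^ (k + 1) := by
        rw [hg, ← hg', show π g' = g' ^ p from rfl, ← pow_mul, pow_succ, mul_comm]
      have := hkmax (k + 1) ⟨g', h1⟩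
      omega
    have hgn : (zpowers g).Normal := by
      apply Subgroup.Normal.of_commutator_le
      refine hRc.trans ?_
      rw [Subgroup.zpowers_le, hg]
      exact pow_mem (Subgroup.mem_zpowers g) _
    exact ⟨zpowers g, hgn, inferInstance, cyclic_quot hR hF (fun h => hgM (hFM h))⟩

end CfsgH1
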