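import Mathlib
import Cfsg.Prelude.Def_LocalStructure
import Cfsg.Agent.H1.IrrCard2
import Cfsg.Agent.H1.FF
import Cfsg.Agent.H2.Cores

set_option autoImplicit false

open Cfsg Subgroup
open scoped Pointwise commutatorElement

namespace CfsgH1

universe u v
variable {G : Type u} [Group G]

theorem pclosed_le {p : ℕ} (h : IsPClosed p G) {Q : Subgroup G} (hQ : IsPGroup p Q) : Q ≤ pCore p G := by
  obtain ⟨S, hS⟩ := hQ.exists_le_sylow
  exact hS.trans (CfsgH2.le_pCore (h S) S.isPGroup')

theorem pclosed_of_le [Finite G] {p : ℕ} [Fact p.Prime] (h : ∀ Q : Subgroup G, IsPGroup p Q → Q ≤ pCore p G) : IsPClosed p G := by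
  intro S
  have h1 : (S : Subgroup G) = pCore p G := by
    apply le_antisymm (h _ S.isPGroup')
    rw [S.3 (CfsgH2.isPGroup_pCore p) (h _ S.isPGroup')]
  rw [h1]
  infer_instance

theorem pclosed_of_coprime [Finite G] {p : ℕ} [Fact p.Prime] (h : ¬ p ∣ Nat.card G) : IsPClosed p G := by
  intro S
  have h1 : (S : Subgroup G) = ⊥ := by
    obtain ⟨n, hn⟩ := IsPGroup.iff_card.1 S.isPGroup'
    rcases Nat.eq_zero_or_pos n with h0 | h0
    · rw [h0, pow_zero] at hn
      exact Subgroup.card_eq_one.1 hn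
    · exact absurd ((dvd_pow_self p h0.ne').trans (hn ▸ card_subgroup_dvd_card _)) h
  rw [h1]
  infer_instance

theorem pclosed_of_isPGroup {p : ℕ} (h : IsPGroup p G) : IsPClosed p G := by
  intro S
  have h1 : (S : Subgroup G) = ⊤ := by
    exact (S.3 (h.to_subgroup ⊤) le_top).symm
  rw [h1]
  infer_instance

theorem pclosed_equiv {H : Type v} [Group H] [Finite G] {p : ℕ} [Fact p.Prime] (e : G ≃* H) (h : IsPClosed p G) : IsPClosed p H := by
  haveI : Finite H := Finite.of_equiv G e.toEquiv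
  apply pclosed_of_le
  intro Q hQ
  have h1 : Q.comap e.toMonoidHom ≤ pCore p G := pclosed_le h (hQ.comap_of_injective _ e.injective)
  rw [← CfsgH2.pCore_map_equiv p e]
  intro x hx
  exact ⟨e.symm x, h1 (by rw [mem_comap]; simpa using hx), by simp⟩

/-- a normal p-closed subgroup has its p-subgroups in `O_p(G)` -/
theorem le_pCore_of_pclosed_normal [Finite G] {p : ℕ} [Fact p.Prime] {K : Subgroup G} [K.Normal] (h : IsPClosed p K) {Q : Subgroup G} 
    (hQ : IsPGroup p Q) (hQK : Q ≤ K) : Q ≤ pCore p G := by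
  have h1 : Q.subgroupOf K ≤ pCore p K := pclosed_le h (hQ.comap_of_injective _ K.subtype_injective)
  have h2 : ((pCore p K).map K.subtype).Normal := inferInstance
  have h3 : (pCore p K).map K.subtype ≤ pCore p G := CfsgH2.le_pCore h2 ((CfsgH2.isPGroup_pCore p).map _)
  intro x hx
  exact h3 ⟨⟨x, hQK hx⟩, h1 (by rw [mem_subgroupOf]; exact hx), rfl⟩

/-- in a p-closed group a `p`-subgroup centralizes the `p'`-subgroups it normalizes -/
theorem centralize_of_pclosed [Finite G] {p : ℕ} [Fact p.Prime] {B Q K : Subgroup G} (hK : IsPClosed p K) (hBK : B ≤ K) (hQK : Q ≤ K) 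
    (hQ : IsPGroup p Q) (hQB : Q ≤ normalizer (B : Set G)) (hcop : ¬ p ∣ Nat.card B) : Q ≤ centralizer (B : Set G) := by
  have h1 : Q.subgroupOf K ≤ pCore p K := pclosed_le hK (hQ.comap_of_injective _ K.subtype_injective)
  set O := (pCore p K).map K.subtype with hO
  have h2 : Q ≤ O := by
    intro x hx
    exact ⟨⟨x, hQK hx⟩, h1 (by rw [mem_subgroupOf]; exact hx), rfl⟩
  have h3 : K ≤ normalizer (O : Set G) := by
    rw [le_normalizer_iff_conj]
    rintro k hk _ ⟨y, hy, rfl⟩
    refine ⟨⟨k, hk⟩ * y * ⟨k, hk⟩⁻¹, (inferInstance : (pCore p K).Normal).conj_mem y hy _, by simp⟩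
  have h4 : IsPGroup p O := (CfsgH2.isPGroup_pCore p).map _
  have h5 : B ⊓ O = ⊥ := by
    apply inf_eq_bot_of_coprime
    obtain ⟨n, hn⟩ := IsPGroup.iff_card.1 h4
    rw [hn]
    exact Nat.Coprime.pow_right _ (((Nat.Prime.coprime_iff_not_dvd Fact.out).2 hcop).symm)
  intro x hx
  rw [mem_centralizer_iff]
  intro b hb
  have h6 : ⁅b, x⁆ ∈ B ⊓ O := by
    refine ⟨?_, ?_⟩
    · rw [commutatorElement_def, mul_assoc, mul_assoc]
      apply B.mul_mem hb
      rw [← mul_assoc]
      exact (le_normalizer_iff_conj.1 hQB) x hx _ (B.inv_mem hb)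
    · rw [commutatorElement_def]
      exact O.mul_mem ((le_normalizer_iff_conj.1 h3) b (hBK hb) x (h2 hx)) (O.inv_mem (h2 hx))
  rw [h5, mem_bot, commutatorElement_eq_one_iff_mul_comm] at h6
  exact h6

/-- common structure lemma -/
theorem irr_structure [Finite G] {p : ℕ} [hp : Fact p.Prime] {A : Subgroup G} [A.Normal] (hA : A ≠ ⊥) (hcop : ¬ p ∣ Nat.card A)
    (hmin : ∀ B : Subgroup G, B.Normal → B ≤ A → B = ⊥ ∨ B = A) {x : G} (hx : orderOf x = p) (hG : A ⊔ zpowers x = ⊤) 
    (hxA : ¬ zpowers x ≤ centralizer (A : Set G)) 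
    (hB : ∀ B : Subgroup G, B < A → zpowers x ≤ normalizer (B : Set G) → zpowers x ≤ centralizer (B : Set G)) :
    ∃ q : ℕ, q.Prime ∧ q ≠ p ∧ Nat.card G = p * q ^ orderOf (q : ZMod p) ∧
      ∃ A : Subgroup G, A.Normal ∧ Nat.card ↥A = q ^ orderOf (q : ZMod p) ∧ Cfsg.IsElementaryAbelian q A ∧
        ∀ B : Subgroup G, B.Normal → B ≤ A → B = ⊥ ∨ B = A := by
  have hcx : Nat.card (zpowers x) = p := by rw [Nat.card_zpowers, hx]
  have hcop' : (Nat.card (zpowers x)).Coprime (Nat.card A) := by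
    rw [hcx]; exact (Nat.Prime.coprime_iff_not_dvd hp.out).2 hcop
  have hsolx : Group.IsSolvable (zpowers x) := inferInstance
  have hxN : zpowers x ≤ normalizer (A : Set G) := le_normalizer_of_normal _ _
  -- A is a q-group
  obtain ⟨q, hq, hAq⟩ : ∃ q : ℕ, q.Prime ∧ IsPGroup q A := by
    by_contra hcon
    push Not at hcon
    apply hxA
    have h1 : A ≤ centralizer (zpowers x : Set G) := by
      apply le_of_forall_sylowOf
      intro r hr
      haveI : Fact r.Prime := ⟨hr⟩
      obtain ⟨⟨R, hR, hRx⟩, -⟩ := coprime_sylow hxN hcop' (Or.inl hsolx) r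
      refine ⟨R, hR, ?_⟩
      have h2 : R < A := by
        refine lt_of_le_of_ne (isSylowOf_le hR) ?_
        rintro rfl
        exact hcon r hr (isSylowOf_isPGroup hR)
      have h3 := hB R h2 hRx
      exact Subgroup.le_centralizer_iff.1 h3
    exact Subgroup.le_centralizer_iff.1 h1
  haveI hqf : Fact q.Prime := ⟨hq⟩
  have hqA : q ∣ Nat.card A := by
    obtain ⟨n, hn⟩ := IsPGroup.iff_card.1 hAq
    rw [hn]
    apply dvd_pow_self
    rintro rfl
    exact hA (Subgroup.card_eq_one.1 (by rw [hn, pow_zero]))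
  have hqp : q ≠ p := by rintro rfl; exact hcop hqA
  have hAs : Group.IsSolvable A := isSolvable_of_isPGroup hAq
  obtain ⟨hab, q', hq', hexp⟩ := elemAb_of_min_invariant (B := ⊤) (M := A) (le_normalizer_of_normal _ _) hA hAs 
    (fun N hN hNA => hmin N (by rw [← normalizer_eq_top_iff]; exact top_le_iff.1 hN) hNA)
  have hqq : q' = q := by
    haveI : Fact q'.Prime := ⟨hq'⟩
    obtain ⟨a, ha⟩ := exists_prime_orderOf_dvd_card' (G := A) q hqA
    have h3 : orderOf a ∣ q' := orderOf_dvd_of_pow_eq_one (Subtype.ext (hexp _ a.2))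
    rw [ha] at h3
    exact ((Nat.prime_dvd_prime_iff_eq hq hq').1 h3).symm
  rw [hqq] at hexp
  have hEA : IsElementaryAbelian q A := ⟨⟨⟨fun a b => Subtype.ext (hab _ a.2 _ b.2)⟩⟩, hexp⟩
  have hcard : Nat.card A = q ^ orderOf (q : ZMod p) := by
    apply card_irr_group (Ne.symm hqp) hEA hA (x := x) 
    · exact fun a ha => (inferInstance : A.Normal).conj_mem a ha x
    · intro a ha
      rw [← hx, pow_orderOf_eq_one]; simp
    · by_contra hcon
      push Not at hcon
      apply hxA
      rw [zpowers_le, mem_centralizer_iff]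
      intro a ha
      have := hcon a ha
      rw [mul_inv_eq_iff_eq_mul] at this
      exact this.symm
    · intro B hBA hBx
      apply hmin B _ hBA
      rw [← normalizer_eq_top_iff, ← top_le_iff, ← hG]
      apply sup_le
      · rw [le_normalizer_iff_conj]
        intro a ha b hb
        rw [hab a ha b (hBA hb), mul_inv_cancel_right]
        exact hb
      · rw [zpowers_le]
        exact Subgroup.mem_normalizer_fintype (S := (B : Set G)) hBx
  refine ⟨q, hq, hqp, ?_, A, inferInstance, hcard, hEA, hmin⟩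
  have h5 := card_sup_mul_card_inf (H := A) (K := zpowers x) 
  have h6 : A ⊓ zpowers x = ⊥ := inf_eq_bot_of_coprime hcop'.symm
  have h7 := card_sup_mul_card_inf (H := zpowers x) (K := A) hxN
  rw [sup_comm, hG, inf_comm, h6, Subgroup.card_bot, Subgroup.card_top, mul_one, hcx, hcard] at h7
  exact h7

end CfsgH1
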