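import Cfsg.Agent.H1.SSolv2
import Cfsg.Agent.H1.CopExtra

set_option autoImplicit false

/-! Hereditary CLT groups are supersolvable; groups of order 2p^n. -/

open scoped Pointwise commutatorElement

namespace CfsgH1

open Subgroup Cfsg

universe u v w
variable {G : Type u} [Group G]

theorem card_mul_relIndex' {L T : Subgroup G} (h : L ≤ T) : Nat.card L * L.relIndex T = Nat.card T := by
  have := Subgroup.relIndex_mul_relIndex (⊥ : Subgroup G) L T bot_le h
  rwa [Subgroup.relIndex_bot_left, Subgroup.relIndex_bot_left] at this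

theorem exists_max_prime [Finite G] [Nontrivial G] :
    ∃ p : ℕ, p.Prime ∧ p ∣ Nat.card G ∧ ∀ q : ℕ, q.Prime → q ∣ Nat.card G → q ≤ p := by
  have hne : (Nat.card G).primeFactors.Nonempty := Nat.nonempty_primeFactors.2 Finite.one_lt_card
  refine ⟨_, (Nat.mem_primeFactors.1 (Finset.max'_mem _ hne)).1, (Nat.mem_primeFactors.1 (Finset.max'_mem _ hne)).2.1, ?_⟩
  intro q hq hqd
  exact Finset.le_max' _ _ (Nat.mem_primeFactors.2 ⟨hq, hqd, Nat.card_pos.ne'⟩)

theorem sylow_ne_bot [Finite G] {p : ℕ} [hp : Fact p.Prime] (hpd : p ∣ Nat.card G) (P : Sylow p G) : (P : Subgroup G) ≠ ⊥ := by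
  intro h
  have h1 := P.not_dvd_index
  rw [h, Subgroup.index_bot] at h1
  exact h1 hpd

theorem supersolvable_of_step {L T : Subgroup G} [L.Normal] [hT : T.Normal] [Finite G] (hLT : L ≤ T) (hp : (L.relIndex T).Prime)
    (h : IsSupersolvable (G ⧸ T)) : IsSupersolvable (G ⧸ L) := by
  let f : G ⧸ L →* G ⧸ T := QuotientGroup.map L T (MonoidHom.id G) hLT
  have hf : Function.Surjective f := by
    intro x
    obtain ⟨g, rfl⟩ := QuotientGroup.mk'_surjective T x
    exact ⟨(g : G ⧸ L), rfl⟩
  have hk : f.ker = T.map (QuotientGroup.mk' L) := by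
    ext x
    induction x using QuotientGroup.induction_on with
    | H g =>
      rw [MonoidHom.mem_ker]
      change ((g : G ⧸ T) = 1) ↔ _
      rw [QuotientGroup.eq_one_iff]
      constructor
      · intro hg; exact ⟨g, hg, rfl⟩
      · rintro ⟨t, ht, hte⟩
        have h1 : t⁻¹ * g ∈ L := QuotientGroup.eq.1 hte
        have h2 := T.mul_mem ht (hLT h1)
        rwa [mul_inv_cancel_left] at h2
  refine supersolvable_of_surj f hf ?_ h
  apply isCyclic_of_card_prime
  rw [hk]
  have h1 := card_map_mul_card_ker_of_le (QuotientGroup.mk' L) T (by rw [QuotientGroup.ker_mk']; exact hLT)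
  rw [QuotientGroup.ker_mk'] at h1
  have h2 := card_mul_relIndex' hLT
  have h3 : Nat.card (T.map (QuotientGroup.mk' L)) = L.relIndex T := by
    rw [mul_comm] at h1
    exact Nat.eq_of_mul_eq_mul_left Nat.card_pos (h1.trans h2.symm)
  rw [h3]; exact hp

theorem relIndex_eq_prime_of_map {L : Subgroup G} [L.Normal] [Finite G] {N : Subgroup (G ⧸ L)} (hN : (Nat.card N).Prime) :
    (L.relIndex (N.comap (QuotientGroup.mk' L))).Prime := by
  have h1 := card_comap_mk L N
  have hle : L ≤ N.comap (QuotientGroup.mk' L) := by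
    intro x hx
    rw [mem_comap, QuotientGroup.mk'_apply, (QuotientGroup.eq_one_iff x).2 hx]; exact one_mem _
  have h2 := card_mul_relIndex' hle
  rw [h1, mul_comm] at h2
  rw [Nat.eq_of_mul_eq_mul_right Nat.card_pos h2]
  exact hN

/-- `G = PH` with `H` supersolvable, `P` a normal `p`-subgroup, and `P ⊓ H` of index `p` in `P`, `G/P` supersolvable -/
theorem supersolvable_of_index_p [Finite G] {p : ℕ} [hp : Fact p.Prime] {P H : Subgroup G} [hPn : P.Normal] (hP : IsPGroup p P)
    (hPH : P ⊔ H = ⊤) (hH : IsSupersolvable H) (hGP : IsSupersolvable (G ⧸ P)) (hidx : (P ⊓ H).relIndex P = p) : 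
    IsSupersolvable G := by
  have hP1n : (P ⊓ H).Normal := by
    rw [← normalizer_eq_top_iff, eq_top_iff, ← hPH]
    apply sup_le
    · exact le_normalizer_of_relIndex_prime_pgroup hP inf_le_left hidx
    · exact le_normalizer_inf (le_normalizer_of_normal H P) le_normalizer
  have key : ∀ m : ℕ, ∀ (L : Subgroup G) [L.Normal], L ≤ P ⊓ H → L.index = m → IsSupersolvable (G ⧸ L) := by
    intro m
    induction m using Nat.strong_induction_on with
    | _ m IH =>
    intro L hLn hL hLm
    by_cases hLe : L = P ⊓ H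
    · refine supersolvable_of_step (T := P) (hLe ▸ inf_le_left) ?_ hGP
      rw [hLe, hidx]; exact hp.out
    · -- work in G/L
      set π := QuotientGroup.mk' L with hπ
      have hπs := QuotientGroup.mk'_surjective L
      haveI : ((P ⊓ H).map π).Normal := hP1n.map π hπs
      haveI : (P.map π).Normal := hPn.map π hπs
      have hne : (P ⊓ H).map π ≠ ⊥ := by
        intro h
        rw [Subgroup.map_eq_bot_iff, hπ, QuotientGroup.ker_mk'] at h
        exact hLe (le_antisymm hL h)
      have hPb : IsPGroup p (P.map π) := hP.map π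
      have hC : (P ⊓ H).map π ⊓ centralizer (P.map π : Set (G ⧸ L)) ≠ ⊥ :=
        inf_centralizer_ne_bot_of_nilpotent (hPb.isNilpotent) (map_mono inf_le_left) (le_normalizer_of_normal _ _) hne
      have hCH : (P ⊓ H).map π ⊓ centralizer (P.map π : Set (G ⧸ L)) ≤ H.map π := inf_le_left.trans (map_mono inf_le_right)
      have hHs : IsSupersolvable (H.map π) := CfsgH2.IsSupersolvable.map (π.subgroupMap H) (π.subgroupMap_surjective H) hH
      obtain ⟨N', hN'n, hN'le, hN'p⟩ := supersolvable_exists_normal_prime_le _ (H.map π) rfl hHs 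
        (((P ⊓ H).map π ⊓ centralizer (P.map π : Set (G ⧸ L))).subgroupOf (H.map π)) (by
          intro h
          rw [Subgroup.subgroupOf_eq_bot, disjoint_iff, inf_eq_left.2 hCH] at h
          exact hC h)
      have hcN : Nat.card (N'.map (H.map π).subtype) = Nat.card N' :=
        (Nat.card_congr (N'.equivMapOfInjective _ (H.map π).subtype_injective).toEquiv).symm
      set N := N'.map (H.map π).subtype with hN
      have hNC : N ≤ (P ⊓ H).map π ⊓ centralizer (P.map π : Set (G ⧸ L)) := by
        rw [hN]; rintro _ ⟨x, hx, rfl⟩; exact hN'le hx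
      have hNn : N.Normal := by
        rw [← normalizer_eq_top_iff, eq_top_iff, ← MonoidHom.range_eq_top.2 hπs, MonoidHom.range_eq_map, ← hPH, Subgroup.map_sup]
        apply sup_le
        · refine le_trans ?_ (centralizer_le_normalizer _)
          rw [le_centralizer_iff]
          exact hNC.trans inf_le_right
        · apply le_normalizer_of_normal_subgroupOf (hNC.trans hCH)
          rw [hN, Subgroup.subgroupOf, Subgroup.comap_map_eq_self_of_injective (H.map π).subtype_injective]
          exact hN'n
      have hNp : (Nat.card N).Prime := hcN ▸ hN'p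
      have hTn : (N.comap π).Normal := hNn.comap π
      have hLT : L ≤ N.comap π := by
        intro x hx
        rw [mem_comap, hπ, QuotientGroup.mk'_apply, (QuotientGroup.eq_one_iff x).2 hx]; exact one_mem _
      have hrel : (L.relIndex (N.comap π)).Prime := relIndex_eq_prime_of_map hNp
      refine supersolvable_of_step hLT hrel (IH _ ?_ (N.comap π) ?_ rfl)
      · have h1 := Subgroup.relIndex_mul_index hLT
        have h2 := hrel.one_lt
        have h3 : 0 < (N.comap π).index := Nat.pos_of_ne_zero (Subgroup.index_ne_zero_of_finite)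
        rw [← hLm, ← h1]; nlinarith
      · intro x hx
        obtain ⟨y, hy, hyx⟩ := (hNC (mem_comap.1 hx)).1
        have h1 : y⁻¹ * x ∈ L := QuotientGroup.eq.1 hyx
        have h2 := (P ⊓ H).mul_mem hy (hL h1)
        rwa [mul_inv_cancel_left] at h2
  have h := key _ (⊥ : Subgroup G) bot_le rfl
  exact supersolvable_congr (QuotientGroup.quotientBot (G := G)) h

theorem hclt_supersolvable (n : ℕ) : ∀ (G : Type u) [Group G] [Finite G], Nat.card G = n →
    (∀ H : Subgroup G, HasSubgroupOfEveryOrder H) → IsSupersolvable G := by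
  induction n using Nat.strong_induction_on with
  | _ n IH =>
  intro G _ _ hn hG
  rcases subsingleton_or_nontrivial G with hsub | hnt
  · exact CfsgH2.isSupersolvable_of_subsingleton
  obtain ⟨p, hp, hpd, hmax⟩ := exists_max_prime (G := G)
  haveI : Fact p.Prime := ⟨hp⟩
  obtain ⟨P⟩ := (inferInstance : Nonempty (Sylow p G))
  haveI hPn := hclt_sylow_normal _ G rfl hG hmax P
  have hPne := sylow_ne_bot hpd P
  -- complement
  have hcop : (Nat.card (P : Subgroup G)).Coprime (P : Subgroup G).index := P.card_coprime_index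
  obtain ⟨K, hK⟩ := Subgroup.exists_right_complement'_of_coprime (N := (P : Subgroup G)) hcop
  have hGP : IsSupersolvable (G ⧸ (P : Subgroup G)) := by
    refine IH _ (hn ▸ card_quotient_lt hPne) _ rfl ?_
    exact hclt_congr (hK.symm.QuotientMulEquiv).symm (hclt_subgroup hG K)
  obtain ⟨H, hH⟩ : ∃ H : Subgroup G, Nat.card H = Nat.card G / p :=
    hasSub_congr Subgroup.topEquiv (hG ⊤) _ (Nat.div_dvd_of_dvd hpd)
  have hHi : H.index = p := by
    have h1 := Subgroup.card_mul_index H
    rw [hH] at h1
    have h2 : Nat.card G / p * p = Nat.card G := Nat.div_mul_cancel hpd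
    exact Nat.eq_of_mul_eq_mul_left (Nat.div_pos (Nat.le_of_dvd Nat.card_pos hpd) hp.pos) (h1.trans h2.symm)
  have hHt : H ≠ ⊤ := by
    rintro rfl
    rw [Subgroup.index_top] at hHi
    exact hp.ne_one hHi.symm
  have hHs : IsSupersolvable H := IH _ (hn ▸ card_lt_card_of_ne_top hHt) H rfl (hclt_subgroup hG H)
  have hsup : (P : Subgroup G) ⊔ H = ⊤ := by
    have h1 : ((P : Subgroup G) ⊔ H).index ∣ p := (Subgroup.index_dvd_of_le le_sup_right).trans hHi.dvd
    have h2 : ((P : Subgroup G) ⊔ H).index ∣ (P : Subgroup G).index := Subgroup.index_dvd_of_le le_sup_left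
    rcases (Nat.dvd_prime hp).1 h1 with h3 | h3
    · exact Subgroup.index_eq_one.1 h3
    · rw [h3] at h2; exact absurd h2 P.not_dvd_index
  refine supersolvable_of_index_p P.2 hsup hHs hGP ?_
  have h1 := card_sup_mul_card_inf (le_normalizer_of_normal H (P : Subgroup G))
  rw [sup_comm, hsup, Subgroup.card_top, ← Subgroup.card_mul_index H, hHi, mul_assoc] at h1
  have h2 := Nat.eq_of_mul_eq_mul_left Nat.card_pos h1
  have h3 := card_mul_relIndex' (inf_le_right : H ⊓ (P : Subgroup G) ≤ P)
  rw [← h2, mul_comm p] at h3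
  rw [inf_comm]
  exact Nat.eq_of_mul_eq_mul_left Nat.card_pos h3

/-- groups of order `2 p^n` are supersolvable -/
theorem supersolvable_two_mul (p : ℕ) (hp : p.Prime) (n : ℕ) : ∀ (G : Type u) [Group G] [Finite G], Nat.card G = 2 * p ^ n → 
    IsSupersolvable G := by
  haveI : Fact p.Prime := ⟨hp⟩
  by_cases hp2 : p = 2
  · intro G _ _ hG
    subst hp2
    refine supersolvable_of_nilpotent _ G rfl ?_
    exact (IsPGroup.of_card (p := 2) (n := n + 1) (by rw [hG, pow_succ]; ring)).isNilpotent
  induction n with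
  | zero =>
    intro G _ _ hG
    haveI : Fact (Nat.Prime 2) := ⟨Nat.prime_two⟩
    haveI : IsCyclic G := isCyclic_of_prime_card (p := 2) (by rw [hG]; simp)
    exact supersolvable_of_isCyclic
  | succ n IH =>
    intro G _ _ hG
    have hcop : Nat.Coprime 2 (p ^ (n + 1)) := Nat.Coprime.pow_right _ ((Nat.coprime_primes Nat.prime_two hp).2 (Ne.symm hp2))
    obtain ⟨P⟩ := (inferInstance : Nonempty (Sylow p G))
    have hPi : (P : Subgroup G).index = 2 := by
      obtain ⟨k, hk⟩ := IsPGroup.iff_card.1 P.2
      have h1 := Subgroup.card_mul_index (P : Subgroup G)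
      rw [hG, hk] at h1
      have h2 : ¬ p ∣ (P : Subgroup G).index := P.not_dvd_index
      have h3 : (P : Subgroup G).index ∣ 2 := by
        have h4 : (P : Subgroup G).index ∣ 2 * p ^ (n + 1) := h1 ▸ dvd_mul_left _ _
        exact (Nat.Coprime.pow_right _ ((hp.coprime_iff_not_dvd.2 h2).symm)).dvd_of_dvd_mul_right h4
      rcases (Nat.dvd_prime Nat.prime_two).1 h3 with h5 | h5
      · exfalso
        rw [h5, mul_one] at h1
        have h6 : 2 ∣ p ^ k := h1 ▸ dvd_mul_right _ _
        have h7 := Nat.prime_two.dvd_of_dvd_pow h6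
        exact hp2 ((Nat.prime_dvd_prime_iff_eq Nat.prime_two hp).1 h7).symm
      · exact h5
    haveI hPn : (P : Subgroup G).Normal := Subgroup.normal_of_index_eq_two hPi
    have hpd : p ∣ Nat.card G := by rw [hG, pow_succ]; exact ⟨2 * p ^ n, by ring⟩
    have hPne := sylow_ne_bot hpd P
    haveI : Fact (Nat.Prime 2) := ⟨Nat.prime_two⟩
    obtain ⟨x, hx⟩ := exists_prime_orderOf_dvd_card' (G := G) 2 (hG ▸ dvd_mul_right _ _)
    have hx2 : x * x = 1 := by rw [← sq, ← hx, pow_orderOf_eq_one]
    have hxinv : x⁻¹ = x := inv_eq_of_mul_eq_one_left hx2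
    have hxP : x ∉ (P : Subgroup G) := by
      intro h
      obtain ⟨k, hk⟩ := (IsPGroup.iff_orderOf.1 P.2) ⟨x, h⟩
      rw [Subgroup.orderOf_mk, hx] at hk
      have hk0 : k ≠ 0 := by rintro rfl; simp at hk
      have h7 : p ∣ 2 := hk ▸ dvd_pow_self p hk0
      exact hp2 ((Nat.prime_dvd_prime_iff_eq hp Nat.prime_two).1 h7)
    -- centre of P
    have hZ : (P : Subgroup G) ⊓ centralizer ((P : Subgroup G) : Set G) ≠ ⊥ :=
      inf_centralizer_ne_bot_of_nilpotent P.2.isNilpotent le_rfl le_normalizer hPne
    set Z := (P : Subgroup G) ⊓ centralizer ((P : Subgroup G) : Set G) with hZdef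
    have hZp : IsPGroup p Z := P.2.to_le inf_le_left
    haveI hZn : Z.Normal := inferInstance
    obtain ⟨v, hv⟩ := exists_prime_orderOf_dvd_card' (G := Z) p (by
      obtain ⟨k, hk⟩ := IsPGroup.iff_card.1 hZp
      rw [hk]
      apply dvd_pow_self
      rintro rfl
      rw [pow_zero] at hk
      exact hZ (Subgroup.card_eq_one.1 hk))
    have hvp : (v : G) ^ p = 1 := by rw [← Subgroup.coe_pow, ← hv, pow_orderOf_eq_one]; rfl
    have hv1 : (v : G) ≠ 1 := by
      intro h
      have : v = 1 := Subtype.ext h
      rw [this, orderOf_one] at hv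
      exact hp.ne_one hv.symm
    have hZab : ∀ a ∈ Z, ∀ b ∈ Z, a * b = b * a := fun a ha b hb => (mem_centralizer_iff.1 ha.2 b hb.1).symm
    obtain ⟨w, hwZ, hw1, hwp, hwx⟩ : ∃ w ∈ Z, w ≠ 1 ∧ w ^ p = 1 ∧ x * w * x⁻¹ ∈ zpowers w := by
      have hvx : x * v * x⁻¹ ∈ Z := hZn.conj_mem v v.2 x
      by_cases hw : (v : G) * (x * v * x⁻¹) = 1
      · refine ⟨v, v.2, hv1, hvp, ?_⟩
        rw [← inv_eq_iff_mul_eq_one.2 hw]
        exact inv_mem (mem_zpowers _)
      · refine ⟨(v : G) * (x * v * x⁻¹), Z.mul_mem v.2 hvx, hw, ?_, ?_⟩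
        · rw [(show Commute (v : G) (x * v * x⁻¹) from hZab _ v.2 _ hvx).mul_pow, conj_pow, hvp]; simp
        · have : x * ((v : G) * (x * v * x⁻¹)) * x⁻¹ = (v : G) * (x * v * x⁻¹) := by
            rw [hZab _ v.2 _ hvx]
            have e1 : x * (x * ↑v * x⁻¹ * ↑v) * x⁻¹ = (x * x) * v * x⁻¹ * v * x⁻¹ := by group
            rw [e1, hx2, one_mul, hxinv]
            have e2 : x * ↑v * x * ↑v = ↑v * x * ↑v * x := by
              have := hZab _ v.2 _ hvx
              rw [hxinv] at this
              rw [← this]; group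
            rw [e2]
          rw [this]; exact mem_zpowers _
    have how : orderOf w = p := orderOf_eq_prime hwp hw1
    haveI hWn : (zpowers w).Normal := by
      rw [← normalizer_eq_top_iff, eq_top_iff]
      have h1 : (P : Subgroup G) ≤ normalizer (zpowers w : Set G) := by
        refine le_trans ?_ (centralizer_le_normalizer _)
        rw [le_centralizer_iff, zpowers_le]
        exact hwZ.2
      have h2 : x ∈ normalizer (zpowers w : Set G) := by
        have h3 : zpowers x ≤ normalizer (zpowers w : Set G) := by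
          rw [le_normalizer_iff_conj]
          have h4 : ∀ k ∈ zpowers w, x * k * x⁻¹ ∈ zpowers w := by
            intro k hk
            obtain ⟨j, rfl⟩ := mem_zpowers_iff.1 hk
            rw [← conj_zpow]
            exact zpow_mem hwx _
          intro h hh k hk
          have hx' : h = 1 ∨ h = x := by
            obtain ⟨j, rfl⟩ := mem_zpowers_iff.1 hh
            rcases Int.even_or_odd' j with ⟨i, rfl | rfl⟩
            · left; rw [zpow_mul]; simp [sq, hx2]
            · right; rw [zpow_add, zpow_mul]; simp [sq, hx2]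
          rcases hx' with rfl | rfl
          · simpa using hk
          · exact h4 k hk
        exact h3 (mem_zpowers x)
      have h3 : (normalizer (zpowers w : Set G)).index ∣ 2 := hPi ▸ Subgroup.index_dvd_of_le h1
      rcases (Nat.dvd_prime Nat.prime_two).1 h3 with h4 | h4
      · exact (Subgroup.index_eq_one.1 h4).ge
      · exfalso
        have h5 : (P : Subgroup G) = normalizer (zpowers w : Set G) := by
          apply Subgroup.eq_of_le_of_card_ge h1
          have e1 := Subgroup.card_mul_index (P : Subgroup G)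
          have e2 := Subgroup.card_mul_index (normalizer (zpowers w : Set G))
          rw [hPi] at e1
          rw [h4] at e2
          omega
        rw [← h5] at h2
        exact hxP h2
    have hcard : Nat.card (G ⧸ zpowers w) = 2 * p ^ n := by
      have h1 := Subgroup.card_eq_card_quotient_mul_card_subgroup (zpowers w)
      rw [Nat.card_zpowers, how, hG, pow_succ, ← mul_assoc] at h1
      exact (Nat.eq_of_mul_eq_mul_right hp.pos h1).symm
    exact supersolvable_of_cyclic_normal (zpowers w) (IH _ hcard)

end CfsgH1
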