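import Cfsg.Agent.H1.Frat
import Cfsg.Agent.H1.MinNormal
import Cfsg.Agent.H1.CoprimeSylow
import Cfsg.Agent.H1.Syl
import Cfsg.Agent.H1.Fit
import Cfsg.Agent.H1.CopExtra
import Cfsg.Agent.H1.SSolv3

set_option autoImplicit false

/-! Core-free maximal subgroups (primitive groups). -/

open scoped Pointwise commutatorElement

namespace CfsgH1

open Subgroup Cfsg

universe u v w
variable {G : Type u} [Group G]

theorem cf_sup {U : Subgroup G} (hU : IsCoatom U) (hcore : U.normalCore = ⊥) {N : Subgroup G} [hN : N.Normal] (hNe : N ≠ ⊥) :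
    N ⊔ U = ⊤ := by
  refine sup_eq_top_of_isCoatom hU (fun hle => hNe ?_)
  rw [eq_bot_iff, ← hcore]
  exact Subgroup.normal_le_normalCore.2 hle

theorem cf_centralizer_inf {U : Subgroup G} (hU : IsCoatom U) (hcore : U.normalCore = ⊥) {N : Subgroup G} [hN : N.Normal] (hNe : N ≠ ⊥) :
    centralizer (N : Set G) ⊓ U = ⊥ := by
  have hn : (centralizer (N : Set G) ⊓ U).Normal := by
    rw [← normalizer_eq_top_iff, eq_top_iff, ← cf_sup hU hcore hNe]
    apply sup_le
    · refine le_trans ?_ (centralizer_le_normalizer _)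
      rw [le_centralizer_iff]
      exact inf_le_left
    · exact le_normalizer_inf (le_normalizer_of_normal _ _) le_normalizer
  rw [eq_bot_iff, ← hcore]
  exact Subgroup.normal_le_normalCore.2 inf_le_right

theorem cf_centralizer_min {U : Subgroup G} (hU : IsCoatom U) (hcore : U.normalCore = ⊥) {N : Subgroup G} [hN : N.Normal] (hNe : N ≠ ⊥)
    {K : Subgroup G} (hK : K.Normal) (hKC : K ≤ centralizer (N : Set G)) : K = ⊥ ∨ K = centralizer (N : Set G) := by
  by_cases hKe : K = ⊥
  · exact Or.inl hKe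
  right
  apply le_antisymm hKC
  have h1 := cf_sup hU hcore hKe
  intro x hx
  have hx' : x ∈ K ⊔ U := by rw [h1]; trivial
  obtain ⟨k, hk, u, hu, rfl⟩ := Subgroup.mem_sup_of_normal_left.1 hx'
  have hu' : u ∈ centralizer (N : Set G) ⊓ U := by
    refine ⟨?_, hu⟩
    have := (centralizer (N : Set G)).mul_mem ((centralizer (N : Set G)).inv_mem (hKC hk)) hx
    rwa [inv_mul_cancel_left] at this
  rw [cf_centralizer_inf hU hcore hNe, mem_bot] at hu'
  rw [hu', mul_one]; exact hk

/-- abelian minimal normal subgroup of a primitive group -/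
theorem cf_abelian {U : Subgroup G} (hU : IsCoatom U) (hcore : U.normalCore = ⊥) {N : Subgroup G} [hN : N.Normal] (hNe : N ≠ ⊥)
    (hab : ∀ x ∈ N, ∀ y ∈ N, x * y = y * x) : centralizer (N : Set G) = N ∧ N ⊓ U = ⊥ := by
  have h1 : N ≤ centralizer (N : Set G) := by
    intro x hx
    rw [mem_centralizer_iff]
    intro y hy
    exact hab y hy x hx
  rcases cf_centralizer_min hU hcore hNe hN h1 with h2 | h2
  · exact absurd h2 hNe
  · refine ⟨h2.symm, ?_⟩
    conv_lhs => rw [h2]
    exact cf_centralizer_inf hU hcore hNe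

theorem isComplement'_of_inf_sup {A U : Subgroup G} [hA : A.Normal] (h1 : A ⊓ U = ⊥) (h2 : A ⊔ U = ⊤) : IsComplement' A U := by
  apply Subgroup.isComplement'_of_disjoint_and_mul_eq_univ
  · exact disjoint_iff.2 h1
  · rw [← Subgroup.normal_mul, h2]; rfl

theorem equiv_of_map_eq {G' : Type v} [Group G'] (f : G →* G') {A D : Subgroup G} (hA : A ⊓ f.ker = ⊥) (hD : D ⊓ f.ker = ⊥)
    (h : A.map f = D.map f) : Nonempty (A ≃* D) := by
  have key : ∀ X : Subgroup G, X ⊓ f.ker = ⊥ → Nonempty (X ≃* X.map f) := by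
    intro X hX
    refine ⟨MulEquiv.ofBijective (f.subgroupMap X) ⟨?_, f.subgroupMap_surjective X⟩⟩
    rw [injective_iff_map_eq_one]
    intro x hx
    have h1 : f x = 1 := congrArg Subtype.val hx
    have h2 : (x : G) ∈ X ⊓ f.ker := ⟨x.2, h1⟩
    rw [hX, mem_bot] at h2
    exact Subtype.ext h2
  obtain ⟨e1⟩ := key A hA
  obtain ⟨e2⟩ := key D hD
  exact ⟨(e1.trans (MulEquiv.subgroupCongr h)).trans e2.symm⟩

theorem cf_two_min {U : Subgroup G} (hU : IsCoatom U) (hcore : U.normalCore = ⊥) {A B : Subgroup G} [hAn : A.Normal] [hBn : B.Normal]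
    (hA : A ≠ ⊥) (hB : B ≠ ⊥) (hAmin : ∀ K : Subgroup G, K.Normal → K ≤ A → K = ⊥ ∨ K = A) 
    (hBmin : ∀ K : Subgroup G, K.Normal → K ≤ B → K = ⊥ ∨ K = B) (hAB : A ≠ B) : 
    centralizer (B : Set G) = A ∧ centralizer (A : Set G) = B ∧ IsComplement' A U ∧ IsComplement' B U ∧ ¬ IsMulCommutative A ∧ 
    Nonempty (A ≃* B) ∧ Nonempty (A ≃* ↥((A ⊔ B) ⊓ U)) := by
  have hinf : A ⊓ B = ⊥ := by
    rcases hAmin (A ⊓ B) inferInstance inf_le_left with h | h
    · exact h
    · rcases hBmin (A ⊓ B) inferInstance inf_le_right with h' | h'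
      · exact h'
      · exact absurd (h.symm.trans h') hAB
  have hcomm : B ≤ centralizer (A : Set G) := by
    rw [le_centralizer_iff_commutator, eq_bot_iff, ← hinf, inf_comm]
    exact commutator_le_inf B A
  have hcomm' : A ≤ centralizer (B : Set G) := le_centralizer_iff.1 hcomm
  have hCA : centralizer (A : Set G) = B := by
    rcases cf_centralizer_min hU hcore hA hBn hcomm with h | h
    · exact absurd h hB
    · exact h.symm
  have hCB : centralizer (B : Set G) = A := by
    rcases cf_centralizer_min hU hcore hB hAn hcomm' with h | h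
    · exact absurd h hA
    · exact h.symm
  have hBU : B ⊓ U = ⊥ := hCA ▸ cf_centralizer_inf hU hcore hA
  have hAU : A ⊓ U = ⊥ := hCB ▸ cf_centralizer_inf hU hcore hB
  have hAsup := cf_sup hU hcore hA
  have hBsup := cf_sup hU hcore hB
  -- D
  set D := (A ⊔ B) ⊓ U with hD
  have key : ∀ X Y : Subgroup G, X.Normal → Y.Normal → X ⊔ Y = A ⊔ B → Y ⊔ U = ⊤ → X ⊓ Y = ⊥ → Y ⊓ U = ⊥ → Nonempty (X ≃* D) := by
    intro X Y hX hY hXY hYU hXYi hYUi
    refine equiv_of_map_eq (QuotientGroup.mk' Y) ?_ ?_ ?_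
    · rw [QuotientGroup.ker_mk']; exact hXYi
    · rw [QuotientGroup.ker_mk', eq_bot_iff, ← hYUi]
      exact le_inf inf_le_right (inf_le_left.trans inf_le_right)
    · apply le_antisymm
      · rintro _ ⟨x, hx, rfl⟩
        have hx' : x ∈ Y ⊔ U := by rw [hYU]; trivial
        obtain ⟨y, hy, u, hu, rfl⟩ := Subgroup.mem_sup_of_normal_left.1 hx'
        refine ⟨u, ⟨?_, hu⟩, ?_⟩
        · change u ∈ A ⊔ B
          rw [← hXY]
          have := (X ⊔ Y).mul_mem ((X ⊔ Y).inv_mem (le_sup_right (a := X) hy)) (le_sup_left (a := X) hx)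
          rwa [inv_mul_cancel_left] at this
        · rw [map_mul, (show QuotientGroup.mk' Y y = 1 from (QuotientGroup.eq_one_iff y).2 hy), one_mul]
      · rintro _ ⟨d, ⟨hd, -⟩, rfl⟩
        change d ∈ A ⊔ B at hd
        rw [← hXY] at hd
        obtain ⟨x, hx, y, hy, rfl⟩ := Subgroup.mem_sup_of_normal_left.1 hd
        exact ⟨x, hx, by rw [map_mul, (show QuotientGroup.mk' Y y = 1 from (QuotientGroup.eq_one_iff y).2 hy), mul_one]⟩
  obtain ⟨e1⟩ := key A B hAn hBn rfl hBsup hinf hBU
  obtain ⟨e2⟩ := key B A hBn hAn (sup_comm _ _) hAsup (by rw [inf_comm]; exact hinf) hAU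
  refine ⟨hCB, hCA, isComplement'_of_inf_sup hAU hAsup, isComplement'_of_inf_sup hBU hBsup, ?_, ⟨e1.trans e2.symm⟩, ⟨e1⟩⟩
  intro hc
  apply hA
  have h1 : A ≤ centralizer (A : Set G) := by
    intro x hx
    rw [mem_centralizer_iff]
    intro y hy
    exact congrArg Subtype.val (hc.is_comm.comm ⟨y, hy⟩ ⟨x, hx⟩)
  rw [hCA] at h1
  rw [← inf_eq_left.2 h1, hinf]

/-- in a finite solvable group, core-free maximal subgroups are conjugate -/
theorem cf_conj [Finite G] [hs : Group.IsSolvable G] {U V : Subgroup G} (hU : IsCoatom U) (hV : IsCoatom V) 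
    (hUc : U.normalCore = ⊥) (hVc : V.normalCore = ⊥) : ∃ g : G, MulAut.conj g • U = V := by
  haveI : Nontrivial G := by
    by_contra h
    rw [not_nontrivial_iff_subsingleton] at h
    exact hU.1 (Subsingleton.elim _ _)
  obtain ⟨N, hN, hNe, hNmin, hNab, p, hp, hNp, hNpg⟩ := exists_minNormal_pgroup (G := G)
  haveI := hN
  haveI : Fact p.Prime := ⟨hp⟩
  obtain ⟨hCN, hNU⟩ := cf_abelian hU hUc hNe hNab
  obtain ⟨-, hNV⟩ := cf_abelian hV hVc hNe hNab
  have hUs := cf_sup hU hUc hNe
  have hVs := cf_sup hV hVc hNe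
  by_cases hNt : N = ⊤
  · rw [hNt, top_inf_eq] at hNU hNV
    exact ⟨1, by rw [hNU, hNV]; exact conj_smul_of_mem (one_mem _)⟩
  haveI : Nontrivial (G ⧸ N) := QuotientGroup.nontrivial_iff.2 hNt
  obtain ⟨L', hL', hLe', hLmin', hLab', q, hq, hLq', hLqg'⟩ := exists_minNormal_pgroup (G := G ⧸ N)
  haveI : Fact q.Prime := ⟨hq⟩
  set L := L'.comap (QuotientGroup.mk' N) with hL
  haveI hLn : L.Normal := hL'.comap _
  have hNL : N ≤ L := by
    intro x hx
    rw [hL, mem_comap, QuotientGroup.mk'_apply, (QuotientGroup.eq_one_iff x).2 hx]; exact one_mem _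
  have hLcard : Nat.card L = Nat.card L' * Nat.card N := card_comap_mk N L'
  have hqp : q ≠ p := by
    rintro rfl
    have hLp : IsPGroup q L := by
      obtain ⟨a, ha⟩ := IsPGroup.iff_card.1 hLqg'
      obtain ⟨b, hb⟩ := IsPGroup.iff_card.1 hNpg
      rw [IsPGroup.iff_card]
      exact ⟨a + b, by rw [hLcard, ha, hb, pow_add]⟩
    have h1 : N ⊓ centralizer (L : Set G) ≠ ⊥ :=
      inf_centralizer_ne_bot_of_nilpotent hLp.isNilpotent hNL (le_normalizer_of_normal _ _) hNe
    rcases hNmin (N ⊓ centralizer (L : Set G)) inferInstance inf_le_left with h2 | h2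
    · exact h1 h2
    · have h3 : L ≤ centralizer (N : Set G) := le_centralizer_iff.1 (inf_eq_left.1 h2)
      rw [hCN] at h3
      apply hLe'
      rw [eq_bot_iff]
      intro x hx
      obtain ⟨y, rfl⟩ := QuotientGroup.mk'_surjective N x
      exact (QuotientGroup.eq_one_iff y).2 (h3 hx)
  -- L ⊓ U is Sylow q in L
  have hsyl : ∀ W : Subgroup G, N ⊓ W = ⊥ → N ⊔ W = ⊤ → IsSylowOf q (L ⊓ W) L ∧ L ⊓ W ≠ ⊥ := by
    intro W h1 h2
    have h3 : N ⊔ (L ⊓ W) = L := by
      rw [← modular_law (le_normalizer_of_normal W N) hNL, h2, inf_top_eq]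
    have h4 : N ⊓ (L ⊓ W) = ⊥ := by
      rw [eq_bot_iff, ← h1]; exact le_inf inf_le_left (inf_le_right.trans inf_le_right)
    have h5 := card_sup_of_disjoint (le_normalizer_of_normal (L ⊓ W) N) (by rw [inf_comm]; exact h4)
    rw [sup_comm, h3, hLcard] at h5
    have h6 : Nat.card L' = Nat.card (L ⊓ W : Subgroup G) := Nat.eq_of_mul_eq_mul_right Nat.card_pos h5
    obtain ⟨a, ha⟩ := IsPGroup.iff_card.1 hLqg'
    refine ⟨?_, ?_⟩
    · rw [isSylowOf_iff]
      refine ⟨inf_le_left, IsPGroup.of_card (n := a) (by rw [← h6, ha]), ?_⟩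
      have h7 := card_mul_relIndex' (inf_le_left : L ⊓ W ≤ L)
      rw [hLcard, ← h6] at h7
      have h8 := Nat.eq_of_mul_eq_mul_left Nat.card_pos h7
      rw [h8]
      obtain ⟨b, hb⟩ := IsPGroup.iff_card.1 hNpg
      rw [hb]
      intro h
      exact hqp ((Nat.prime_dvd_prime_iff_eq hq hp).1 (hq.dvd_of_dvd_pow h))
    · intro h
      rw [h, Subgroup.card_bot] at h6
      exact hLe' (Subgroup.card_eq_one.1 h6)
  obtain ⟨hs1, hne1⟩ := hsyl U hNU hUs
  obtain ⟨hs2, hne2⟩ := hsyl V hNV hVs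
  obtain ⟨g, -, hg⟩ := isSylowOf_conj_trans hs1 hs2
  have hnorm : ∀ W : Subgroup G, IsCoatom W → W.normalCore = ⊥ → L ⊓ W ≠ ⊥ → normalizer ((L ⊓ W : Subgroup G) : Set G) = W := by
    intro W hW hWc hne
    have h1 : W ≤ normalizer ((L ⊓ W : Subgroup G) : Set G) := le_normalizer_inf (le_normalizer_of_normal _ _) le_normalizer
    rcases hW.le_iff.1 h1 with h2 | h2
    · exfalso
      haveI := normalizer_eq_top_iff.1 h2
      apply hne
      rw [eq_bot_iff, ← hWc]
      exact Subgroup.normal_le_normalCore.2 inf_le_right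
    · exact h2
  refine ⟨g, ?_⟩
  rw [← hnorm U hU hUc hne1, ← hnorm V hV hVc hne2, ← hg]
  ext x
  rw [mem_conj_smul, mem_normalizer_iff, mem_normalizer_iff]
  constructor
  · intro h y
    rw [mem_conj_smul, mem_conj_smul]
    have := h (g⁻¹ * y * g)
    have e : g⁻¹ * x * g * (g⁻¹ * y * g) * (g⁻¹ * x * g)⁻¹ = g⁻¹ * (x * y * x⁻¹) * g := by group
    rwa [e] at this
  · intro h y
    have := h (g * y * g⁻¹)
    rw [mem_conj_smul, mem_conj_smul] at this
    have e1 : g⁻¹ * (g * y * g⁻¹) * g = y := by group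
    have e2 : g⁻¹ * (x * (g * y * g⁻¹) * x⁻¹) * g = g⁻¹ * x * g * y * (g⁻¹ * x * g)⁻¹ := by group
    rwa [e1, e2] at this

theorem isPGroup_pCore' [Finite G] {p : ℕ} [Fact p.Prime] : IsPGroup p (pCore p G) := by
  obtain ⟨P⟩ := (inferInstance : Nonempty (Sylow p G))
  exact P.2.to_le (pCore_le_sylow P)

theorem cf_pcore [Finite G] {p : ℕ} [hp : Fact p.Prime] (hL : pCore p G ≠ ⊥) {M : Subgroup G} (hM : IsCoatom M) (hcore : M.normalCore = ⊥) : 
    IsElementaryAbelian p (pCore p G) ∧ IsComplement' (pCore p G) M ∧ 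
    (∀ K : Subgroup G, K.Normal → K ≤ pCore p G → K = ⊥ ∨ K = pCore p G) ∧ 
    centralizer ((pCore p G : Subgroup G) : Set G) = pCore p G ∧ 
    ∀ (q : ℕ) [Fact q.Prime], pCore q ↥M ≠ ⊥ → Nat.card (pCore p G) % q = 1 % q ∧ q ≠ p := by
  set L := pCore p G with hLdef
  have hLp : IsPGroup p L := isPGroup_pCore'
  haveI hLn : L.Normal := inferInstance
  -- Z(L)
  set A := L ⊓ centralizer (L : Set G) with hA
  have hAe : A ≠ ⊥ := inf_centralizer_ne_bot_of_nilpotent hLp.isNilpotent le_rfl le_normalizer hL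
  haveI hAn : A.Normal := inferInstance
  have hLA : L ≤ centralizer (A : Set G) := by
    rw [le_centralizer_iff]; exact inf_le_right
  have hLC : L = centralizer (A : Set G) := by
    rcases cf_centralizer_min hM hcore hAe hLn hLA with h | h
    · exact absurd h hL
    · exact h
  have hmin : ∀ K : Subgroup G, K.Normal → K ≤ L → K = ⊥ ∨ K = L := by
    intro K hK hKL
    rw [hLC] at hKL ⊢
    exact cf_centralizer_min hM hcore hAe hK hKL
  have hab : ∀ x ∈ L, ∀ y ∈ L, x * y = y * x := by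
    rcases hmin A hAn inf_le_left with h | h
    · exact absurd h hAe
    · intro x hx y hy
      rw [← h] at hx
      exact (mem_centralizer_iff.1 hx.2 y hy).symm
  obtain ⟨hCL, hLM⟩ := cf_abelian hM hcore hL hab
  have hsup := cf_sup hM hcore hL
  refine ⟨?_, isComplement'_of_inf_sup hLM hsup, hmin, hCL, ?_⟩
  · refine ⟨⟨⟨fun a b => Subtype.ext (hab a a.2 b b.2)⟩⟩, ?_⟩
    let W : Subgroup G :=
      { carrier := {x | x ∈ L ∧ x ^ p = 1}
        one_mem' := ⟨L.one_mem, one_pow _⟩
        mul_mem' := by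
          rintro a b ⟨ha, ha'⟩ ⟨hb, hb'⟩
          refine ⟨L.mul_mem ha hb, ?_⟩
          rw [(show Commute a b from hab a ha b hb).mul_pow, ha', hb', one_mul]
        inv_mem' := by
          rintro a ⟨ha, ha'⟩
          exact ⟨L.inv_mem ha, by rw [inv_pow, ha', inv_one]⟩ }
    have hWn : W.Normal := ⟨by
      rintro x ⟨hx, hx'⟩ g
      exact ⟨hLn.conj_mem x hx g, by rw [conj_pow, hx', mul_one, mul_inv_cancel]⟩⟩
    have hWe : W ≠ ⊥ := by
      obtain ⟨x, hx⟩ := exists_prime_orderOf_dvd_card' (G := L) p (by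
        obtain ⟨k, hk⟩ := IsPGroup.iff_card.1 hLp
        rw [hk]
        apply dvd_pow_self
        rintro rfl
        rw [pow_zero] at hk
        exact hL (Subgroup.card_eq_one.1 hk))
      intro h
      have hxW : (x : G) ∈ W := ⟨x.2, by rw [← Subgroup.coe_pow, ← hx, pow_orderOf_eq_one]; rfl⟩
      rw [h, mem_bot] at hxW
      have : x = 1 := Subtype.ext hxW
      rw [this, orderOf_one] at hx
      exact hp.out.ne_one hx.symm
    rcases hmin W hWn (fun x hx => hx.1) with h | h
    · exact absurd h hWe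
    · intro a ha
      rw [← h] at ha
      exact ha.2
  · intro q hq hQ
    set Q := (pCore q M).map M.subtype with hQdef
    have hQM : Q ≤ M := Subgroup.map_subtype_le _
    have hQp : IsPGroup q Q := (isPGroup_pCore').map _
    have hQe : Q ≠ ⊥ := by
      intro h
      rw [hQdef, Subgroup.map_eq_bot_iff_of_injective _ M.subtype_injective] at h
      exact hQ h
    have hMQ : M ≤ normalizer (Q : Set G) := by
      apply le_normalizer_of_normal_subgroupOf hQM
      rw [hQdef, Subgroup.subgroupOf, Subgroup.comap_map_eq_self_of_injective M.subtype_injective]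
      infer_instance
    have hQL : Q ≤ normalizer (L : Set G) := le_normalizer_of_normal _ _
    -- C_L(Q) = 1
    have hC : L ⊓ centralizer (Q : Set G) = ⊥ := by
      have hn : (L ⊓ centralizer (Q : Set G)).Normal := by
        rw [← normalizer_eq_top_iff, eq_top_iff, ← hsup]
        apply sup_le
        · refine le_trans ?_ (centralizer_le_normalizer _)
          intro x hx
          rw [mem_centralizer_iff]
          rintro y ⟨hy, -⟩
          exact hab y hy x hx
        · refine le_normalizer_inf (le_normalizer_of_normal _ _) ?_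
          rw [le_normalizer_iff_conj]
          intro m hm x hx
          rw [mem_centralizer_iff] at hx ⊢
          intro y hy
          have h1 : m⁻¹ * y * m ∈ Q := by
            have := (le_normalizer_iff_conj.1 hMQ) m⁻¹ (M.inv_mem hm) y hy
            rwa [inv_inv] at this
          have h2 := hx _ h1
          have e1 : y * (m * x * m⁻¹) = m * (m⁻¹ * y * m * x) * m⁻¹ := by group
          have e2 : m * x * m⁻¹ * y = m * (x * (m⁻¹ * y * m)) * m⁻¹ := by group
          rw [e1, e2, h2]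
      rcases hmin _ hn inf_le_left with h | h
      · exact h
      · exfalso
        apply hQe
        have h1 : Q ≤ centralizer (L : Set G) := le_centralizer_iff.1 (inf_eq_left.1 h)
        rw [hCL] at h1
        rw [eq_bot_iff, ← hLM]
        exact le_inf h1 hQM
    letI := conjMDMA hQL
    have h1 := hQp.card_modEq_card_fixedPoints L
    have h2 : Nat.card (MulAction.fixedPoints Q L) = 1 := by
      rw [Nat.card_eq_one_iff_unique]
      refine ⟨⟨?_⟩, ⟨⟨1, fun a => smul_one a⟩⟩⟩
      have : ∀ x : MulAction.fixedPoints Q L, (x : L) = 1 := by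
        intro x
        apply Subtype.ext
        have h3 : ((x : L) : G) ∈ L ⊓ centralizer (Q : Set G) := by
          refine ⟨(x : L).2, ?_⟩
          change ((x : L) : G) ∈ centralizer (Q : Set G)
          rw [mem_centralizer_iff]
          intro y hy
          have h4 : y * ((x : L) : G) * y⁻¹ = (x : L) := congrArg Subtype.val (x.2 ⟨y, hy⟩)
          exact mul_inv_eq_iff_eq_mul.1 h4
        rw [hC, mem_bot] at h3
        exact h3
      intro a b
      exact Subtype.ext ((this a).trans (this b).symm)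
    rw [h2] at h1
    refine ⟨h1, ?_⟩
    rintro rfl
    obtain ⟨k, hk⟩ := IsPGroup.iff_card.1 hLp
    have hk0 : k ≠ 0 := by
      rintro rfl
      rw [pow_zero] at hk
      exact hL (Subgroup.card_eq_one.1 hk)
    have h3 : Nat.card L % q = 0 := by
      rw [hk]; exact Nat.mod_eq_zero_of_dvd (dvd_pow_self q hk0)
    have h4 : Nat.card L % q = 1 % q := h1
    rw [h3, Nat.mod_eq_of_lt hq.out.one_lt] at h4
    exact absurd h4 (by norm_num)

end CfsgH1
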