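import Cfsg.Agent.H1.Quad
import Cfsg.Agent.H1.ActStab
import Cfsg.Prelude.Def_PLocal

set_option autoImplicit false

/-! Thompson replacement, best offenders. -/

open Cfsg Subgroup
open scoped Pointwise commutatorElement

namespace CfsgH1

universe u v
variable {G : Type u} [Group G]

/-- `|B| |C_V(B)|` -/
noncomputable def mm (V B : Subgroup G) : ℕ := Nat.card B * Nat.card ↥(V ⊓ centralizer (B : Set G))

/-- commutator in an abelian group: `[U₁ U₂, A] = [U₁, A][U₂, A]` -/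
theorem commutator_sup_left {V A U₁ U₂ : Subgroup G} (hab : ∀ x ∈ V, ∀ y ∈ V, x * y = y * x) (hAV : A ≤ normalizer (V : Set G)) 
    (h₁ : U₁ ≤ V) (h₂ : U₂ ≤ V) : ⁅U₁ ⊔ U₂, A⁆ = ⁅U₁, A⁆ ⊔ ⁅U₂, A⁆ := by
  apply le_antisymm
  · rw [Subgroup.commutator_le]
    intro u hu a ha
    have hn : U₂ ≤ normalizer (U₁ : Set G) := by
      apply le_normalizer_of_le_centralizer
      intro x hx
      rw [Subgroup.mem_centralizer_iff]
      intro y hy
      exact hab y (h₁ hy) x (h₂ hx)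
    obtain ⟨u₁, hu₁, u₂, hu₂, rfl⟩ := (mem_sup_of_le_normalizer' hn).1 hu
    have h3 : a * u₂ * a⁻¹ ∈ V := le_normalizer_iff_conj.1 hAV a ha _ (h₂ hu₂)
    have h4 : ⁅u₂, a⁆ ∈ V := by
      rw [commutatorElement_def]
      have : u₂ * a * u₂⁻¹ * a⁻¹ = u₂ * (a * u₂ * a⁻¹)⁻¹ := by group
      rw [this]; exact V.mul_mem (h₂ hu₂) (V.inv_mem h3)
    have h5 : ⁅u₁ * u₂, a⁆ = ⁅u₂, a⁆ * ⁅u₁, a⁆ := by
      have e : ⁅u₁ * u₂, a⁆ = (u₁ * ⁅u₂, a⁆) * u₁⁻¹ * ⁅u₁, a⁆ := by simp only [commutatorElement_def]; group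
      rw [e, hab _ (h₁ hu₁) _ h4]; group
    rw [h5]
    exact mul_mem (mem_sup_right (commutator_mem_commutator hu₂ ha)) (mem_sup_left (commutator_mem_commutator hu₁ ha))
  · exact sup_le (commutator_mono le_sup_left (le_refl _)) (commutator_mono le_sup_right (le_refl _))

theorem commutator_mem_V {V A : Subgroup G} (hAV : A ≤ normalizer (V : Set G)) {u a : G} (hu : u ∈ V) (ha : a ∈ A) : ⁅u, a⁆ ∈ V := by
  rw [commutatorElement_def]
  have h3 : a * u * a⁻¹ ∈ V := le_normalizer_iff_conj.1 hAV a ha _ hu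
  have : u * a * u⁻¹ * a⁻¹ = u * (a * u * a⁻¹)⁻¹ := by group
  rw [this]; exact V.mul_mem hu (V.inv_mem h3)

/-- the elements of A commute in their action on V -/
theorem comm_act {V A : Subgroup G} (hAV : A ≤ normalizer (V : Set G)) (hAb : ⁅A, A⁆ ≤ centralizer (V : Set G)) {a b v : G} (ha : a ∈ A) (hb : b ∈ A) 
    (hv : v ∈ V) : a * (b * v * b⁻¹) * a⁻¹ = b * (a * v * a⁻¹) * b⁻¹ := by
  have h1 : ⁅a⁻¹, b⁻¹⁆ ∈ centralizer (V : Set G) := hAb (commutator_mem_commutator (A.inv_mem ha) (A.inv_mem hb))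
  have h2 := Subgroup.mem_centralizer_iff.1 h1 v hv
  rw [commutatorElement_def] at h2
  calc a * (b * v * b⁻¹) * a⁻¹ = b * a * ((a⁻¹ * b⁻¹ * a⁻¹⁻¹ * b⁻¹⁻¹) * v) * (a⁻¹ * b⁻¹ * a⁻¹⁻¹ * b⁻¹⁻¹)⁻¹ * a⁻¹ * b⁻¹ := by group
    _ = b * a * (v * (a⁻¹ * b⁻¹ * a⁻¹⁻¹ * b⁻¹⁻¹)) * (a⁻¹ * b⁻¹ * a⁻¹⁻¹ * b⁻¹⁻¹)⁻¹ * a⁻¹ * b⁻¹ := by rw [h2]
    _ = _ := by group

theorem normalizer_of_comm {V A B : Subgroup G} (hAb : ⁅A, A⁆ ≤ centralizer (V : Set G)) (hBA : B ≤ A) (hB : A ⊓ centralizer (V : Set G) ≤ B) : 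
    A ≤ normalizer (B : Set G) := by
  rw [le_normalizer_iff_conj]
  intro a ha b hb
  have h1 : ⁅a, b⁆ ∈ B := by
    apply hB
    refine ⟨?_, hAb (commutator_mem_commutator ha (hBA hb))⟩
    change ⁅a, b⁆ ∈ A
    rw [commutatorElement_def]
    exact A.mul_mem (A.mul_mem (A.mul_mem ha (hBA hb)) (A.inv_mem ha)) (A.inv_mem (hBA hb))
  rw [commutatorElement_def] at h1
  have := B.mul_mem h1 hb
  rwa [inv_mul_cancel_right] at this

section repl

variable [Finite G] {V A : Subgroup G}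

/-- the lattice step -/
theorem repl_lattice (hab : ∀ x ∈ V, ∀ y ∈ V, x * y = y * x) (hAb : ⁅A, A⁆ ≤ centralizer (V : Set G)) (hmax : ∀ B ≤ A, mm V B ≤ mm V A) 
    {B₁ B₂ : Subgroup G} (h₁ : B₁ ≤ A) (h₂ : B₂ ≤ A) (hc₁ : A ⊓ centralizer (V : Set G) ≤ B₁) (h3 : mm V B₁ = mm V A) (h4 : mm V B₂ = mm V A) : 
    mm V (B₁ ⊓ B₂) = mm V A ∧ V ⊓ centralizer ((B₁ ⊓ B₂ : Subgroup G) : Set G) = (V ⊓ centralizer (B₁ : Set G)) ⊔ (V ⊓ centralizer (B₂ : Set G)) := by
  have hn : B₂ ≤ normalizer (B₁ : Set G) := h₂.trans (normalizer_of_comm hAb h₁ hc₁)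
  have e1 := card_sup_mul_card_inf hn
  set C₁ := V ⊓ centralizer (B₁ : Set G) with hC₁
  set C₂ := V ⊓ centralizer (B₂ : Set G) with hC₂
  have hCn : C₂ ≤ normalizer (C₁ : Set G) := by
    apply le_normalizer_of_le_centralizer
    intro x hx
    rw [Subgroup.mem_centralizer_iff]
    intro y hy
    exact hab y hy.1 x hx.1
  have e2 := card_sup_mul_card_inf hCn
  have hinf : C₂ ⊓ C₁ = V ⊓ centralizer ((B₂ ⊔ B₁ : Subgroup G) : Set G) := by
    ext x
    constructor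
    · rintro ⟨hx1, hx2⟩
      refine ⟨hx1.1, ?_⟩
      change x ∈ centralizer ((B₂ ⊔ B₁ : Subgroup G) : Set G)
      have h5 : B₂ ⊔ B₁ ≤ centralizer {x} := by
        apply sup_le
        · intro b hb
          rw [Subgroup.mem_centralizer_iff]
          rintro _ rfl
          exact (Subgroup.mem_centralizer_iff.1 hx1.2 b hb).symm
        · intro b hb
          rw [Subgroup.mem_centralizer_iff]
          rintro _ rfl
          exact (Subgroup.mem_centralizer_iff.1 hx2.2 b hb).symm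
      rw [Subgroup.mem_centralizer_iff]
      intro b hb
      exact (Subgroup.mem_centralizer_iff.1 (h5 hb) x rfl).symm
    · rintro ⟨hx1, hx2⟩
      exact ⟨⟨hx1, centralizer_le (show (B₂ : Set G) ⊆ _ from fun y hy => mem_sup_left (T := B₁) hy) hx2⟩, 
        ⟨hx1, centralizer_le (show (B₁ : Set G) ⊆ _ from fun y hy => mem_sup_right (S := B₂) hy) hx2⟩⟩
  have hle : C₁ ⊔ C₂ ≤ V ⊓ centralizer ((B₁ ⊓ B₂ : Subgroup G) : Set G) := by
    apply sup_le
    · exact inf_le_inf_left _ (centralizer_le (show ((B₁ ⊓ B₂ : Subgroup G) : Set G) ⊆ _ from fun y hy => hy.1))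
    · exact inf_le_inf_left _ (centralizer_le (show ((B₁ ⊓ B₂ : Subgroup G) : Set G) ⊆ _ from fun y hy => hy.2))
  have h5 := hmax (B₂ ⊔ B₁) (sup_le h₂ h₁)
  have h6 := hmax (B₁ ⊓ B₂) (inf_le_left.trans h₁)
  unfold mm at h3 h4 h5 h6 ⊢
  rw [← hinf] at h5
  have h7 : Nat.card (C₁ ⊔ C₂ : Subgroup G) ≤ Nat.card ↥(V ⊓ centralizer ((B₁ ⊓ B₂ : Subgroup G) : Set G)) := 
    Nat.card_le_card_of_injective _ (Subgroup.inclusion_injective hle)
  set m := Nat.card A * Nat.card ↥(V ⊓ centralizer (A : Set G)) with hm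
  have hmpos : 0 < m := Nat.mul_pos Nat.card_pos Nat.card_pos
  -- |B₁∩B₂| |C₁C₂| · |B₂B₁| |C₂∩C₁| = m²
  have h8 : (Nat.card (B₁ ⊓ B₂ : Subgroup G) * Nat.card (C₁ ⊔ C₂ : Subgroup G)) * (Nat.card (B₂ ⊔ B₁ : Subgroup G) * Nat.card (C₂ ⊓ C₁ : Subgroup G)) = m * m := by
    have e3 : Nat.card (B₂ ⊓ B₁ : Subgroup G) = Nat.card (B₁ ⊓ B₂ : Subgroup G) := by rw [inf_comm]
    have e4 : Nat.card (C₂ ⊔ C₁ : Subgroup G) = Nat.card (C₁ ⊔ C₂ : Subgroup G) := by rw [sup_comm]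
    rw [e3] at e1
    rw [e4] at e2
    calc _ = (Nat.card (B₂ ⊔ B₁ : Subgroup G) * Nat.card (B₁ ⊓ B₂ : Subgroup G)) * (Nat.card (C₁ ⊔ C₂ : Subgroup G) * Nat.card (C₂ ⊓ C₁ : Subgroup G)) := by ring
      _ = (Nat.card B₂ * Nat.card B₁) * (Nat.card C₂ * Nat.card C₁) := by rw [e1, e2]
      _ = (Nat.card B₁ * Nat.card C₁) * (Nat.card B₂ * Nat.card C₂) := by ring
      _ = m * m := by rw [h3, h4]
  have h9 : m ≤ Nat.card (B₁ ⊓ B₂ : Subgroup G) * Nat.card (C₁ ⊔ C₂ : Subgroup G) := by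
    have h10 : m * m ≤ (Nat.card (B₁ ⊓ B₂ : Subgroup G) * Nat.card (C₁ ⊔ C₂ : Subgroup G)) * m := by
      rw [← h8]; exact Nat.mul_le_mul_left _ h5
    exact Nat.le_of_mul_le_mul_right h10 hmpos
  have h10 : Nat.card (B₁ ⊓ B₂ : Subgroup G) * Nat.card (C₁ ⊔ C₂ : Subgroup G) ≤ 
      Nat.card (B₁ ⊓ B₂ : Subgroup G) * Nat.card ↥(V ⊓ centralizer ((B₁ ⊓ B₂ : Subgroup G) : Set G)) := Nat.mul_le_mul_left _ h7
  have h11 : Nat.card (B₁ ⊓ B₂ : Subgroup G) * Nat.card ↥(V ⊓ centralizer ((B₁ ⊓ B₂ : Subgroup G) : Set G)) = m := 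
    le_antisymm h6 (h9.trans h10)
  refine ⟨h11, ?_⟩
  symm
  apply eq_of_le_of_card_le hle
  have h12 : Nat.card (B₁ ⊓ B₂ : Subgroup G) * Nat.card ↥(V ⊓ centralizer ((B₁ ⊓ B₂ : Subgroup G) : Set G)) ≤ 
      Nat.card (B₁ ⊓ B₂ : Subgroup G) * Nat.card (C₁ ⊔ C₂ : Subgroup G) := by rw [h11]; exact h9
  exact Nat.le_of_mul_le_mul_left h12 Nat.card_pos


theorem card_le_of_fibers {α β γ : Type*} [Finite α] [Finite β] [Finite γ] (f : α → β) (g : α → α → γ) 
    (hg : ∀ a b c : α, f a = f c → f b = f c → g c a = g c b → a = b) : Nat.card α ≤ Nat.card γ * Nat.card β := by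
  classical
  rw [← Nat.card_prod]
  let t : Set.range f → α := fun r => Classical.choose r.2
  have ht : ∀ r : Set.range f, f (t r) = r := fun r => Classical.choose_spec r.2
  refine Nat.card_le_card_of_injective (fun a => (g (t ⟨f a, a, rfl⟩) a, f a)) ?_
  intro a b hab
  have h1 : f a = f b := congrArg Prod.snd hab
  have h2 : g (t ⟨f a, a, rfl⟩) a = g (t ⟨f b, b, rfl⟩) b := congrArg Prod.fst hab
  have h3 : (⟨f a, a, rfl⟩ : Set.range f) = ⟨f b, b, rfl⟩ := Subtype.ext h1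
  rw [← h3] at h2
  refine hg a b (t ⟨f a, a, rfl⟩) ?_ ?_ h2
  · exact (ht ⟨f a, a, rfl⟩).symm
  · rw [← h1]; exact (ht ⟨f a, a, rfl⟩).symm

theorem repl_cyclic (hab : ∀ x ∈ V, ∀ y ∈ V, x * y = y * x) (hAV : A ≤ normalizer (V : Set G)) (hAb : ⁅A, A⁆ ≤ centralizer (V : Set G)) 
    (hmax : ∀ B ≤ A, mm V B ≤ mm V A) {u : G} (hu : u ∈ V) : 
    mm V (A ⊓ centralizer ((⁅zpowers u, A⁆ : Subgroup G) : Set G)) = mm V A ∧ 
    V ⊓ centralizer ((A ⊓ centralizer ((⁅zpowers u, A⁆ : Subgroup G) : Set G) : Subgroup G) : Set G) = ⁅zpowers u, A⁆ ⊔ (V ⊓ centralizer (A : Set G)) := by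
  set X := ⁅zpowers u, A⁆ with hX
  set B := A ⊓ centralizer (X : Set G) with hB
  set C := V ⊓ centralizer (A : Set G) with hC
  have huV : zpowers u ≤ V := by rw [zpowers_le]; exact hu
  have hXV : X ≤ V := by
    rw [hX, Subgroup.commutator_le]
    intro x hx a ha
    exact commutator_mem_V hAV (huV hx) ha
  have hXC : X ⊔ C ≤ V ⊓ centralizer (B : Set G) := by
    apply sup_le
    · refine le_inf hXV ?_
      rw [Subgroup.le_centralizer_iff]
      exact inf_le_right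
    · exact inf_le_inf_left _ (centralizer_le inf_le_left)
  have hmem : ∀ a : A, ⁅u, (a : G)⁆ ∈ X ⊔ C := fun a => mem_sup_left (commutator_mem_commutator (mem_zpowers u) a.2)
  -- key computation
  have key : ∀ a ∈ A, ∀ b ∈ A, (⁅u, a⁆)⁻¹ * ⁅u, b⁆ ∈ C → a⁻¹ * b ∈ B := by
    intro a ha b hb hab'
    -- w = c u c⁻¹ u⁻¹ with c = a⁻¹ b
    set c := a⁻¹ * b with hc
    have hcA : c ∈ A := A.mul_mem (A.inv_mem ha) hb
    have e1 : (⁅u, a⁆)⁻¹ * ⁅u, b⁆ = (a * u * a⁻¹) * (b * u * b⁻¹)⁻¹ := by simp only [commutatorElement_def]; group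
    rw [e1] at hab'
    -- conj by a⁻¹
    have h1 : a⁻¹ * ((a * u * a⁻¹) * (b * u * b⁻¹)⁻¹) * a = (a * u * a⁻¹) * (b * u * b⁻¹)⁻¹ := by
      have h2 := Subgroup.mem_centralizer_iff.1 hab'.2 a ha
      rw [mul_assoc, ← h2, inv_mul_cancel_left]
    have hw' : u * (c * u * c⁻¹)⁻¹ ∈ C := by
      rw [← h1] at hab'
      have e2 : a⁻¹ * ((a * u * a⁻¹) * (b * u * b⁻¹)⁻¹) * a = u * (c * u * c⁻¹)⁻¹ := by rw [hc]; group
      rwa [e2] at hab'
    have hw : c * u * c⁻¹ * u⁻¹ ∈ C := by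
      have := C.inv_mem hw'
      have e3 : (u * (c * u * c⁻¹)⁻¹)⁻¹ = c * u * c⁻¹ * u⁻¹ := by group
      rwa [e3] at this
    set w := c * u * c⁻¹ * u⁻¹ with hwdef
    have hcu : c * u * c⁻¹ = w * u := by rw [hwdef]; group
    refine ⟨hcA, ?_⟩
    change c ∈ centralizer (X : Set G)
    have hgen : ∀ g ∈ A, c * ⁅u, g⁆ = ⁅u, g⁆ * c := by
      intro g hg
      have h3 := comm_act hAV hAb hcA hg hu
      have h4 : g * w = w * g := Subgroup.mem_centralizer_iff.1 hw.2 g hg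
      have h5 : g * u * g⁻¹ ∈ V := le_normalizer_iff_conj.1 hAV g hg _ hu
      have h6 : c * ⁅u, g⁆ * c⁻¹ = ⁅u, g⁆ := by
        calc c * ⁅u, g⁆ * c⁻¹ = (c * u * c⁻¹) * (c * (g * u * g⁻¹) * c⁻¹)⁻¹ := by rw [commutatorElement_def]; group
          _ = (w * u) * (g * (w * u) * g⁻¹)⁻¹ := by rw [h3, hcu]
          _ = (w * u) * (g * w * (u * g⁻¹))⁻¹ := by group
          _ = w * (u * (g * u * g⁻¹)⁻¹) * w⁻¹ := by rw [h4]; group
          _ = (u * (g * u * g⁻¹)⁻¹) * w * w⁻¹ := by rw [hab w hw.1 _ (V.mul_mem hu (V.inv_mem h5))]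
          _ = ⁅u, g⁆ := by rw [commutatorElement_def]; group
      exact mul_inv_eq_iff_eq_mul.1 h6
    have hle : X ≤ centralizer {c} := by
      rw [hX, Subgroup.commutator_le]
      rintro _ ⟨k, rfl⟩ g hg
      have hug : ⁅u, g⁆ ∈ V := commutator_mem_V hAV hu hg
      have h7 : ⁅u ^ k, g⁆ = ⁅u, g⁆ ^ k := by
        have h8 : g * u * g⁻¹ ∈ V := le_normalizer_iff_conj.1 hAV g hg _ hu
        have h9 : Commute u (g * u * g⁻¹)⁻¹ := hab _ hu _ (V.inv_mem h8)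
        have e5 : ⁅u ^ k, g⁆ = u ^ k * ((g * u * g⁻¹)⁻¹) ^ k := by
          rw [commutatorElement_def, inv_zpow, conj_zpow]; group
        have e6 : ⁅u, g⁆ = u * (g * u * g⁻¹)⁻¹ := by rw [commutatorElement_def]; group
        rw [e5, e6, h9.mul_zpow]
      change ⁅u ^ k, g⁆ ∈ _
      rw [h7, Subgroup.mem_centralizer_iff]
      rintro _ rfl
      exact (Commute.zpow_right (show Commute c ⁅u, g⁆ from hgen g hg) k).eq
    rw [Subgroup.mem_centralizer_iff]
    intro x hx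
    exact (Subgroup.mem_centralizer_iff.1 (hle hx) c rfl).symm
  -- counting
  have hcount : Nat.card A ≤ Nat.card B * C.relIndex (X ⊔ C) := by
    change Nat.card A ≤ Nat.card B * Nat.card ((X ⊔ C : Subgroup G) ⧸ C.subgroupOf (X ⊔ C))
    classical
    refine card_le_of_fibers (fun a : A => (QuotientGroup.mk (⟨⁅u, (a : G)⁆, hmem a⟩ : (X ⊔ C : Subgroup G)) : (X ⊔ C : Subgroup G) ⧸ C.subgroupOf (X ⊔ C))) 
      (fun c a => if h : ((c : G)⁻¹ * a) ∈ B then (⟨(c : G)⁻¹ * a, h⟩ : B) else 1) ?_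
    intro a b c hac hbc hgab
    have h1 : (c : G)⁻¹ * a ∈ B := by
      apply key c c.2 a a.2
      have h0 : ((⟨⁅u, (c : G)⁆, hmem c⟩ : (X ⊔ C : Subgroup G))⁻¹ * (⟨⁅u, (a : G)⁆, hmem a⟩ : (X ⊔ C : Subgroup G))) ∈ C.subgroupOf (X ⊔ C) := 
        QuotientGroup.eq.1 hac.symm
      exact h0
    have h2 : (c : G)⁻¹ * b ∈ B := by
      apply key c c.2 b b.2
      have h0 : ((⟨⁅u, (c : G)⁆, hmem c⟩ : (X ⊔ C : Subgroup G))⁻¹ * (⟨⁅u, (b : G)⁆, hmem b⟩ : (X ⊔ C : Subgroup G))) ∈ C.subgroupOf (X ⊔ C) := 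
        QuotientGroup.eq.1 hbc.symm
      exact h0
    rw [dif_pos h1, dif_pos h2] at hgab
    have h3 := congrArg Subtype.val hgab
    exact Subtype.ext (mul_left_cancel h3)
  have h1 : mm V A ≤ Nat.card B * Nat.card (X ⊔ C : Subgroup G) := by
    have h2 := card_mul_relIndex'' (le_sup_right : C ≤ X ⊔ C)
    unfold mm
    rw [h2]
    calc Nat.card A * Nat.card C ≤ Nat.card B * C.relIndex (X ⊔ C) * Nat.card C := Nat.mul_le_mul_right _ hcount
      _ = _ := by ring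
  have h2 : Nat.card (X ⊔ C : Subgroup G) ≤ Nat.card ↥(V ⊓ centralizer (B : Set G)) := 
    Nat.card_le_card_of_injective _ (Subgroup.inclusion_injective hXC)
  have h3 := hmax B inf_le_left
  have h4 : Nat.card B * Nat.card (X ⊔ C : Subgroup G) ≤ mm V B := Nat.mul_le_mul_left _ h2
  have h5 : mm V B = mm V A := le_antisymm h3 (h1.trans h4)
  refine ⟨h5, ?_⟩
  symm
  apply eq_of_le_of_card_le hXC
  have h6 : Nat.card B * Nat.card ↥(V ⊓ centralizer (B : Set G)) ≤ Nat.card B * Nat.card (X ⊔ C : Subgroup G) := by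
    change mm V B ≤ _
    rw [h5]; exact h1
  exact Nat.le_of_mul_le_mul_left h6 Nat.card_pos

theorem repl_main (hab : ∀ x ∈ V, ∀ y ∈ V, x * y = y * x) (hAV : A ≤ normalizer (V : Set G)) (hAb : ⁅A, A⁆ ≤ centralizer (V : Set G)) 
    (hmax : ∀ B ≤ A, mm V B ≤ mm V A) {U : Subgroup G} (hU : U ≤ V) : 
    mm V (A ⊓ centralizer ((⁅U, A⁆ : Subgroup G) : Set G)) = mm V A ∧ 
    V ⊓ centralizer ((A ⊓ centralizer ((⁅U, A⁆ : Subgroup G) : Set G) : Subgroup G) : Set G) = ⁅U, A⁆ ⊔ (V ⊓ centralizer (A : Set G)) := by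
  classical
  have hfin : ∀ s : Finset G, (∀ x ∈ s, x ∈ V) → mm V (A ⊓ centralizer ((⁅closure (s : Set G), A⁆ : Subgroup G) : Set G)) = mm V A ∧ 
    V ⊓ centralizer ((A ⊓ centralizer ((⁅closure (s : Set G), A⁆ : Subgroup G) : Set G) : Subgroup G) : Set G) = ⁅closure (s : Set G), A⁆ ⊔ (V ⊓ centralizer (A : Set G)) := by
    intro s
    induction s using Finset.induction_on with
    | empty =>
      intro _
      have e1 : closure ((∅ : Finset G) : Set G) = ⊥ := by simp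
      have e2 : A ⊓ centralizer ((⊥ : Subgroup G) : Set G) = A := by
        rw [inf_eq_left]
        intro a _
        rw [Subgroup.mem_centralizer_iff]
        intro y hy
        have : y = 1 := Subgroup.mem_bot.1 hy
        rw [this]; simp
      rw [e1, commutator_bot_left, e2, bot_sup_eq]
      exact ⟨rfl, rfl⟩
    | insert x s hx ih =>
      intro hs
      obtain ⟨h1, h2⟩ := ih (fun y hy => hs y (Finset.mem_insert_of_mem hy))
      have hxV := hs x (Finset.mem_insert_self x s)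
      obtain ⟨h3, h4⟩ := repl_cyclic hab hAV hAb hmax hxV
      have hsV : closure (s : Set G) ≤ V := by
        rw [closure_le]
        intro y hy
        exact hs y (Finset.mem_insert_of_mem hy)
      have hxV' : zpowers x ≤ V := by rw [zpowers_le]; exact hxV
      have e1 : closure ((insert x s : Finset G) : Set G) = zpowers x ⊔ closure (s : Set G) := by
        rw [Finset.coe_insert, Set.insert_eq, Subgroup.closure_union, zpowers_eq_closure]
      have e2 := commutator_sup_left hab hAV hxV' hsV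
      have e3 : A ⊓ centralizer ((⁅zpowers x, A⁆ ⊔ ⁅closure (s : Set G), A⁆ : Subgroup G) : Set G) = 
          (A ⊓ centralizer ((⁅zpowers x, A⁆ : Subgroup G) : Set G)) ⊓ (A ⊓ centralizer ((⁅closure (s : Set G), A⁆ : Subgroup G) : Set G)) := by
        ext y
        constructor
        · rintro ⟨hy1, hy2⟩
          exact ⟨⟨hy1, centralizer_le (show ((⁅zpowers x, A⁆ : Subgroup G) : Set G) ⊆ _ from fun z hz => mem_sup_left (T := ⁅closure (s : Set G), A⁆) hz) hy2⟩, 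
            ⟨hy1, centralizer_le (show ((⁅closure (s : Set G), A⁆ : Subgroup G) : Set G) ⊆ _ from fun z hz => mem_sup_right (S := ⁅zpowers x, A⁆) hz) hy2⟩⟩
        · rintro ⟨hy1, hy2⟩
          refine ⟨hy1.1, ?_⟩
          change y ∈ centralizer ((⁅zpowers x, A⁆ ⊔ ⁅closure (s : Set G), A⁆ : Subgroup G) : Set G)
          have h5 : ⁅zpowers x, A⁆ ⊔ ⁅closure (s : Set G), A⁆ ≤ centralizer {y} := by
            apply sup_le
            · intro z hz
              rw [Subgroup.mem_centralizer_iff]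
              rintro _ rfl
              exact (Subgroup.mem_centralizer_iff.1 hy1.2 z hz).symm
            · intro z hz
              rw [Subgroup.mem_centralizer_iff]
              rintro _ rfl
              exact (Subgroup.mem_centralizer_iff.1 hy2.2 z hz).symm
          rw [Subgroup.mem_centralizer_iff]
          intro z hz
          exact (Subgroup.mem_centralizer_iff.1 (h5 hz) y rfl).symm
      have hXV : ⁅zpowers x, A⁆ ≤ V := by
        rw [Subgroup.commutator_le]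
        intro z hz a ha
        exact commutator_mem_V hAV (hxV' hz) ha
      obtain ⟨h5, h6⟩ := repl_lattice hab hAb hmax (B₁ := A ⊓ centralizer ((⁅zpowers x, A⁆ : Subgroup G) : Set G)) 
        (B₂ := A ⊓ centralizer ((⁅closure (s : Set G), A⁆ : Subgroup G) : Set G)) inf_le_left inf_le_left
        (inf_le_inf_left _ (centralizer_le hXV)) h3 h1
      rw [e1, e2, e3]
      refine ⟨h5, ?_⟩
      rw [h6, h4, h2]
      rw [sup_assoc, sup_assoc]
      congr 1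
      rw [← sup_assoc, sup_comm (V ⊓ centralizer (A : Set G)) ⁅closure (s : Set G), A⁆, sup_assoc, sup_idem]
  have h1 := hfin (Set.toFinite (U : Set G)).toFinset (by intro x hx; exact hU (by simpa using hx))
  rw [Set.Finite.coe_toFinset, closure_eq] at h1
  exact h1

end repl

end CfsgH1
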