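import Cfsg.Agent.H7.QdBad2
import Cfsg.Agent.H1.PSolv

set_option autoImplicit false

open Cfsg Subgroup Matrix
open scoped Pointwise commutatorElement

namespace CfsgH1

open CfsgH7

variable {p : ℕ} [hp : Fact p.Prime]

theorem uE_pow_p (a : ZMod p) : uE a ^ p = 1 := by
  rw [uE_pow]; simp [uE_zero]

theorem lE_pow_p (a : ZMod p) : lE a ^ p = 1 := by
  rw [lE_pow]
  have : p • a = 0 := by simp
  rw [this]
  apply Subtype.ext
  change (!![1, 0; 0, 1] : Matrix (Fin 2) (Fin 2) (ZMod p)) = 1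
  rw [Matrix.one_fin_two]

def dE (t : ZMod p) (ht : t ≠ 0) : SpecialLinearGroup (Fin 2) (ZMod p) := ⟨!![t, 0; 0, t⁻¹], by rw [Matrix.det_fin_two_of, mul_inv_cancel₀ ht, mul_zero, sub_zero]⟩

theorem dE_inv (t : ZMod p) (ht : t ≠ 0) : (dE t ht)⁻¹ = dE t⁻¹ (inv_ne_zero ht) := by
  rw [inv_eq_iff_mul_eq_one]
  apply Subtype.ext
  change (!![t, 0; 0, t⁻¹] : Matrix (Fin 2) (Fin 2) (ZMod p)) * !![t⁻¹, 0; 0, t⁻¹⁻¹] = 1
  rw [Matrix.mul_fin_two, Matrix.one_fin_two, mul_inv_cancel₀ ht, mul_inv_cancel₀ (inv_ne_zero ht)]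
  simp only [mul_zero, zero_mul, add_zero, zero_add]

theorem dE_conj_uE (t : ZMod p) (ht : t ≠ 0) (a : ZMod p) : dE t ht * uE a * (dE t ht)⁻¹ = uE (t * t * a) := by
  rw [dE_inv]
  apply Subtype.ext
  change (!![t, 0; 0, t⁻¹] : Matrix (Fin 2) (Fin 2) (ZMod p)) * !![1, a; 0, 1] * !![t⁻¹, 0; 0, t⁻¹⁻¹] = !![1, t * t * a; 0, 1]
  rw [Matrix.mul_fin_two, Matrix.mul_fin_two]
  simp only [mul_zero, zero_mul, add_zero, zero_add, mul_one, inv_inv, mul_inv_cancel₀ ht, inv_mul_cancel₀ ht]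
  congr 2
  ring_nf

theorem dE_conj_lE (t : ZMod p) (ht : t ≠ 0) (a : ZMod p) : (dE t ht)⁻¹ * lE a * dE t ht = lE (t * t * a) := by
  rw [dE_inv]
  apply Subtype.ext
  change (!![t⁻¹, 0; 0, t⁻¹⁻¹] : Matrix (Fin 2) (Fin 2) (ZMod p)) * !![1, 0; a, 1] * !![t, 0; 0, t⁻¹] = !![1, 0; t * t * a, 1]
  rw [Matrix.mul_fin_two, Matrix.mul_fin_two]
  simp only [mul_zero, zero_mul, add_zero, zero_add, mul_one, inv_inv, mul_inv_cancel₀ ht, inv_mul_cancel₀ ht]
  have : t * a * t = t * t * a := by ring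
  rw [this]

theorem sl2_perfect (h5 : 5 ≤ p) : _root_.commutator (SpecialLinearGroup (Fin 2) (ZMod p)) = ⊤ := by
  have h2 : (2 : ZMod p) ≠ 0 := by
    intro h
    have : ((2 : ℕ) : ZMod p) = 0 := by exact_mod_cast h
    rw [ZMod.natCast_eq_zero_iff] at this
    have := Nat.le_of_dvd (by norm_num) this
    omega
  have h3 : (3 : ZMod p) ≠ 0 := by
    intro h
    have : ((3 : ℕ) : ZMod p) = 0 := by exact_mod_cast h
    rw [ZMod.natCast_eq_zero_iff] at this
    have := Nat.le_of_dvd (by norm_num) this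
    omega
  have hu : ∀ a : ZMod p, uE a ∈ _root_.commutator (SpecialLinearGroup (Fin 2) (ZMod p)) := by
    intro a
    have h4 : ⁅dE 2 h2, uE (3⁻¹ * a)⁆ ∈ _root_.commutator (SpecialLinearGroup (Fin 2) (ZMod p)) := 
      commutator_mem_commutator (mem_top _) (mem_top _)
    rw [commutatorElement_def, dE_conj_uE] at h4
    have h6 : (uE (3⁻¹ * a))⁻¹ = uE (-(3⁻¹ * a)) := by
      rw [inv_eq_iff_mul_eq_one, uE_mul]; simp [uE_zero]
    rw [h6, uE_mul] at h4
    have h7 : 2 * 2 * (3⁻¹ * a) + -(3⁻¹ * a) = a := by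
      have : 2 * 2 * (3⁻¹ * a) + -(3⁻¹ * a) = 3 * 3⁻¹ * a := by ring
      rw [this, mul_inv_cancel₀ h3, one_mul]
    rwa [h7] at h4
  have hl : ⁅(dE 2 h2)⁻¹, lE (1 : ZMod p)⁆ ∈ _root_.commutator (SpecialLinearGroup (Fin 2) (ZMod p)) := 
      commutator_mem_commutator (mem_top _) (mem_top _)
  have h4 := dE_conj_lE 2 h2 1
  rw [commutatorElement_def, inv_inv, h4] at hl
  have h6 : (lE (1 : ZMod p))⁻¹ = lE (-1) := by
    rw [inv_eq_iff_mul_eq_one, lE_mul]
    apply Subtype.ext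
    change (!![1, 0; 1 + -1, 1] : Matrix (Fin 2) (Fin 2) (ZMod p)) = 1
    rw [Matrix.one_fin_two]; simp
  rw [h6, lE_mul] at hl
  apply sl2_over hu hl
  change 2 * 2 * 1 + -1 ≠ (0 : ZMod p)
  have : (2 * 2 * 1 + -1 : ZMod p) = 3 := by ring
  rw [this]; exact h3

theorem sl2_not_psolvable (h5 : 5 ≤ p) : ¬ IsPSolvable p (SpecialLinearGroup (Fin 2) (ZMod p)) := by
  intro h
  haveI : Nontrivial (SpecialLinearGroup (Fin 2) (ZMod p)) := by
    refine ⟨uE 1, 1, ?_⟩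
    intro h1
    have h2 := congrArg (fun s : SpecialLinearGroup (Fin 2) (ZMod p) => s.1 0 1) h1
    change (1 : ZMod p) = (1 : Matrix (Fin 2) (Fin 2) (ZMod p)) 0 1 at h2
    simp at h2
  obtain ⟨N, hN, hNt, hg⟩ := IsPSolvable.exists_top h
  haveI := hN
  rcases hg with ⟨m, hm⟩ | hg
  · haveI : Nontrivial (SpecialLinearGroup (Fin 2) (ZMod p) ⧸ N) := by
      by_contra h1
      rw [not_nontrivial_iff_subsingleton] at h1
      apply hNt
      rw [eq_top_iff]
      intro x _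
      rw [← QuotientGroup.eq_one_iff]
      exact Subsingleton.elim _ _
    have h1 : IsPGroup p (SpecialLinearGroup (Fin 2) (ZMod p) ⧸ N) := IsPGroup.of_card hm
    haveI := h1.isNilpotent
    haveI : Group.IsSolvable (SpecialLinearGroup (Fin 2) (ZMod p) ⧸ N) := inferInstance
    have h2 := Group.IsSolvable.commutator_lt_top_of_nontrivial (SpecialLinearGroup (Fin 2) (ZMod p) ⧸ N)
    apply h2.ne
    have h3 := Subgroup.map_commutator (⊤ : Subgroup (SpecialLinearGroup (Fin 2) (ZMod p))) ⊤ (QuotientGroup.mk' N)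
    rw [Subgroup.map_top_of_surjective _ (QuotientGroup.mk'_surjective N)] at h3
    change _ = _root_.commutator _ at h3
    rw [← h3]
    change Subgroup.map _ (_root_.commutator _) = ⊤
    rw [sl2_perfect h5, Subgroup.map_top_of_surjective _ (QuotientGroup.mk'_surjective N)]
  · have key : ∀ x : SpecialLinearGroup (Fin 2) (ZMod p), x ^ p = 1 → x ∈ N := by
      intro x hx
      rw [← QuotientGroup.eq_one_iff, ← orderOf_eq_one_iff, ← Nat.dvd_one, ← hg]
      apply Nat.dvd_gcd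
      · exact orderOf_dvd_natCard _
      · apply orderOf_dvd_of_pow_eq_one
        rw [← QuotientGroup.mk_pow, hx, QuotientGroup.mk_one]
    apply hNt
    apply sl2_over (fun a => key _ (uE_pow_p a)) (key _ (lE_pow_p 1))
    change (1 : ZMod p) ≠ 0
    exact one_ne_zero

end CfsgH1
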