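import Cfsg.Agent.H1.SL2Sec
import Cfsg.Agent.H1.CopExtra
import Cfsg.Agent.H7.QdChief
import Mathlib.NumberTheory.SumTwoSquares
import Mathlib.FieldTheory.Finite.Basic

set_option autoImplicit false

open Cfsg Subgroup Matrix
open scoped Pointwise commutatorElement

namespace CfsgH1

open CfsgH7

variable {p : ℕ} [hp : Fact p.Prime]

theorem sl2_nonab2 (hp2 : p ≠ 2) : ∃ T : Subgroup (SpecialLinearGroup (Fin 2) (ZMod p)), IsPGroup 2 T ∧ ∃ x ∈ T, ∃ y ∈ T, x * y ≠ y * x := by
  obtain ⟨a, b, hab⟩ := ZMod.sq_add_sq p (-1)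
  let x : SpecialLinearGroup (Fin 2) (ZMod p) := ⟨!![0, 1; -1, 0], by rw [Matrix.det_fin_two_of]; ring⟩
  let y : SpecialLinearGroup (Fin 2) (ZMod p) := ⟨!![a, b; b, -a], by rw [Matrix.det_fin_two_of]; linear_combination -hab⟩
  let z : SpecialLinearGroup (Fin 2) (ZMod p) := ⟨!![-1, 0; 0, -1], by rw [Matrix.det_fin_two_of]; ring⟩
  have hx2 : x * x = z := by
    apply Subtype.ext
    change (!![0, 1; -1, 0] : Matrix (Fin 2) (Fin 2) (ZMod p)) * !![0, 1; -1, 0] = !![-1, 0; 0, -1]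
    rw [Matrix.mul_fin_two]; simp
  have hy2 : y * y = z := by
    apply Subtype.ext
    change (!![a, b; b, -a] : Matrix (Fin 2) (Fin 2) (ZMod p)) * !![a, b; b, -a] = !![-1, 0; 0, -1]
    rw [Matrix.mul_fin_two]
    have e1 : a * a + b * b = -1 := by linear_combination hab
    have e2 : a * b + b * -a = 0 := by ring
    have e3 : b * a + -a * b = 0 := by ring
    have e4 : b * b + -a * -a = -1 := by linear_combination hab
    rw [e1, e2, e3, e4]
  have hz2 : z * z = 1 := by
    apply Subtype.ext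
    change (!![-1, 0; 0, -1] : Matrix (Fin 2) (Fin 2) (ZMod p)) * !![-1, 0; 0, -1] = 1
    rw [Matrix.mul_fin_two, Matrix.one_fin_two]; simp
  have hx4 : x ^ 4 = 1 := by
    have : x ^ 4 = (x * x) * (x * x) := by rw [pow_succ, pow_succ, pow_succ, pow_one]; simp only [mul_assoc]
    rw [this, hx2, hz2]
  have hy4 : y ^ 4 = 1 := by
    have : y ^ 4 = (y * y) * (y * y) := by rw [pow_succ, pow_succ, pow_succ, pow_one]; simp only [mul_assoc]
    rw [this, hy2, hz2]
  have hyx : y * x = x⁻¹ * y := by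
    rw [eq_inv_mul_iff_mul_eq]
    apply Subtype.ext
    change (!![0, 1; -1, 0] : Matrix (Fin 2) (Fin 2) (ZMod p)) * (!![a, b; b, -a] * !![0, 1; -1, 0]) = !![a, b; b, -a]
    rw [Matrix.mul_fin_two, Matrix.mul_fin_two]; simp
  have hpg : ∀ w : SpecialLinearGroup (Fin 2) (ZMod p), w ^ 4 = 1 → IsPGroup 2 (zpowers w) := by
    intro w hw
    rintro ⟨v, k, rfl⟩
    refine ⟨2, Subtype.ext ?_⟩
    change (w ^ k) ^ (2 ^ 2) = 1
    rw [← zpow_natCast, ← _root_.zpow_mul, mul_comm, _root_.zpow_mul]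
    have : w ^ ((2 ^ 2 : ℕ) : ℤ) = 1 := by
      rw [zpow_natCast]; exact hw
    rw [this, _root_.one_zpow]
  refine ⟨zpowers x ⊔ zpowers y, isPGroup_sup (hpg x hx4) (hpg y hy4) ?_, x, mem_sup_left (mem_zpowers x), y, mem_sup_right (mem_zpowers y), ?_⟩
  · rw [zpowers_le, ← conj_smul_eq_self_iff]
    have h1 : MulAut.conj y • zpowers x ≤ zpowers x := by
      intro w hw
      rw [mem_conj_smul] at hw
      obtain ⟨k, hk⟩ := hw
      have h2 : w = (y * x * y⁻¹) ^ k := by
        rw [conj_zpow]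
        have hk' : x ^ k = y⁻¹ * w * y := hk
        rw [hk']; group
      rw [h2, hyx, mul_inv_cancel_right]
      exact (zpowers x).zpow_mem ((zpowers x).inv_mem (mem_zpowers x)) k
    apply eq_of_le_of_card_le h1
    rw [card_conj_smul]
  · intro h
    have h1 := congrArg (fun s : SpecialLinearGroup (Fin 2) (ZMod p) => s.1) h
    change (!![0, 1; -1, 0] : Matrix (Fin 2) (Fin 2) (ZMod p)) * !![a, b; b, -a] = !![a, b; b, -a] * !![0, 1; -1, 0] at h1
    rw [Matrix.mul_fin_two, Matrix.mul_fin_two] at h1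
    have h2 := congrFun (congrFun h1 0) 0
    have h3 := congrFun (congrFun h1 0) 1
    simp at h2 h3
    have h20 : (2 : ZMod p) ≠ 0 := by
      intro h
      have : ((2 : ℕ) : ZMod p) = 0 := by exact_mod_cast h
      rw [ZMod.natCast_eq_zero_iff] at this
      exact hp2 ((Nat.prime_dvd_prime_iff_eq hp.out Nat.prime_two).1 this)
    have hb : b = 0 := by
      have : 2 * b = 0 := by linear_combination h2
      exact (mul_eq_zero.1 this).resolve_left h20
    have ha : a = 0 := by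
      have : 2 * a = 0 := by linear_combination -h3
      exact (mul_eq_zero.1 this).resolve_left h20
    rw [ha, hb] at hab
    simp at hab


theorem nonab_of_surj (hp2 : p ≠ 2) {H : Type*} [Group H] [Finite H] (K : Subgroup H) (f : K →* SpecialLinearGroup (Fin 2) (ZMod p)) 
    (hf : Function.Surjective f) (T : Sylow 2 H) : ¬ IsMulCommutative T := by
  intro hT
  obtain ⟨T₀, hT₀, x, hx, y, hy, hxy⟩ := sl2_nonab2 (p := p) hp2
  apply hxy
  haveI : Fact (Nat.Prime 2) := ⟨Nat.prime_two⟩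
  obtain ⟨S, hS⟩ := exists_isSylowOf 2 (T₀.comap f)
  have h1 := isSylowOf_map f hS
  rw [Subgroup.map_comap_eq_self_of_surjective hf] at h1
  -- S.map f = T₀
  have h2 : S.map f = T₀ := by
    apply le_antisymm (isSylowOf_le h1)
    obtain ⟨P, hP⟩ := h1
    have h3 : (⊤ : Subgroup T₀) = P := P.3 (hT₀.to_subgroup (⊤ : Subgroup T₀)) le_top
    rw [← hP, ← h3]
    intro w hw
    exact ⟨⟨w, hw⟩, mem_top _, rfl⟩
  rw [← h2] at hx hy
  obtain ⟨u, hu, rfl⟩ := hx
  obtain ⟨v, hv, rfl⟩ := hy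
  rw [← map_mul, ← map_mul]
  congr 1
  -- S.map K.subtype is a 2-subgroup of H
  have hS2 : IsPGroup 2 (S.map K.subtype) := (isSylowOf_isPGroup hS).map _
  obtain ⟨R, hR⟩ := hS2.exists_le_sylow
  obtain ⟨g, hg⟩ := MulAction.exists_smul_eq H R T
  have hcomm : ∀ a ∈ (R : Subgroup H), ∀ b ∈ (R : Subgroup H), a * b = b * a := by
    intro a ha b hb
    have key : ∀ c ∈ (R : Subgroup H), g * c * g⁻¹ ∈ (T : Subgroup H) := by
      intro c hc
      rw [← hg]
      change g * c * g⁻¹ ∈ MulAut.conj g • (R : Subgroup H)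
      rw [mem_conj_smul]
      have : g⁻¹ * (g * c * g⁻¹) * g = c := by group
      rwa [this]
    have h4 := congrArg Subtype.val (hT.is_comm.comm ⟨_, key a ha⟩ ⟨_, key b hb⟩)
    change g * a * g⁻¹ * (g * b * g⁻¹) = g * b * g⁻¹ * (g * a * g⁻¹) at h4
    calc a * b = g⁻¹ * (g * a * g⁻¹ * (g * b * g⁻¹)) * g := by group
      _ = g⁻¹ * (g * b * g⁻¹ * (g * a * g⁻¹)) * g := by rw [h4]
      _ = b * a := by group
  apply Subtype.ext
  exact hcomm _ (hR ⟨u, hu, rfl⟩) _ (hR ⟨v, hv, rfl⟩)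

/-- main input: quadratic elements outside `O_p` give `SL₂(p)` sections -/
theorem quad_sl2 {G : Type*} [Group G] [Finite G] (hp2 : p ≠ 2) {V H : Subgroup G} (hV : IsElementaryAbelian p V) (hHV : H ≤ normalizer (V : Set G)) 
    (hf : H ⊓ centralizer (V : Set G) = ⊥) {a : G} (haH : a ∈ H) (hq : ⁅⁅V, zpowers a⁆, zpowers a⁆ = ⊥) (hna : a ∉ (pCore p H).map H.subtype) : 
    ∃ K : Subgroup G, K ≤ H ∧ ∃ f : ↥K →* SpecialLinearGroup (Fin 2) (ZMod p), Function.Surjective f := by
  refine (quad_main hp2 (isPGroup_of_forall_pow_eq_one hV.2) hHV haH hq ?_).2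
  intro M hM hCM hMc hmem
  apply hna
  refine ⟨⟨a, haH⟩, ?_, rfl⟩
  apply le_sSup (α := Subgroup H) (a := M) _ hmem
  refine ⟨hM, ?_⟩
  -- M is a p-group: all p'-elements trivial
  have key : ∀ q : ℕ, q.Prime → q ∣ Nat.card M → q = p := by
    intro q hq' hqM
    by_contra hne
    haveI : Fact q.Prime := ⟨hq'⟩
    obtain ⟨x, hx⟩ := exists_prime_orderOf_dvd_card' q hqM
    have h1 : orderOf ((x : H)) = q := by rw [← hx]; exact Subgroup.orderOf_coe x
    have h2 := hMc x x.2 (by rw [h1]; exact (Nat.coprime_primes hq' hp.out).2 hne)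
    have h3 : ((x : H) : G) ∈ H ⊓ centralizer (V : Set G) := ⟨(x : H).2, h2⟩
    rw [hf, Subgroup.mem_bot] at h3
    have h4 : (x : H) = 1 := Subtype.ext h3
    rw [h4, orderOf_one] at h1
    exact hq'.ne_one h1.symm
  have h5 := Nat.eq_prime_pow_of_unique_prime_dvd (n := Nat.card M) (p := p) Nat.card_pos.ne' (fun {d} hd hdM => key d hd hdM)
  exact IsPGroup.of_card h5

theorem three_of_psolvable {G : Type*} [Group G] [Finite G] (hp2 : p ≠ 2) {H : Subgroup G} (hs : IsPSolvable p H) {K : Subgroup G} (hKH : K ≤ H) 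
    (f : ↥K →* SpecialLinearGroup (Fin 2) (ZMod p)) (hf : Function.Surjective f) : 
    p = 3 ∧ ∃ (K L : Subgroup G) (_ : (L.subgroupOf K).Normal), K ≤ H ∧ Nonempty ((K ⧸ L.subgroupOf K) ≃* SpecialLinearGroup (Fin 2) (ZMod 3)) := by
  have h3 : p = 3 := by
    by_contra hne
    apply sl2_not_psolvable (p := p)
    · have h2 := hp.out.two_le
      have h4 : p ≠ 4 := by rintro rfl; exact absurd hp.out (by norm_num)
      omega
    · exact IsPSolvable.map (IsPSolvable.of_le hs hKH) f hf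
  refine ⟨h3, K, f.ker.map K.subtype, ?_, hKH, ?_⟩
  · rw [Subgroup.subgroupOf, Subgroup.comap_map_eq_self_of_injective K.subtype_injective]
    infer_instance
  · subst h3
    have e : (f.ker.map K.subtype).subgroupOf K = f.ker := by
      rw [Subgroup.subgroupOf, Subgroup.comap_map_eq_self_of_injective K.subtype_injective]
    haveI : ((f.ker.map K.subtype).subgroupOf K).Normal := by rw [e]; infer_instance
    exact ⟨(QuotientGroup.quotientMulEquivOfEq e).trans (QuotientGroup.quotientKerEquivOfSurjective f hf)⟩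

end CfsgH1
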