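import Cfsg.Agent.H1.Three

set_option autoImplicit false

open scoped Pointwise commutatorElement

namespace CfsgH1

universe u v w
variable {G : Type u} [Group G] {G' : Type v} [Group G']

open Subgroup Cfsg

/-- two permuting subgroups -/
theorem coe_sup_of_permute {A B : Subgroup G} (h : (A : Set G) * (B : Set G) = (B : Set G) * (A : Set G)) : 
    ((A ⊔ B : Subgroup G) : Set G) = (A : Set G) * (B : Set G) := by
  let P : Subgroup G := 
    { carrier := (A : Set G) * (B : Set G)
      one_mem' := ⟨1, A.one_mem, 1, B.one_mem, one_mul 1⟩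
      mul_mem' := by
        rintro _ _ ⟨a, ha, b, hb, rfl⟩ ⟨c, hc, d, hd, rfl⟩
        have h1 : b * c ∈ (B : Set G) * (A : Set G) := Set.mul_mem_mul hb hc
        rw [← h] at h1
        obtain ⟨e, he, f, hf, hef⟩ := Set.mem_mul.1 h1
        refine ⟨a * e, A.mul_mem ha he, f * d, B.mul_mem hf hd, ?_⟩
        calc a * e * (f * d) = a * (e * f) * d := by group
          _ = a * (b * c) * d := by rw [hef]
          _ = a * b * (c * d) := by group
      inv_mem' := by
        rintro _ ⟨a, ha, b, hb, rfl⟩
        have : (a * b)⁻¹ ∈ (B : Set G) * (A : Set G) := by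
          rw [mul_inv_rev]; exact Set.mul_mem_mul (B.inv_mem hb) (A.inv_mem ha)
        rw [← h] at this
        exact this }
  apply Set.Subset.antisymm
  · have : A ⊔ B ≤ P := sup_le (fun a ha => ⟨a, ha, 1, B.one_mem, mul_one a⟩) (fun b hb => ⟨1, A.one_mem, b, hb, one_mul b⟩)
    exact this
  · rintro _ ⟨a, ha, b, hb, rfl⟩
    exact (A ⊔ B).mul_mem (mem_sup_left ha) (mem_sup_right hb)

theorem permute_sup {S A B : Subgroup G} (hAB : (A : Set G) * (B : Set G) = (B : Set G) * (A : Set G)) 
    (hA : (S : Set G) * (A : Set G) = (A : Set G) * (S : Set G)) (hB : (S : Set G) * (B : Set G) = (B : Set G) * (S : Set G)) : 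
    (S : Set G) * ((A ⊔ B : Subgroup G) : Set G) = ((A ⊔ B : Subgroup G) : Set G) * (S : Set G) := by
  rw [coe_sup_of_permute hAB, ← mul_assoc, hA, mul_assoc, hB, mul_assoc]

/-- product of finitely many pairwise permuting subgroups of coprime orders -/
theorem card_iSup_permute [Finite G] (S : ℕ → Subgroup G) (T : Finset ℕ) 
    (hperm : ∀ p ∈ T, ∀ q ∈ T, (S p : Set G) * (S q : Set G) = (S q : Set G) * (S p : Set G)) 
    (hcop : ∀ p ∈ T, ∀ q ∈ T, p ≠ q → (Nat.card (S p)).Coprime (Nat.card (S q))) : 
    Nat.card (⨆ q ∈ T, S q : Subgroup G) = ∏ q ∈ T, Nat.card (S q) ∧ 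
    ∀ R : Subgroup G, (∀ q ∈ T, (R : Set G) * (S q : Set G) = (S q : Set G) * (R : Set G)) → 
      (R : Set G) * ((⨆ q ∈ T, S q : Subgroup G) : Set G) = ((⨆ q ∈ T, S q : Subgroup G) : Set G) * (R : Set G) := by
  induction T using Finset.induction_on with
  | empty =>
    have : (⨆ q ∈ (∅ : Finset ℕ), S q : Subgroup G) = ⊥ := by simp
    rw [this]
    refine ⟨by rw [Subgroup.card_bot]; simp, fun R _ => ?_⟩
    simp
  | insert q T hq ih =>
    obtain ⟨ih1, ih2⟩ := ih (fun p hp q hq => hperm p (Finset.mem_insert_of_mem hp) q (Finset.mem_insert_of_mem hq))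
      (fun p hp q hq => hcop p (Finset.mem_insert_of_mem hp) q (Finset.mem_insert_of_mem hq))
    have e : (⨆ r ∈ insert q T, S r : Subgroup G) = S q ⊔ ⨆ r ∈ T, S r := Finset.iSup_insert q T S
    rw [e]
    set H := (⨆ r ∈ T, S r : Subgroup G) with hH
    have hpH : (S q : Set G) * (H : Set G) = (H : Set G) * (S q : Set G) := 
      ih2 (S q) (fun r hr => hperm q (Finset.mem_insert_self q T) r (Finset.mem_insert_of_mem hr))
    constructor
    · rw [Finset.prod_insert hq, ← ih1]
      have h1 := card_setMul_mul_card_inf (S q) H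
      rw [← coe_sup_of_permute hpH] at h1
      have h2 : S q ⊓ H = ⊥ := by
        apply inf_eq_bot_of_coprime
        rw [ih1]
        exact Nat.Coprime.prod_right fun r hr => hcop q (Finset.mem_insert_self q T) r (Finset.mem_insert_of_mem hr) 
          (fun h => hq (h ▸ hr))
      rw [h2, Subgroup.card_bot, mul_one] at h1
      exact h1
    · intro R hR
      exact permute_sup hpH (hR q (Finset.mem_insert_self q T)) 
        (ih2 R (fun r hr => hR r (Finset.mem_insert_of_mem hr)))

/-- intersections of Hall complements -/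
theorem index_iInf_coprime [Finite G] (K : ℕ → Subgroup G) (T : Finset ℕ) 
    (hcop : ∀ p ∈ T, ∀ q ∈ T, p ≠ q → (K p).index.Coprime (K q).index) : 
    (⨅ q ∈ T, K q : Subgroup G).index = ∏ q ∈ T, (K q).index := by
  induction T using Finset.induction_on with
  | empty => simp
  | insert q T hq ih =>
    have ih1 := ih (fun p hp q hq => hcop p (Finset.mem_insert_of_mem hp) q (Finset.mem_insert_of_mem hq))
    rw [Finset.iInf_insert, Finset.prod_insert hq, ← ih1]
    apply index_inf_of_coprime
    rw [ih1]
    exact Nat.Coprime.prod_right fun r hr => hcop q (Finset.mem_insert_self q T) r (Finset.mem_insert_of_mem hr) 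
          (fun h => hq (h ▸ hr))

end CfsgH1
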