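import Cfsg.Agent.H1.Repl
import Cfsg.Agent.H3.ThompsonNPC

set_option autoImplicit false

/-! best offenders, Thompson subgroup. -/

open Cfsg Subgroup
open scoped Pointwise commutatorElement

namespace CfsgH1

universe u v
variable {G : Type u} [Group G]

theorem sylowOf_sup_of_pow [Finite G] {p : ℕ} [hp : Fact p.Prime] {P C A : Subgroup G} (hP : IsSylowOf p P A) (hCA : C ≤ A) 
    (hn : A ≤ normalizer (C : Set G)) (hpow : ∀ a ∈ A, ∃ k : ℕ, a ^ (p ^ k) ∈ C) : P ⊔ C = A := by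
  have hPA := isSylowOf_le hP
  obtain ⟨-, hPp, hPi⟩ := isSylowOf_iff.1 hP
  apply le_antisymm (sup_le hPA hCA)
  have h1 : (P ⊔ C).relIndex A ∣ P.relIndex A := Subgroup.relIndex_dvd_of_le_left A le_sup_left
  have h2 : (P ⊔ C).relIndex A ∣ C.relIndex A := Subgroup.relIndex_dvd_of_le_left A le_sup_right
  haveI : (C.subgroupOf A).Normal := (Subgroup.normal_subgroupOf_iff_le_normalizer hCA).2 hn
  have h3 : IsPGroup p (A ⧸ C.subgroupOf A) := by
    rintro ⟨a⟩
    obtain ⟨k, hk⟩ := hpow a a.2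
    refine ⟨k, ?_⟩
    change (QuotientGroup.mk a : A ⧸ C.subgroupOf A) ^ (p ^ k) = 1
    rw [← QuotientGroup.mk_pow, QuotientGroup.eq_one_iff]
    exact hk
  obtain ⟨n, hn'⟩ := h3.exists_card_eq
  have h4 : C.relIndex A = p ^ n := hn'
  have h5 : (P ⊔ C).relIndex A = 1 := by
    rw [h4] at h2
    obtain ⟨m, -, hm⟩ := (Nat.dvd_prime_pow hp.out).1 h2
    rcases Nat.eq_zero_or_pos m with h0 | h0
    · rw [hm, h0, pow_zero]
    · exfalso
      apply hPi
      refine dvd_trans ?_ h1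
      rw [hm]; exact dvd_pow_self p (by omega)
  exact Subgroup.relIndex_eq_one.1 h5

/-- if `A / C_A(V)` is a p-group then `[W, A] < W` for nontrivial A-invariant p-subgroups `W ≤ V` -/
theorem commutator_lt_of_pow [Finite G] {p : ℕ} [hp : Fact p.Prime] {V W A : Subgroup G} (hW : IsPGroup p W) (hWV : W ≤ V) (hAV : A ≤ normalizer (V : Set G))
    (hAW : A ≤ normalizer (W : Set G)) (hpow : ∀ a ∈ A, ∃ k : ℕ, a ^ (p ^ k) ∈ centralizer (V : Set G)) (hne : W ≠ ⊥) : ⁅W, A⁆ < W := by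
  obtain ⟨P, hP⟩ := exists_isSylowOf p A
  have hPA := isSylowOf_le hP
  have hPp := isSylowOf_isPGroup hP
  have h1 := commutator_lt_of_pgroup hW hPp (hPA.trans hAW) hne
  refine lt_of_le_of_lt ?_ h1
  have hn : A ≤ normalizer ((A ⊓ centralizer (V : Set G) : Subgroup G) : Set G) := by
    rw [le_normalizer_iff_conj]
    intro a ha x hx
    refine ⟨A.mul_mem (A.mul_mem ha hx.1) (A.inv_mem ha), ?_⟩
    change a * x * a⁻¹ ∈ centralizer (V : Set G)
    rw [Subgroup.mem_centralizer_iff]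
    intro v hv
    have h2 : a⁻¹ * v * a ∈ V := by
      have := le_normalizer_iff_conj.1 hAV a⁻¹ (A.inv_mem ha) v hv
      rwa [inv_inv] at this
    have h3 := Subgroup.mem_centralizer_iff.1 hx.2 _ h2
    calc v * (a * x * a⁻¹) = a * ((a⁻¹ * v * a) * x) * a⁻¹ := by group
      _ = a * (x * (a⁻¹ * v * a)) * a⁻¹ := by rw [h3]
      _ = _ := by group
  have h2 := sylowOf_sup_of_pow hP (C := A ⊓ centralizer (V : Set G)) inf_le_left hn (fun a ha => by
    obtain ⟨k, hk⟩ := hpow a ha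
    exact ⟨k, A.pow_mem ha _, hk⟩)
  rw [Subgroup.commutator_le]
  intro w hw a ha
  rw [← h2, sup_comm] at ha
  obtain ⟨c, hc, x, hx, rfl⟩ := (mem_sup_of_le_normalizer' (hPA.trans hn)).1 ha
  have h4 : x * w⁻¹ * x⁻¹ ∈ V := hWV (le_normalizer_iff_conj.1 hAW x (hPA hx) _ (W.inv_mem hw))
  have h3 := Subgroup.mem_centralizer_iff.1 hc.2 _ h4
  have e1 : ⁅w, c * x⁆ = ⁅w, x⁆ := by
    have h5 := Subgroup.mem_centralizer_iff.1 hc.2 _ (hWV hw)
    calc ⁅w, c * x⁆ = w * (c * (x * w⁻¹ * x⁻¹)) * c⁻¹ := by rw [commutatorElement_def]; group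
      _ = w * ((x * w⁻¹ * x⁻¹) * c) * c⁻¹ := by rw [h3]
      _ = ⁅w, x⁆ := by rw [commutatorElement_def]; group
  rw [e1]
  exact commutator_mem_commutator hw hx

theorem isPGroup_of_elemAb {p : ℕ} [hp : Fact p.Prime] {V : Subgroup G} (hV : IsElementaryAbelian p V) : IsPGroup p V := by
  intro x
  refine ⟨1, Subtype.ext ?_⟩
  simpa using hV.2 x x.2

theorem comm_of_elemAb {p : ℕ} {V : Subgroup G} (hV : IsElementaryAbelian p V) : ∀ x ∈ V, ∀ y ∈ V, x * y = y * x := 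
  CfsgH3.isMulCommutative_iff'.1 hV.1

theorem timmesfeld_step [Finite G] {p : ℕ} [Fact p.Prime] (V A : Subgroup G) (hV : Cfsg.IsElementaryAbelian p V) (hAV : A ≤ Subgroup.normalizer (V : Set G)) (hA : Cfsg.IsBestOffenderOn p V A) (U : Subgroup G) (hU : U ≤ V) : Cfsg.IsBestOffenderOn p V (A ⊓ Subgroup.centralizer ((⁅U, A⁆ : Subgroup G) : Set G)) ∧ V ⊓ Subgroup.centralizer ((A ⊓ Subgroup.centralizer ((⁅U, A⁆ : Subgroup G) : Set G) : Subgroup G) : Set G) = ⁅U, A⁆ ⊔ (V ⊓ Subgroup.centralizer (A : Set G)) ∧ (⁅V, A⁆ ≠ ⊥ → ⁅V, A ⊓ Subgroup.centralizer ((⁅U, A⁆ : Subgroup G) : Set G)⁆ ≠ ⊥) := by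
  obtain ⟨hmax, hAb, hAp⟩ := hA
  have hab := comm_of_elemAb hV
  obtain ⟨h1, h2⟩ := repl_main hab hAV hAb hmax hU
  refine ⟨⟨?_, ?_, ?_⟩, h2, ?_⟩
  · intro B hB
    have := hmax B (hB.trans inf_le_left)
    exact this.trans h1.ge
  · exact (commutator_mono inf_le_left inf_le_left).trans hAb
  · intro a ha
    exact hAp a ha.1
  · intro hne hB
    apply hne
    set B := A ⊓ Subgroup.centralizer ((⁅U, A⁆ : Subgroup G) : Set G) with hBdef
    have h3 : V ≤ V ⊓ centralizer (B : Set G) := by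
      refine le_inf le_rfl ?_
      rwa [← Subgroup.commutator_eq_bot_iff_le_centralizer]
    have hUV : ⁅U, A⁆ ≤ V := by
      rw [Subgroup.commutator_le]
      intro u hu a ha
      exact commutator_mem_V hAV (hU hu) ha
    have h4 : V = ⁅U, A⁆ ⊔ (V ⊓ centralizer (A : Set G)) := by
      rw [← h2]; exact le_antisymm h3 inf_le_left
    have h5 : ⁅V, A⁆ ≤ ⁅⁅V, A⁆, A⁆ := by
      conv_lhs => rw [h4]
      rw [commutator_sup_left hab hAV hUV inf_le_left]
      apply sup_le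
      · exact commutator_mono (commutator_mono hU le_rfl) le_rfl
      · have : ⁅V ⊓ centralizer (A : Set G), A⁆ = ⊥ := by
          rw [Subgroup.commutator_eq_bot_iff_le_centralizer]; exact inf_le_right
        rw [this]; exact bot_le
    by_contra hne'
    have hVA : ⁅V, A⁆ ≤ V := by
      rw [Subgroup.commutator_le]
      intro u hu a ha
      exact commutator_mem_V hAV hu ha
    have hVp : IsPGroup p V := isPGroup_of_elemAb hV
    have hAVA : A ≤ normalizer ((⁅V, A⁆ : Subgroup G) : Set G) := by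
      rw [Subgroup.le_normalizer_iff_commutator_le_left]
      exact commutator_mono hVA le_rfl
    have h6 := commutator_lt_of_pow (W := ⁅V, A⁆) (V := V) (A := A) (hVp.to_le hVA) hVA hAV hAVA (fun a ha => ⟨1, by rw [pow_one]; exact hAp a ha⟩) hne'
    exact absurd h5 (not_le_of_gt h6)

end CfsgH1
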