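import Cfsg.Agent.H1.Thomp

set_option autoImplicit false

/-! The subgroup generated by the `Ω₁(Z(S))`. -/

open Cfsg Subgroup
open scoped Pointwise commutatorElement

namespace CfsgH1

universe u v
variable {G : Type u} [Group G]

theorem core_cent [Finite G] {p : ℕ} [Fact p.Prime] {V D : Subgroup G} [V.Normal] [hD : D.Normal] 
    (hgen : V ≤ ⨆ S : Sylow p G, V ⊓ centralizer ((S : Subgroup G) : Set G)) (hCD : centralizer (V : Set G) ≤ D)
    (hpow : ∀ a ∈ D, ∃ k : ℕ, a ^ (p ^ k) ∈ centralizer (V : Set G)) : D ≤ centralizer (V : Set G) := by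
  rw [Subgroup.le_centralizer_iff]
  refine hgen.trans (iSup_le fun S => ?_)
  rw [← Subgroup.le_centralizer_iff]
  have h1 : IsSylowOf p ((S : Subgroup G) ⊓ D) D := isSylowOf_inf_of_normal (sylow_isSylowOf S) le_top (by rw [Subgroup.normalizer_eq_top]) 
  have h2 := sylowOf_sup_of_pow h1 hCD (by rw [Subgroup.normalizer_eq_top]; exact le_top) hpow
  rw [← h2]
  apply sup_le
  · rw [Subgroup.le_centralizer_iff]
    exact inf_le_right.trans (centralizer_le inf_le_left)
  · exact centralizer_le inf_le_left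

/-- `Ω₁(Z(S))` -/
noncomputable def OZ (p : ℕ) (S : Subgroup G) : Subgroup G := omegaOne p (S ⊓ centralizer (S : Set G))

theorem ZS_comm (S : Subgroup G) : ∀ x ∈ S ⊓ centralizer (S : Set G), ∀ y ∈ S ⊓ centralizer (S : Set G), x * y = y * x := 
  fun x hx y hy => (Subgroup.mem_centralizer_iff.1 hy.2 x hx.1)

theorem mem_OZ {p : ℕ} {S : Subgroup G} {x : G} : x ∈ OZ p S ↔ (x ∈ S ∧ x ∈ centralizer (S : Set G)) ∧ x ^ p = 1 := 
  mem_omegaOne (ZS_comm S)

theorem OZ_elemAb (p : ℕ) (S : Subgroup G) : IsElementaryAbelian p (OZ p S) := omegaOne_elemAb (ZS_comm S)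

theorem OZ_le (p : ℕ) (S : Subgroup G) : OZ p S ≤ S := (omegaOne_le p _).trans inf_le_left

theorem OZ_le_cent (p : ℕ) (S : Subgroup G) : OZ p S ≤ centralizer (S : Set G) := (omegaOne_le p _).trans inf_le_right

theorem cent_map {G' : Type v} [Group G'] {f : G →* G'} {S : Subgroup G} {x : G} (hx : x ∈ centralizer (S : Set G)) : f x ∈ centralizer ((S.map f : Subgroup G') : Set G') := by
  rw [Subgroup.mem_centralizer_iff]
  rintro _ ⟨s, hs, rfl⟩
  rw [← map_mul, ← map_mul, Subgroup.mem_centralizer_iff.1 hx s hs]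

theorem OZ_map {G' : Type v} [Group G'] (p : ℕ) (S : Subgroup G) (f : G →* G') (hf : Set.InjOn f (S : Set G)) : OZ p (S.map f) = (OZ p S).map f := by
  ext y
  constructor
  · intro hy
    obtain ⟨⟨⟨x, hx, rfl⟩, hy2⟩, hy3⟩ := mem_OZ.1 hy
    refine ⟨x, mem_OZ.2 ⟨⟨hx, ?_⟩, ?_⟩, rfl⟩
    · rw [Subgroup.mem_centralizer_iff]
      intro s hs
      apply hf (S.mul_mem hs hx) (S.mul_mem hx hs)
      rw [map_mul, map_mul]
      exact Subgroup.mem_centralizer_iff.1 hy2 (f s) ⟨s, hs, rfl⟩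
    · apply hf (S.pow_mem hx p) S.one_mem
      rw [map_pow, hy3, map_one]
  · rintro ⟨x, hx, rfl⟩
    obtain ⟨⟨h1, h2⟩, h3⟩ := mem_OZ.1 hx
    exact mem_OZ.2 ⟨⟨⟨x, h1, rfl⟩, cent_map h2⟩, by rw [← map_pow, h3, map_one]⟩

theorem OZ_smul (p : ℕ) (S : Subgroup G) (g : G) : OZ p (MulAut.conj g • S) = MulAut.conj g • OZ p S := 
  OZ_map p S (MulAut.conj g).toMonoidHom (MulEquiv.injective _).injOn

/-- `⟨Ω₁(Z(S)) : S Sylow⟩` -/
noncomputable def VV (p : ℕ) (G : Type u) [Group G] : Subgroup G := ⨆ S : Sylow p G, OZ p (S : Subgroup G)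

theorem OZ_le_VV {p : ℕ} (S : Sylow p G) : OZ p (S : Subgroup G) ≤ VV p G := le_iSup (fun S : Sylow p G => OZ p (S : Subgroup G)) S

theorem VV_normal (p : ℕ) : (VV p G).Normal := by
  rw [← Subgroup.normalizer_eq_top_iff, eq_top_iff]
  rw [le_normalizer_iff_conj]
  intro g _ x hx
  have h1 : VV p G ≤ (VV p G).comap (MulAut.conj g).toMonoidHom := by
    apply iSup_le
    intro S y hy
    change g * y * g⁻¹ ∈ VV p G
    have h2 : g * y * g⁻¹ ∈ OZ p ((g • S : Sylow p G) : Subgroup G) := by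
      change g * y * g⁻¹ ∈ OZ p (MulAut.conj g • (S : Subgroup G))
      rw [OZ_smul]
      exact ⟨y, hy, rfl⟩
    exact OZ_le_VV _ h2
  exact h1 hx

theorem OZ_le_core [Finite G] {p : ℕ} [Fact p.Prime] (hc : centralizer (pCore p G : Set G) ≤ pCore p G) (S : Sylow p G) : 
    OZ p (S : Subgroup G) ≤ OZ p (pCore p G) := by
  intro x hx
  obtain ⟨⟨h1, h2⟩, h3⟩ := mem_OZ.1 hx
  have h4 : x ∈ centralizer (pCore p G : Set G) := centralizer_le (pCore_le_sylow S) h2
  exact mem_OZ.2 ⟨⟨hc h4, h4⟩, h3⟩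

theorem VV_le_core [Finite G] {p : ℕ} [Fact p.Prime] (hc : centralizer (pCore p G : Set G) ≤ pCore p G) : VV p G ≤ OZ p (pCore p G) := 
  iSup_le (OZ_le_core hc)

theorem elemAb_of_le {p : ℕ} {A B : Subgroup G} (hB : IsElementaryAbelian p B) (h : A ≤ B) : IsElementaryAbelian p A := 
  isElementaryAbelian_of (fun x hx y hy => comm_of_elemAb hB x (h hx) y (h hy)) (fun x hx => hB.2 x (h hx))

theorem VV_elemAb [Finite G] {p : ℕ} [Fact p.Prime] (hc : centralizer (pCore p G : Set G) ≤ pCore p G) : IsElementaryAbelian p (VV p G) := 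
  elemAb_of_le (OZ_elemAb p _) (VV_le_core hc)

theorem VV_gen (p : ℕ) : VV p G ≤ ⨆ S : Sylow p G, VV p G ⊓ centralizer ((S : Subgroup G) : Set G) := 
  iSup_le fun S => (le_inf (OZ_le_VV S) (OZ_le_cent p _)).trans (le_iSup (fun S : Sylow p G => VV p G ⊓ centralizer ((S : Subgroup G) : Set G)) S)

theorem pCore_quot_trivial [Finite G] {p : ℕ} [Fact p.Prime] (V : Subgroup G) [hV : V.Normal] 
    (hgen : V ≤ ⨆ S : Sylow p G, V ⊓ centralizer ((S : Subgroup G) : Set G)) : pCore p (G ⧸ centralizer (V : Set G)) = ⊥ := by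
  set D := (pCore p (G ⧸ centralizer (V : Set G))).comap (QuotientGroup.mk' (centralizer (V : Set G))) with hD
  haveI hDn : D.Normal := by rw [hD]; infer_instance
  have h1 : D ≤ centralizer (V : Set G) := by
    refine core_cent (D := D) (hD := hDn) hgen ?_ ?_
    · intro x hx
      rw [hD, Subgroup.mem_comap]
      have : QuotientGroup.mk' (centralizer (V : Set G)) x = 1 := (QuotientGroup.eq_one_iff x).2 hx
      rw [this]; exact one_mem _
    · intro a ha
      obtain ⟨k, hk⟩ := (CfsgH2.isPGroup_pCore (G := G ⧸ centralizer (V : Set G)) p) ⟨_, ha⟩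
      refine ⟨k, ?_⟩
      rw [← QuotientGroup.eq_one_iff]
      exact congrArg Subtype.val hk
  rw [eq_bot_iff]
  intro y hy
  obtain ⟨x, rfl⟩ := QuotientGroup.mk'_surjective _ y
  exact Subgroup.mem_bot.2 ((QuotientGroup.eq_one_iff x).2 (h1 hy))

end CfsgH1
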