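import Cfsg.Agent.H1.Thomp2
import Cfsg.Agent.H3.Thompson

set_option autoImplicit false

/-! The Thompson subgroup. -/

open Cfsg Subgroup CfsgH3
open scoped Pointwise commutatorElement

namespace CfsgH1

universe u v
variable {G : Type u} [Group G]

theorem maxElem_iff {p : ℕ} {A : Subgroup G} : A ∈ maxElementaryAbelianSubgroups p G ↔ MaxGood p ⊤ A := by
  unfold maxElementaryAbelianSubgroups
  rw [Set.mem_setOf_eq]
  constructor
  · rintro ⟨h1, h2⟩
    exact ⟨le_top, isElementaryAbelian_iff_good.1 h1, fun B _ hB => h2 B (isElementaryAbelian_iff_good.2 hB)⟩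
  · rintro ⟨-, h1, h2⟩
    exact ⟨isElementaryAbelian_iff_good.2 h1, fun B hB => h2 B le_top (isElementaryAbelian_iff_good.1 hB)⟩

theorem good_isPGroup {p : ℕ} [hp : Fact p.Prime] {A : Subgroup G} (h : Good p A) : IsPGroup p A := 
  isPGroup_of_elemAb (isElementaryAbelian_iff_good.2 h)

theorem JJ_eq_iSup [Finite G] {p : ℕ} [hp : Fact p.Prime] : JJ p (⊤ : Subgroup G) = ⨆ S : Sylow p G, JJ p (S : Subgroup G) := by
  apply le_antisymm
  · apply sSup_le
    intro A hA
    obtain ⟨S, hS⟩ := (good_isPGroup hA.2.1).exists_le_sylow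
    refine le_trans ?_ (le_iSup (fun S : Sylow p G => JJ p (S : Subgroup G)) S)
    apply MaxGood.le_JJ
    exact ⟨hS, hA.2.1, fun B _ hBg => hA.2.2 B le_top hBg⟩
  · apply iSup_le
    intro S
    apply sSup_le
    intro A hA
    apply MaxGood.le_JJ
    refine ⟨le_top, hA.2.1, fun B _ hBg => ?_⟩
    obtain ⟨T, hT⟩ := (good_isPGroup hBg).exists_le_sylow
    obtain ⟨g, hg⟩ := MulAction.exists_smul_eq G T S
    have h1 : (B.map (MulAut.conj g).toMonoidHom) ≤ (S : Subgroup G) := by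
      rw [← hg]
      exact Subgroup.map_mono hT
    have h2 := hA.2.2 _ h1 (hBg.map _)
    rwa [Subgroup.card_map_of_injective (MulEquiv.injective _)] at h2

theorem good_sup {p : ℕ} [hp : Fact p.Prime] {A B : Subgroup G} (hA : Good p A) (hB : Good p B) (h : ∀ a ∈ A, ∀ b ∈ B, a * b = b * a) : Good p (A ⊔ B) := by
  have hn : B ≤ normalizer (A : Set G) := by
    apply le_normalizer_of_le_centralizer
    intro x hx
    rw [Subgroup.mem_centralizer_iff]
    intro y hy
    exact h y hy x hx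
  constructor
  · intro x hx y hy
    obtain ⟨a, ha, b, hb, rfl⟩ := (mem_sup_of_le_normalizer' hn).1 hx
    obtain ⟨c, hc, d, hd, rfl⟩ := (mem_sup_of_le_normalizer' hn).1 hy
    have h1 : Commute a c := hA.1 a ha c hc
    have h2 : Commute a d := h a ha d hd
    have h3 : Commute b c := (h c hc b hb).symm
    have h4 : Commute b d := hB.1 b hb d hd
    exact ((h1.mul_right h2).mul_left (h3.mul_right h4)).eq
  · intro x hx
    obtain ⟨a, ha, b, hb, rfl⟩ := (mem_sup_of_le_normalizer' hn).1 hx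
    rw [(show Commute a b from h a ha b hb).mul_pow, hA.2 a ha, hB.2 b hb, one_mul]

theorem good_of_le {p : ℕ} {A B : Subgroup G} (hB : Good p B) (h : A ≤ B) : Good p A := 
  ⟨fun x hx y hy => hB.1 x (h hx) y (h hy), fun x hx => hB.2 x (h hx)⟩

theorem le_of_maxGood [Finite G] {p : ℕ} [hp : Fact p.Prime] {P A B : Subgroup G} (hA : MaxGood p P A) (hBP : B ≤ P) (hB : Good p B) 
    (h : ∀ a ∈ A, ∀ b ∈ B, a * b = b * a) : B ≤ A := by
  have h1 := hA.2.2 (A ⊔ B) (sup_le hA.1 hBP) (good_sup hA.2.1 hB h)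
  have h2 : A = A ⊔ B := eq_of_le_of_card_le le_sup_left h1
  rw [h2]; exact le_sup_right

theorem best_of_maxElem [Finite G] {p : ℕ} [Fact p.Prime] {V A : Subgroup G} (hVn : A ≤ normalizer (V : Set G)) (hV : Good p V) (hA : MaxGood p ⊤ A) : 
    IsBestOffenderOn p V A := by
  refine ⟨?_, ?_, ?_⟩
  · intro B hB
    have hBg := good_of_le hA.2.1 hB
    have hcomm : ∀ b ∈ B, ∀ v ∈ V ⊓ centralizer (B : Set G), b * v = v * b := fun b hb v hv => Subgroup.mem_centralizer_iff.1 hv.2 b hb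
    have h1 : Good p (V ⊓ centralizer (B : Set G)) := good_of_le hV inf_le_left
    have h2 := hA.2.2 _ le_top (good_sup hBg h1 hcomm)
    have hn : V ⊓ centralizer (B : Set G) ≤ normalizer (B : Set G) := by
      exact inf_le_right.trans (centralizer_le_normalizer _)
    have h3 := card_sup_mul_card_inf hn
    have h4 : (V ⊓ centralizer (B : Set G)) ⊓ B ≤ V ⊓ centralizer (A : Set G) := by
      intro x hx
      refine ⟨hx.1.1, ?_⟩
      change x ∈ centralizer (A : Set G)
      rw [Subgroup.mem_centralizer_iff]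
      intro a ha
      exact hA.2.1.1 a ha x (hB hx.2)
    have h5 : Nat.card ((V ⊓ centralizer (B : Set G)) ⊓ B : Subgroup G) ≤ Nat.card ↥(V ⊓ centralizer (A : Set G)) := 
      Nat.card_le_card_of_injective _ (Subgroup.inclusion_injective h4)
    calc Nat.card B * Nat.card ↥(V ⊓ centralizer (B : Set G)) = Nat.card ↥(V ⊓ centralizer (B : Set G)) * Nat.card B := mul_comm _ _
      _ = Nat.card ((V ⊓ centralizer (B : Set G)) ⊔ B : Subgroup G) * Nat.card ((V ⊓ centralizer (B : Set G)) ⊓ B : Subgroup G) := h3.symm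
      _ = Nat.card (B ⊔ (V ⊓ centralizer (B : Set G)) : Subgroup G) * Nat.card ((V ⊓ centralizer (B : Set G)) ⊓ B : Subgroup G) := by rw [sup_comm]
      _ ≤ _ := Nat.mul_le_mul h2 h5
  · have : ⁅A, A⁆ = ⊥ := by
      rw [Subgroup.commutator_eq_bot_iff_le_centralizer]
      intro x hx
      rw [Subgroup.mem_centralizer_iff]
      intro y hy
      exact hA.2.1.1 y hy x hx
    rw [this]; exact bot_le
  · intro a ha
    rw [hA.2.1.2 a ha]; exact one_mem _

theorem replacement_maxElem [Finite G] {p : ℕ} [Fact p.Prime] {V A : Subgroup G} [hVn : V.Normal] (hV : Good p V) (hA : MaxGood p ⊤ A) : 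
    MaxGood p ⊤ (⁅V, A⁆ ⊔ (A ⊓ centralizer ((⁅V, A⁆ : Subgroup G) : Set G))) ∧ 
    ⁅⁅V, ⁅V, A⁆ ⊔ (A ⊓ centralizer ((⁅V, A⁆ : Subgroup G) : Set G))⁆, ⁅V, A⁆ ⊔ (A ⊓ centralizer ((⁅V, A⁆ : Subgroup G) : Set G))⁆ = ⊥ ∧ 
    (⁅V, A⁆ ≠ ⊥ → ⁅V, ⁅V, A⁆ ⊔ (A ⊓ centralizer ((⁅V, A⁆ : Subgroup G) : Set G))⁆ ≠ ⊥) := by
  have hAV : A ≤ normalizer (V : Set G) := by rw [Subgroup.normalizer_eq_top]; exact le_top
  have hbest := best_of_maxElem hAV hV hA
  have hVe : IsElementaryAbelian p V := isElementaryAbelian_iff_good.2 hV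
  obtain ⟨h1, h2, h3⟩ := timmesfeld_step V A hVe hAV hbest V le_rfl
  obtain ⟨h4, -⟩ := repl_main hV.1 hAV hbest.2.1 hbest.1 (le_refl V)
  set X := ⁅V, A⁆ with hX
  set B := A ⊓ centralizer (X : Set G) with hB
  have hXV : X ≤ V := by rw [hX]; exact Subgroup.commutator_le_left V A
  have hCA : V ⊓ centralizer (A : Set G) ≤ A := by
    apply le_of_maxGood hA le_top (good_of_le hV inf_le_left)
    intro a ha b hb
    exact Subgroup.mem_centralizer_iff.1 hb.2 a ha
  have hCB : V ⊓ centralizer (A : Set G) ≤ B := by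
    refine le_inf hCA ?_
    intro x hx
    rw [Subgroup.mem_centralizer_iff]
    intro y hy
    exact hV.1 y (hXV hy) x hx.1
  have hXB : Good p (X ⊔ B) := by
    apply good_sup (good_of_le hV hXV) (good_of_le hA.2.1 inf_le_left)
    intro x hx b hb
    exact Subgroup.mem_centralizer_iff.1 hb.2 x hx
  -- order
  have hn : V ⊓ centralizer (B : Set G) ≤ normalizer (B : Set G) := inf_le_right.trans (centralizer_le_normalizer _)
  have h5 := card_sup_mul_card_inf hn
  have h6 : (V ⊓ centralizer (B : Set G)) ⊔ B = X ⊔ B := by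
    rw [h2, sup_assoc, sup_eq_right.2 hCB]
  have h7 : (V ⊓ centralizer (B : Set G)) ⊓ B = V ⊓ centralizer (A : Set G) := by
    apply le_antisymm
    · intro x hx
      refine ⟨hx.1.1, ?_⟩
      change x ∈ centralizer (A : Set G)
      rw [Subgroup.mem_centralizer_iff]
      intro a ha
      exact hA.2.1.1 a ha x hx.2.1
    · refine le_inf ?_ hCB
      exact inf_le_inf_left _ (centralizer_le inf_le_left)
  rw [h6, h7] at h5
  have h8 : Nat.card (X ⊔ B : Subgroup G) = Nat.card A := by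
    have h9 : Nat.card (X ⊔ B : Subgroup G) * Nat.card ↥(V ⊓ centralizer (A : Set G)) = Nat.card A * Nat.card ↥(V ⊓ centralizer (A : Set G)) := by
      rw [h5]
      unfold mm at h4
      rw [← h4, mul_comm]
    exact Nat.eq_of_mul_eq_mul_right Nat.card_pos h9
  have hVX : ⁅V, X⁆ = ⊥ := by
    rw [Subgroup.commutator_eq_bot_iff_le_centralizer]
    intro v hv
    rw [Subgroup.mem_centralizer_iff]
    intro x hx
    exact hV.1 x (hXV hx) v hv
  have hXBc : X ≤ centralizer ((X ⊔ B : Subgroup G) : Set G) := by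
    rw [Subgroup.le_centralizer_iff]
    apply sup_le
    · intro v hv
      rw [Subgroup.mem_centralizer_iff]
      intro x hx
      exact hV.1 x (hXV hx) v (hXV hv)
    · exact inf_le_right
  have hle : ⁅V, X ⊔ B⁆ ≤ X := by
    rw [Subgroup.commutator_comm, Subgroup.commutator_le]
    intro g hg v hv
    have hn' : B ≤ normalizer (X : Set G) := inf_le_right.trans (centralizer_le_normalizer _)
    obtain ⟨x, hx, b, hb, rfl⟩ := (mem_sup_of_le_normalizer' hn').1 hg
    have e1 : ⁅x * b, v⁆ = ⁅b, v⁆ := by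
      have hbv : b * v * b⁻¹ ∈ V := hVn.conj_mem v hv b
      calc ⁅x * b, v⁆ = (x * (b * v * b⁻¹)) * x⁻¹ * v⁻¹ := by rw [commutatorElement_def]; group
        _ = ((b * v * b⁻¹) * x) * x⁻¹ * v⁻¹ := by rw [hV.1 x (hXV hx) _ hbv]
        _ = ⁅b, v⁆ := by rw [commutatorElement_def]; group
    rw [e1, ← commutatorElement_inv]
    exact X.inv_mem (commutator_mem_commutator hv hb.1)
  refine ⟨⟨le_top, hXB, fun C hC hCg => ?_⟩, ?_, ?_⟩
  · rw [h8]; exact hA.2.2 C hC hCg
  · rw [Subgroup.commutator_eq_bot_iff_le_centralizer]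
    exact hle.trans hXBc
  · intro hne h0
    apply h3 hne
    rw [eq_bot_iff, ← h0]
    exact commutator_mono le_rfl le_sup_right

theorem cent_conj_normal {V : Subgroup G} [V.Normal] : (centralizer (V : Set G)).Normal := inferInstance

/-- `J(G) = ⨆ J(S)`, and J(S) ≤ J(G) -/
theorem JJ_sylow_le [Finite G] {p : ℕ} [hp : Fact p.Prime] (S : Sylow p G) : JJ p (S : Subgroup G) ≤ JJ p (⊤ : Subgroup G) := by
  rw [JJ_eq_iSup]; exact le_iSup (fun S : Sylow p G => JJ p (S : Subgroup G)) S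

theorem thomp_fact_iff [Finite G] {p : ℕ} [hp : Fact p.Prime] : IsThompsonFactorizable p G ↔ 
    ∀ S : Sylow p G, ∀ g : G, ∃ x ∈ pPrimeCore p G, ∃ c ∈ centralizer (OZ p (S : Subgroup G) : Set G), ∃ n ∈ normalizer (JJ p (S : Subgroup G) : Set G), g = x * c * n := by
  unfold IsThompsonFactorizable
  simp only [thompsonSubgroupOf_eq]
  exact Iff.rfl

theorem thomp_fact_of_le [Finite G] {p : ℕ} [hp : Fact p.Prime] (h : JJ p (⊤ : Subgroup G) ≤ centralizer (VV p G : Set G)) : IsThompsonFactorizable p G := by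
  rw [thomp_fact_iff]
  intro S g
  haveI := VV_normal (G := G) p
  set C := centralizer (VV p G : Set G) with hC
  haveI : C.Normal := by rw [hC]; infer_instance
  have h1 : IsSylowOf p ((S : Subgroup G) ⊓ C) C := isSylowOf_inf_of_normal (sylow_isSylowOf S) le_top (by rw [Subgroup.normalizer_eq_top])
  have h2 := frattini_arg_sup h1
  have h3 : JJ p ((S : Subgroup G) ⊓ C) = JJ p (S : Subgroup G) := by
    apply JJ_eq_of_le _ inf_le_left
    exact le_inf (JJ_le _) ((JJ_sylow_le S).trans h)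
  have h4 : g ∈ C ⊔ normalizer ((JJ p (S : Subgroup G) : Subgroup G) : Set G) := by
    have h5 : normalizer (((S : Subgroup G) ⊓ C : Subgroup G) : Set G) ≤ normalizer ((JJ p (S : Subgroup G) : Subgroup G) : Set G) := by
      rw [← h3]; exact normalizer_le_JJ _
    have h6 : (⊤ : Subgroup G) ≤ C ⊔ normalizer ((JJ p (S : Subgroup G) : Subgroup G) : Set G) := by
      rw [← h2]
      first
        | exact sup_le_sup_left h5 _
        | exact sup_le (h5.trans le_sup_right) le_sup_left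
    exact h6 (mem_top g)
  obtain ⟨c, hc, n, hn, rfl⟩ := Subgroup.mem_sup_of_normal_left.1 h4
  exact ⟨1, one_mem _, c, centralizer_le (OZ_le_VV S) hc, n, hn, by rw [one_mul]⟩

theorem le_of_thomp_fact [Finite G] {p : ℕ} [hp : Fact p.Prime] (hO : pPrimeCore p G = ⊥) (h : IsThompsonFactorizable p G) : JJ p (⊤ : Subgroup G) ≤ centralizer (VV p G : Set G) := by
  rw [thomp_fact_iff] at h
  rw [JJ_eq_iSup]
  apply iSup_le
  intro S
  rw [Subgroup.le_centralizer_iff]
  apply iSup_le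
  intro T
  obtain ⟨g, rfl⟩ := MulAction.exists_smul_eq G S T
  obtain ⟨x, hx, c, hc, n, hn, hg⟩ := h S g⁻¹
  rw [hO, Subgroup.mem_bot] at hx
  rw [hx, one_mul] at hg
  have hg' : g = n⁻¹ * c⁻¹ := by rw [← mul_inv_rev, ← hg, inv_inv]
  change OZ p ((MulAut.conj g • (S : Subgroup G) : Subgroup G)) ≤ _
  rw [OZ_smul]
  rintro _ ⟨z, hz, rfl⟩
  change g * z * g⁻¹ ∈ _
  have h1 : g * z * g⁻¹ = n⁻¹ * z * n := by
    have h2 : z * c⁻¹ = c⁻¹ * z := Subgroup.mem_centralizer_iff.1 ((centralizer (OZ p (S : Subgroup G) : Set G)).inv_mem hc) z hz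
    rw [hg']
    calc n⁻¹ * c⁻¹ * z * (n⁻¹ * c⁻¹)⁻¹ = n⁻¹ * (c⁻¹ * z) * c * n := by group
      _ = n⁻¹ * (z * c⁻¹) * c * n := by rw [h2]
      _ = _ := by group
  rw [h1, Subgroup.mem_centralizer_iff]
  intro y hy
  have h3 : n * y * n⁻¹ ∈ JJ p (S : Subgroup G) := (Subgroup.mem_normalizer_iff.1 hn y).1 hy
  have h4 : n * y * n⁻¹ * z = z * (n * y * n⁻¹) := Subgroup.mem_centralizer_iff.1 (OZ_le_cent p _ hz) _ (JJ_le _ h3)
  calc y * (n⁻¹ * z * n) = n⁻¹ * (n * y * n⁻¹ * z) * n := by group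
    _ = n⁻¹ * (z * (n * y * n⁻¹)) * n := by rw [h4]
    _ = _ := by group

end CfsgH1
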