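import Cfsg.Agent.H1.Subn
import Cfsg.Agent.H1.Fit
import Cfsg.Agent.H2.Fitting

set_option autoImplicit false

open scoped Pointwise commutatorElement

namespace CfsgH1

universe u v w
variable {G : Type u} [Group G]

open Subgroup Cfsg

theorem isSubnormal_subgroupOf_conj {H K : Subgroup G} (h : (H.subgroupOf K).IsSubnormal) (x : G) : 
    ((MulAut.conj x • H).subgroupOf (MulAut.conj x • K)).IsSubnormal := by
  have h1 := IsSubnormal.map (f := (Subgroup.equivSMul (MulAut.conj x) K).toMonoidHom) 
    (Subgroup.equivSMul (MulAut.conj x) K).surjective h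
  convert h1 using 1
  ext y
  constructor
  · intro hy
    rw [mem_subgroupOf, mem_conj_smul] at hy
    have hy2 := y.2
    rw [mem_conj_smul] at hy2
    refine ⟨⟨x⁻¹ * y * x, hy2⟩, hy, ?_⟩
    apply Subtype.ext
    change x * (x⁻¹ * y * x) * x⁻¹ = y
    group
  · rintro ⟨z, hz, rfl⟩
    rw [mem_subgroupOf, mem_conj_smul]
    change x⁻¹ * (x * z * x⁻¹) * x ∈ H
    have : x⁻¹ * (x * z * x⁻¹) * x = (z : G) := by group
    rw [this]; exact hz

theorem isSubnormal_subgroupOf_of_le {H K L : Subgroup G} (h : (H.subgroupOf K).IsSubnormal) (hLK : L ≤ K) : 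
    (H.subgroupOf L).IsSubnormal := by
  have h1 := IsSubnormal.comap (Subgroup.inclusion hLK) h
  exact h1

/-- Wielandt's zipper lemma -/
theorem zipper [Finite G] (n : ℕ) : ∀ H : Subgroup G, Nat.card G - Nat.card H = n → 
    (∀ K : Subgroup G, K ≠ ⊤ → H ≤ K → (H.subgroupOf K).IsSubnormal) → ¬ H.IsSubnormal → 
    ∀ M K : Subgroup G, IsCoatom M → IsCoatom K → H ≤ M → H ≤ K → M = K := by
  induction n using Nat.strong_induction_on with
  | _ n ih =>
  intro H hn hsub hns
  have hnt : normalizer (H : Set G) ≠ ⊤ := by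
    intro h
    rw [normalizer_eq_top_iff] at h
    exact hns h.isSubnormal
  obtain ⟨M₁, hM₁, hNM₁⟩ := (eq_top_or_exists_le_coatom _).resolve_left hnt
  have key : ∀ K : Subgroup G, IsCoatom K → H ≤ K → K = M₁ := by
    intro K hK hHK
    by_contra hne
    have hKn : ¬ (H.subgroupOf K).Normal := by
      intro h
      have h1 := (le_normalizer_of_normal_subgroupOf hHK h).trans hNM₁
      exact hne ((hK.le_iff.1 h1).resolve_left hM₁.1).symm
    obtain ⟨x, hx1, hx2, -⟩ := exists_conj_le_normalizer (hsub K hK.1 hHK) hKn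
    set Hx := MulAut.conj (x : G) • H with hHx
    have hHxK : Hx ≤ K := by
      intro y hy
      rw [hHx, mem_conj_smul] at hy
      have : y = x * ((x : G)⁻¹ * y * x) * (x : G)⁻¹ := by group
      rw [this]
      exact K.mul_mem (K.mul_mem x.2 (hHK hy)) (K.inv_mem x.2)
    have hHxn : Hx ≤ normalizer (H : Set G) := by
      rw [le_normalizer_iff_conj]
      rw [le_normalizer_iff_conj] at hx1
      intro y hy h hh
      have hy' : (⟨y, hHxK hy⟩ : K) ∈ MulAut.conj x • H.subgroupOf K := by
        rw [conj_smul_subgroupOf]; exact hy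
      exact hx1 ⟨y, hHxK hy⟩ hy' ⟨h, hHK hh⟩ hh
    have hHxH : ¬ Hx ≤ H := by
      intro h
      apply hx2
      rw [conj_smul_subgroupOf]
      intro y hy
      exact h hy
    have hlt : H < H ⊔ Hx := lt_of_le_of_ne le_sup_left (fun h => hHxH (h ▸ le_sup_right))
    have hc1 := card_lt_card_of_lt hlt
    have hc2 : Nat.card (H ⊔ Hx : Subgroup G) ≤ Nat.card G := Subgroup.card_le_card_group _
    have h1 := ih (Nat.card G - Nat.card (H ⊔ Hx : Subgroup G)) (by omega) (H ⊔ Hx) rfl ?_ ?_ M₁ K hM₁ hK 
      (sup_le (le_normalizer.trans hNM₁) (hHxn.trans hNM₁)) (sup_le hHK hHxK)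
    · exact hne h1.symm
    · intro X hX hTX
      have h2 := hsub X hX (le_sup_left.trans hTX)
      have h3 : MulAut.conj (x : G)⁻¹ • X ≠ ⊤ := by
        intro h
        apply hX
        rw [eq_top_iff]
        intro y _
        have : (x : G)⁻¹ * y * x ∈ MulAut.conj (x : G)⁻¹ • X := by rw [h]; trivial
        rw [mem_conj_smul] at this
        have e : (x : G)⁻¹⁻¹ * ((x : G)⁻¹ * y * x) * (x : G)⁻¹ = y := by group
        rwa [e] at this
      have h4 : H ≤ MulAut.conj (x : G)⁻¹ • X := by
        intro y hy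
        rw [mem_conj_smul]
        apply hTX
        apply mem_sup_right
        rw [hHx, mem_conj_smul]
        have e : (x : G)⁻¹ * ((x : G)⁻¹⁻¹ * y * (x : G)⁻¹) * x = y := by group
        rw [e]; exact hy
      have h5 := isSubnormal_subgroupOf_conj (hsub _ h3 h4) x
      rw [← mul_smul, ← map_mul, mul_inv_cancel, map_one, one_smul] at h5
      rw [subgroupOf_sup_eq (le_sup_left.trans hTX) (le_sup_right.trans hTX)]
      exact isSubnormal_sup h2 h5
    · intro h
      apply hns
      refine IsSubnormal.step H (H ⊔ Hx) le_sup_left h ?_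
      exact normal_subgroupOf_of_le_normalizer (sup_le le_normalizer hHxn)
  intro M K hM hK hHM hHK
  rw [key M hM hHM, key K hK hHK]

/-- Wielandt's subnormality criterion -/
theorem wielandt_subnormal (n : ℕ) : ∀ (G : Type u) [Group G] [Finite G], Nat.card G = n → ∀ A : Subgroup G,
    (∀ g : G, (A.subgroupOf (A ⊔ MulAut.conj g • A)).IsSubnormal) → A.IsSubnormal := by
  induction n using Nat.strong_induction_on with
  | _ n ih =>
  intro G _ _ hn A h
  by_contra hns
  have hsub : ∀ K : Subgroup G, K ≠ ⊤ → A ≤ K → (A.subgroupOf K).IsSubnormal := by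
    intro K hK hAK
    apply ih (Nat.card K) (by rw [← hn]; exact card_lt_card_of_ne_top hK) K rfl
    intro g
    have h1 := h g
    have hconj : MulAut.conj (g : G) • A ≤ K := by
      intro y hy
      rw [mem_conj_smul] at hy
      have : y = g * ((g : G)⁻¹ * y * g) * (g : G)⁻¹ := by group
      rw [this]
      exact K.mul_mem (K.mul_mem g.2 (hAK hy)) (K.inv_mem g.2)
    -- transport
    have e1 : A.subgroupOf K ⊔ MulAut.conj g • A.subgroupOf K = (A ⊔ MulAut.conj (g : G) • A).subgroupOf K := by
      rw [subgroupOf_sup_eq hAK hconj, conj_smul_subgroupOf]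
    rw [e1]
    have h2 := IsSubnormal.comap ((K.subtype.comp ((A ⊔ MulAut.conj (g : G) • A).subgroupOf K).subtype).codRestrict 
      (A ⊔ MulAut.conj (g : G) • A) (fun x => x.2)) h1
    exact h2
  have hAt : A ≠ ⊤ := by
    rintro rfl
    exact hns IsSubnormal.top
  obtain ⟨M, hM, hAM⟩ := (eq_top_or_exists_le_coatom A).resolve_left hAt
  have hz := zipper _ A rfl hsub hns
  have h1 : ∀ g : G, MulAut.conj g • A ≤ M := by
    intro g
    have h2 : A ⊔ MulAut.conj g • A ≠ ⊤ := by
      intro h3
      apply hns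
      have h4 := h g
      rw [h3] at h4
      have h5 := h4.trans' IsSubnormal.top
      rwa [map_subgroupOf_eq_of_le le_top] at h5
    obtain ⟨K, hK, hAK⟩ := (eq_top_or_exists_le_coatom _).resolve_left h2
    have h3 := hz M K hM hK hAM (le_sup_left.trans hAK)
    rw [h3]
    exact le_sup_right.trans hAK
  have h2 : normalClosure (A : Set G) ≤ M := by
    rw [normalClosure, closure_le]
    intro x hx
    obtain ⟨a, ha, hax⟩ := Group.mem_conjugatesOfSet_iff.1 hx
    obtain ⟨c, hc⟩ := isConj_iff.1 hax
    apply h1 c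
    rw [mem_conj_smul, ← hc]
    have : c⁻¹ * (c * a * c⁻¹) * c = a := by group
    rw [this]; exact ha
  apply hns
  refine IsSubnormal.trans (K := normalClosure (A : Set G)) le_normalClosure (hsub _ ?_ le_normalClosure) 
    (normalClosure_normal.isSubnormal)
  intro h
  rw [h] at h2
  exact hM.1 (top_le_iff.1 h2)

end CfsgH1
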